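import Cfsg.Statements.S0037
import Cfsg.Agent.Lib.Frob

set_option autoImplicit false
open Pointwise
open Cfsg

namespace Cfsg.Agent.S0037

open Subgroup Cfsg.Agent.Lib.Frob Cfsg.Agent.Lib.SchurZas

/-- Of two Frobenius complements in one finite group, the one of smaller (or equal) order is conjugate to a subgroup of the other. -/
theorem result {G : Type*} [Group G] [Finite G] (H H₀ : Subgroup G)
    (hH : Cfsg.IsFrobeniusComplement H) (hH₀ : Cfsg.IsFrobeniusComplement H₀) (hle : Nat.card H₀ ≤ Nat.card H) :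
    ∃ g : G, MulAut.conj g • H₀ ≤ H := by
  have hTI : TI H := hH.2.2
  have hTI₀ : TI H₀ := hH₀.2.2
  obtain ⟨g, hg⟩ := exists_conj_inf_ne_bot hTI₀ hTI hH₀.1 hH.1
  set H₁ := MulAut.conj g • H with hH₁
  have hTI₁ : TI H₁ := hTI.conj g
  suffices h : H₀ ≤ H₁ by
    refine ⟨g⁻¹, ?_⟩
    rw [map_inv, ← subset_pointwise_smul_iff]
    exact h
  set D := H₀ ⊓ H₁ with hD
  by_contra hcon
  have hD0 : D ≠ H₀ := fun h => hcon (inf_eq_left.mp h)
  have hDlt : Nat.card D < Nat.card H₀ := Cfsg.Agent.Lib.Basic.card_lt_card_of_lt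
    (lt_of_le_of_ne inf_le_left hD0)
  have hc1 : Nat.card H₁ = Nat.card H := card_conj_smul g H
  have hD1 : D ≠ H₁ := by
    intro h
    rw [h, hc1] at hDlt
    omega
  have hDTI : TI D := by
    intro x hx
    rw [eq_bot_iff]
    intro z hz
    by_contra hz1
    rw [mem_bot] at hz1
    have h1 := (mem_inf.mp hz).1
    have h2 := (mem_inf.mp hz).2
    rw [hD, smul_inf] at h2
    apply hx
    exact mem_inf.mpr ⟨hTI₀.mem_of_inf hz1 (mem_inf.mp h1).1 (mem_inf.mp h2).1,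
      hTI₁.mem_of_inf hz1 (mem_inf.mp h1).2 (mem_inf.mp h2).2⟩
  have hsub : conjSet H₀ ∩ conjSet H₁ ⊆ conjSet D := by
    rintro z ⟨⟨hz1, a, ha⟩, ⟨-, b, hb⟩⟩
    rw [mem_conj_smul_iff] at ha hb
    have hw1 : a⁻¹ * z * a ≠ 1 := by
      intro h
      apply hz1
      have : z = a * (a⁻¹ * z * a) * a⁻¹ := by group
      rw [this, h]; group
    have hw2 : a⁻¹ * z * a ∈ MulAut.conj (a⁻¹ * b) • H₁ := by
      rw [mem_conj_smul_iff]
      have e : (a⁻¹ * b)⁻¹ * (a⁻¹ * z * a) * (a⁻¹ * b) = b⁻¹ * z * b := by group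
      rw [e]; exact hb
    obtain ⟨l, hl, hlg⟩ := hTI₁.conj_of_inf_ne_bot (L := H₀) (g₁ := 1) (g₂ := a⁻¹ * b)
      (by rw [map_one, one_smul]; exact hg)
      (by
        intro h
        have : a⁻¹ * z * a ∈ H₀ ⊓ MulAut.conj (a⁻¹ * b) • H₁ := mem_inf.mpr ⟨ha, hw2⟩
        rw [h, mem_bot] at this
        exact hw1 this)
    rw [map_one, one_smul] at hlg
    refine ⟨hz1, a * l⁻¹, ?_⟩
    rw [mem_conj_smul_iff]
    have e : (a * l⁻¹)⁻¹ * z * (a * l⁻¹) = l * (a⁻¹ * z * a) * l⁻¹ := by group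
    rw [e]
    refine mem_inf.mpr ⟨H₀.mul_mem (H₀.mul_mem hl ha) (H₀.inv_mem hl), ?_⟩
    rw [hlg, map_mul, mul_smul]
    rw [mem_conj_smul_iff]
    have e : l⁻¹ * (l * (a⁻¹ * z * a) * l⁻¹) * l = a⁻¹ * z * a := by group
    rw [e]; exact hw2
  have k1 := card_conjSet_add_index hTI₀
  have k2 := card_conjSet_add_index hTI₁
  have k3 := card_conjSet_add_index hDTI
  have k4 := Set.ncard_union_add_ncard_inter (conjSet H₀) (conjSet H₁)
  have k5 : (conjSet H₀ ∩ conjSet H₁).ncard ≤ (conjSet D).ncard := Set.ncard_le_ncard hsub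
  have k6 : (conjSet H₀ ∪ conjSet H₁).ncard < (Set.univ : Set G).ncard := by
    apply Set.ncard_lt_ncard _ (Set.toFinite _)
    refine ⟨Set.subset_univ _, fun h => ?_⟩
    rcases h (Set.mem_univ (1 : G)) with h6 | h6
    · exact h6.1 rfl
    · exact h6.1 rfl
  rw [Set.ncard_univ] at k6
  change (conjSet H₀ ∪ conjSet H₁).ncard + (conjSet H₀ ∩ conjSet H₁).ncard
    = Nat.card (conjSet H₀) + Nat.card (conjSet H₁) at k4
  change (conjSet H₀ ∩ conjSet H₁).ncard ≤ Nat.card (conjSet D) at k5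
  have k7 : ∀ L : Subgroup G, D ≤ L → D ≠ L → 2 * L.index ≤ D.index := by
    intro L hL hne
    rw [← relIndex_mul_index hL]
    apply Nat.mul_le_mul_right
    have h1 : D.relIndex L ≠ 1 := fun h => hne (le_antisymm hL (relIndex_eq_one.mp h))
    have h2 : D.relIndex L ≠ 0 := (index_ne_zero_of_finite : (D.subgroupOf L).index ≠ 0)
    omega
  have k8 := k7 H₀ inf_le_left hD0
  have k9 := k7 H₁ inf_le_right hD1
  omega

end Cfsg.Agent.S0037
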