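import Cfsg.Statements.S0041
import Cfsg.Agent.Lib.Frob

set_option autoImplicit false
open Cfsg

namespace Cfsg.Agent.S0041

open Subgroup Cfsg.Agent.Lib.Frob Cfsg.Agent.Lib.SchurZas Cfsg.Agent.Lib.Partition in
theorem aux {A : Type*} [Group A] [Finite A] {p q : ℕ} (hp : p.Prime) (hq : q.Prime) (hpq : p < q)
    (hc : Nat.card A = p * q) (hnc : ¬ IsCyclic A) :
    (∀ a : A, a ≠ 1 → (orderOf a).Prime) ∧ (primeSubgroups A).card = q + 1 := by
  have : Fact p.Prime := ⟨hp⟩
  have : Fact q.Prime := ⟨hq⟩
  have hord : ∀ a : A, a ≠ 1 → (orderOf a).Prime := by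
    intro a ha
    have h1 : orderOf a ∣ p * q := hc ▸ orderOf_dvd_natCard a
    rcases (Nat.dvd_mul.mp h1) with ⟨x, y, hx, hy, hxy⟩
    rcases (Nat.dvd_prime hp).mp hx with rfl | rfl <;> rcases (Nat.dvd_prime hq).mp hy with rfl | rfl
    · exfalso; apply ha; apply orderOf_eq_one_iff.mp; rw [← hxy]
    · rw [← hxy, one_mul]; exact hq
    · rw [← hxy, mul_one]; exact hp
    · exfalso; apply hnc; exact isCyclic_of_orderOf_eq_card a (by rw [hc, hxy])
  refine ⟨hord, ?_⟩
  have hsum := sum_card_sub_one (primeSubgroups A) (cover_primeSubgroups hord)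
    (fun B hB C hC hne => inf_eq_bot_of_prime (mem_primeSubgroups.mp hB)
      (mem_primeSubgroups.mp hC) hne)
  obtain ⟨Q⟩ := (inferInstance : Nonempty (Sylow q A))
  have hQc : Nat.card Q = q := by
    have h1 := Q.card_eq_multiplicity
    rw [h1, hc, Nat.factorization_mul hp.ne_zero hq.ne_zero, Finsupp.add_apply,
      hp.factorization, hq.factorization, Finsupp.single_apply, Finsupp.single_apply,
      if_neg hpq.ne, if_pos rfl, zero_add, pow_one]
  have hQn : (Q : Subgroup A).Normal := by
    have h1 := card_sylow_modEq_one q A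
    have h2 : Nat.card (Sylow q A) ∣ p := by
      have h3 := Q.card_dvd_index
      have h4 := (Q : Subgroup A).card_mul_index
      have h5 : Nat.card (Q : Subgroup A) = q := hQc
      rw [h5, hc, mul_comm p q] at h4
      rwa [Nat.eq_of_mul_eq_mul_left hq.pos h4] at h3
    have h3 : Nat.card (Sylow q A) = 1 := by
      rcases (Nat.dvd_prime hp).mp h2 with h | h
      · exact h
      · rw [h] at h1
        have h4 : p % q = 1 % q := h1
        rw [Nat.mod_eq_of_lt hpq, Nat.mod_eq_of_lt hq.one_lt] at h4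
        exact absurd h4 hp.one_lt.ne'
    have : Subsingleton (Sylow q A) := (Nat.card_eq_one_iff_unique.mp h3).1
    exact Sylow.normal_of_subsingleton Q
  have hQmem : (Q : Subgroup A) ∈ primeSubgroups A := by
    rw [mem_primeSubgroups]
    have h5 : Nat.card (Q : Subgroup A) = q := hQc
    rw [h5]; exact hq
  have hQc' : Nat.card (Q : Subgroup A) = q := hQc
  classical
  rw [← Finset.add_sum_erase _ _ hQmem, hQc'] at hsum
  have h2 : ∀ B ∈ (primeSubgroups A).erase (Q : Subgroup A), Nat.card B - 1 = p - 1 := by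
    intro B hB
    have hB1 := (Finset.mem_erase.mp hB).1
    have hB2 := mem_primeSubgroups.mp (Finset.mem_erase.mp hB).2
    have h3 : Nat.card B ∣ p * q := hc ▸ card_subgroup_dvd_card B
    rcases hB2.dvd_mul.mp h3 with h | h
    · rw [(Nat.prime_dvd_prime_iff_eq hB2 hp).mp h]
    · exfalso
      apply hB1
      have hBc : Nat.card B = q := (Nat.prime_dvd_prime_iff_eq hB2 hq).mp h
      have hBq : IsPGroup q B := IsPGroup.of_card (n := 1) (by rw [hBc, pow_one])
      have hle : B ≤ Q := by
        obtain ⟨R, hR⟩ := hBq.exists_le_sylow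
        have h1 : Nat.card (Sylow q A) = 1 ∨ True := Or.inr trivial
        have hu := Sylow.unique_of_normal Q hQn
        have : R = Q := by
          have := hu
          exact Subsingleton.elim R Q
        rw [← this]; exact hR
      exact eq_of_le_of_card_ge hle (by rw [hQc', hBc])
  rw [Finset.sum_congr rfl h2, Finset.sum_const, smul_eq_mul, hc] at hsum
  have h3 := Finset.card_erase_of_mem hQmem
  have h4 : 0 < (primeSubgroups A).card := Finset.card_pos.mpr ⟨_, hQmem⟩
  have hp1 := hp.one_lt
  have hq1 := hq.one_lt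
  obtain ⟨a, rfl⟩ : ∃ a, p = a + 1 := ⟨p - 1, by omega⟩
  obtain ⟨b, rfl⟩ : ∃ b, q = b + 1 := ⟨q - 1, by omega⟩
  have ha : 0 < a := by omega
  rw [h3] at hsum
  simp only [Nat.add_sub_cancel] at hsum
  have e1 : (a + 1) * (b + 1) - 1 = b + a * (b + 1) := by
    have : (a + 1) * (b + 1) = b + a * (b + 1) + 1 := by ring
    omega
  rw [e1] at hsum
  have h5 : ((primeSubgroups A).card - 1) * a = (b + 1) * a := by
    have := Nat.add_left_cancel hsum
    rw [this]; ring
  have h6 := Nat.eq_of_mul_eq_mul_right ha h5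
  omega

/-- A group acting on a nontrivial abelian group so that no nonidentity element has a nonidentity fixed point is cyclic, provided it is abelian or its order is a product of two (possibly equal) primes. -/
theorem result {G : Type*} [Group G] [Finite G] (A V : Subgroup G) [IsMulCommutative V]
    (hV : V ≠ ⊥) (hAV : A ≤ Subgroup.normalizer (V : Set G)) (hfpf : ∀ a ∈ A, a ≠ 1 → V ⊓ Subgroup.centralizer {a} = ⊥)
    (hA : IsMulCommutative A ∨ ∃ p q : ℕ, p.Prime ∧ q.Prime ∧ Nat.card A = p * q) : IsCyclic A := by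
  rcases hA with hA | ⟨p, q, hp, hq, hc⟩
  · exact Cfsg.Agent.Lib.Frob.isCyclic_of_fpf_comm inferInstance hV hAV hfpf hA
  · by_contra hnc
    rcases lt_trichotomy p q with h | h | h
    · obtain ⟨h1, h2⟩ := aux hp hq h hc hnc
      exact Cfsg.Agent.Lib.Frob.false_of_partition_fpf inferInstance hV hAV hfpf hq
        (hc ▸ dvd_mul_left q p) h1 h2
    · subst h
      have : Fact p.Prime := ⟨hp⟩
      have hA : IsMulCommutative A := by
        have h1 : Nat.card A = p ^ 2 := by rw [hc, sq]
        exact ⟨⟨IsPGroup.commutative_of_card_eq_prime_sq h1⟩⟩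
      exact hnc (Cfsg.Agent.Lib.Frob.isCyclic_of_fpf_comm inferInstance hV hAV hfpf hA)
    · obtain ⟨h1, h2⟩ := aux hq hp h (by rw [hc, mul_comm]) hnc
      exact Cfsg.Agent.Lib.Frob.false_of_partition_fpf inferInstance hV hAV hfpf hp
        (hc ▸ dvd_mul_right p q) h1 h2

end Cfsg.Agent.S0041
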