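import Cfsg.Statements.S0068
import Cfsg.Agent.Lib.Frob

set_option autoImplicit false
open Cfsg

namespace Cfsg.Agent.S0068

open Subgroup Cfsg.Agent.Lib.SchurZas Cfsg.Agent.Lib.Basic in
theorem aux {G : Type*} [Group G] [Finite G] (K H : Subgroup G) [K.Normal]
    (hK : K ≠ ⊥) (hfpf : ∀ h ∈ H, h ≠ 1 → K ⊓ Subgroup.centralizer {h} = ⊥)
    (s : G) (hs : s ∈ H) (hs2 : orderOf s = 2) : ∀ k ∈ K, s * k * s⁻¹ = k⁻¹ := by
  have hs1 : s ≠ 1 := by rintro rfl; simp at hs2
  have hss : s * s = 1 := by rw [← pow_two, ← hs2, pow_orderOf_eq_one]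
  have hKn : K.Normal := inferInstance
  have hinj : Function.Injective (fun k : K => (⟨(k : G)⁻¹ * (s * k * s⁻¹),
      K.mul_mem (K.inv_mem k.2) (hKn.conj_mem _ k.2 s)⟩ : K)) := by
    intro a b hab
    have h1 : (a : G)⁻¹ * (s * a * s⁻¹) = (b : G)⁻¹ * (s * b * s⁻¹) := congrArg Subtype.val hab
    have h2 : (a : G) * (b : G)⁻¹ ∈ K ⊓ centralizer {s} := by
      refine mem_inf.mpr ⟨K.mul_mem a.2 (K.inv_mem b.2), ?_⟩
      rw [mem_centralizer_iff]
      rintro z rfl
      have h3 : z * a * z⁻¹ = a * ((b : G)⁻¹ * (z * b * z⁻¹)) := by rw [← h1]; group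
      have h4 : z * (a : G) = a * (b : G)⁻¹ * (z * b) := by
        calc z * (a : G) = (z * a * z⁻¹) * z := by group
          _ = a * ((b : G)⁻¹ * (z * b * z⁻¹)) * z := by rw [h3]
          _ = _ := by group
      calc z * ((a : G) * (b : G)⁻¹) = (z * a) * (b : G)⁻¹ := by group
        _ = a * (b : G)⁻¹ * (z * b) * (b : G)⁻¹ := by rw [h4]
        _ = _ := by group
    rw [hfpf s hs hs1, mem_bot] at h2
    exact Subtype.ext (mul_inv_eq_one.mp h2)
  intro k hk
  obtain ⟨a, ha⟩ := Finite.surjective_of_injective hinj ⟨k, hk⟩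
  have ha' : (a : G)⁻¹ * (s * a * s⁻¹) = k := congrArg Subtype.val ha
  have hsi : s⁻¹ = s := inv_eq_of_mul_eq_one_right hss
  rw [← ha', hsi]
  calc s * ((a : G)⁻¹ * (s * a * s)) * s = s * (a : G)⁻¹ * s * a * (s * s) := by group
    _ = s * (a : G)⁻¹ * s * a := by rw [hss, mul_one]
    _ = ((a : G)⁻¹ * (s⁻¹ * a * s⁻¹))⁻¹ := by group
    _ = _ := by rw [hsi]

/-- Frobenius complements of even order: if H complements a nontrivial normal subgroup K, each nonidentity element of H has trivial centraliser in K, and H has even order, then H contains a unique involution s, K is abelian, and s inverts every element of K. -/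
theorem result {G : Type*} [Group G] [Finite G] (K H : Subgroup G) [K.Normal]
    (hc : Subgroup.IsComplement' K H) (hK : K ≠ ⊥) (hfpf : ∀ h ∈ H, h ≠ 1 → K ⊓ Subgroup.centralizer {h} = ⊥)
    (heven : 2 ∣ Nat.card H) :
    (∃ s ∈ H, orderOf s = 2 ∧ (∀ t ∈ H, orderOf t = 2 → t = s) ∧ ∀ k ∈ K, s * k * s⁻¹ = k⁻¹) ∧ IsMulCommutative K := by
  have hp : Fact (Nat.Prime 2) := ⟨Nat.prime_two⟩
  obtain ⟨s, hs⟩ := exists_prime_orderOf_dvd_card' 2 heven
  have hs2 : orderOf (s : G) = 2 := by rw [Subgroup.orderOf_coe]; exact hs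
  have hinv := aux K H hK hfpf s s.2 hs2
  refine ⟨⟨s, s.2, hs2, ?_, hinv⟩, ?_⟩
  · intro t ht ht2
    have hinv2 := aux K H hK hfpf t ht ht2
    by_contra hne
    obtain ⟨k, hk1⟩ := Subgroup.ne_bot_iff_exists_ne_one.mp hK
    have h1 : (k : G) ∈ K ⊓ Subgroup.centralizer {(s : G)⁻¹ * t} := by
      refine Subgroup.mem_inf.mpr ⟨k.2, ?_⟩
      rw [Subgroup.mem_centralizer_iff]
      rintro z rfl
      have h2 := hinv k k.2
      have h3 := hinv2 k k.2
      rw [← h2] at h3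
      calc (s : G)⁻¹ * t * k = (s : G)⁻¹ * (t * k * t⁻¹) * t := by group
        _ = (s : G)⁻¹ * (s * k * (s : G)⁻¹) * t := by rw [h3]
        _ = _ := by group
    rw [hfpf _ (H.mul_mem (H.inv_mem s.2) ht) (fun h => hne (inv_mul_eq_one.mp h).symm),
      Subgroup.mem_bot] at h1
    exact hk1 (Subtype.ext h1)
  · refine ⟨⟨fun a b => Subtype.ext ?_⟩⟩
    have h1 := hinv _ (K.mul_mem a.2 b.2)
    have h2 := hinv a a.2
    have h3 := hinv b b.2
    have h4 : (s : G) * (a * b) * (s : G)⁻¹ = (a : G)⁻¹ * (b : G)⁻¹ := by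
      rw [← h2, ← h3]; group
    rw [h4, mul_inv_rev] at h1
    have h5 := congrArg (fun x => x⁻¹) h1
    simpa using h5.symm

end Cfsg.Agent.S0068
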