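import Cfsg.Statements.S0040
import Cfsg.Agent.Lib.FrobC

set_option autoImplicit false
open Cfsg

namespace Cfsg.Agent.S0040

open Subgroup Cfsg.Agent.Lib

/-- Sylow subgroups of Frobenius complements: if H complements a nontrivial normal subgroup K and every nonidentity element of H has trivial centraliser in K, then each Sylow subgroup of H is cyclic or isomorphic to a generalized quaternion group. -/
theorem result {G : Type*} [Group G] [Finite G] (K H : Subgroup G) [K.Normal]
    (hc : Subgroup.IsComplement' K H) (hK : K ≠ ⊥) (hfpf : ∀ h ∈ H, h ≠ 1 → K ⊓ Subgroup.centralizer {h} = ⊥)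
    (p : ℕ) [Fact p.Prime] (P : Sylow p H) :
    IsCyclic P ∨ ∃ n : ℕ, Nonempty (P ≃* QuaternionGroup (2 ^ n)) := by
  by_cases hH : H = ⊥
  · left
    have : Subsingleton H := by rw [hH]; infer_instance
    infer_instance
  obtain ⟨-, hcop⟩ := FrobC.coprime_of_fpf hc hK hH hfpf
  have hPle : (P : Subgroup H).map H.subtype ≤ H := map_subtype_le _
  have hu : ∀ x y : P, orderOf x = p → orderOf y = p → x ∈ zpowers y := by
    intro x y hx hy
    have h3 := FrobC.unique_of_fpf (P := (P : Subgroup H).map H.subtype) (K := K) (by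
        rw [normalizer_eq_top_iff.mpr (inferInstance : K.Normal)]; exact le_top) hK
      (Nat.Coprime.coprime_dvd_left (card_dvd_of_le hPle) hcop) (fun h hh => hfpf h (hPle hh))
      (P.isPGroup'.map _) (x := ((x : H) : G)) (y := ((y : H) : G)) ⟨x, x.2, rfl⟩ ⟨y, y.2, rfl⟩
      (by rw [orderOf_coe, orderOf_coe]; exact hx) (by rw [orderOf_coe, orderOf_coe]; exact hy)
    obtain ⟨k, hk⟩ := mem_zpowers_iff.mp h3
    exact mem_zpowers_iff.mpr ⟨k, Subtype.ext (Subtype.ext (by push_cast; exact hk))⟩
  rcases PGrpF.unique_imp P.isPGroup' hu with h | ⟨-, n, h⟩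
  · exact Or.inl h
  · exact Or.inr ⟨n, h⟩

end Cfsg.Agent.S0040
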