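import Cfsg.Statements.S0868
import Cfsg.Agent.Lib.CharClifford

set_option autoImplicit false
open scoped ComplexConjugate
open Cfsg

namespace Cfsg.Agent.S0868

open Lib.CharBasic Lib.CharInd Lib.CharNormal Lib.CharClifford Lib.CharKer

/-- `η` for a product `β χ`. -/
theorem inner_eta {G : Type*} [Group G] [Fintype G] (N : Subgroup G) [hN : N.Normal] [Fintype N]
    {χ ψ : G → ℂ} (hχ : IsCharacter G χ) (hψ : IsCharacter G ψ) (γ : G → ℂ)
    (hγ : IsIrrCharacter G γ) [Decidable (∀ n ∈ N, γ n = γ 1)] :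
    classInner (fun g => (Nat.card N : ℂ)⁻¹ * ∑ n : N, ψ ((n : G) * g) *
      (starRingEnd ℂ) (χ ((n : G) * g))) γ =
      if (∀ n ∈ N, γ n = γ 1) then classInner ψ (γ * χ) else 0 := by
  classical
  have hNc : (Nat.card N : ℂ) ≠ 0 := Nat.cast_ne_zero.mpr Nat.card_pos.ne'
  -- general swap formula
  have key : classInner (fun g => (Nat.card N : ℂ)⁻¹ * ∑ n : N, ψ ((n : G) * g) *
      (starRingEnd ℂ) (χ ((n : G) * g))) γ =
      (Nat.card G : ℂ)⁻¹ * ∑ g : G, ψ g * (starRingEnd ℂ) (χ g) *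
        ((Nat.card N : ℂ)⁻¹ * ∑ n : N, (starRingEnd ℂ) (γ ((n : G) * g))) := by
    rw [classInner_def]
    congr 1
    have h1 : ∀ g : G, (Nat.card N : ℂ)⁻¹ * (∑ n : N, ψ ((n : G) * g) *
        (starRingEnd ℂ) (χ ((n : G) * g))) * (starRingEnd ℂ) (γ g) =
        ∑ n : N, (Nat.card N : ℂ)⁻¹ * (ψ ((n : G) * g) *
        (starRingEnd ℂ) (χ ((n : G) * g)) * (starRingEnd ℂ) (γ g)) := by
      intro g
      rw [mul_assoc, Finset.sum_mul, Finset.mul_sum]
    have h2 : ∀ g : G, ψ g * (starRingEnd ℂ) (χ g) *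
        ((Nat.card N : ℂ)⁻¹ * ∑ n : N, (starRingEnd ℂ) (γ ((n : G) * g))) =
        ∑ n : N, (Nat.card N : ℂ)⁻¹ * (ψ g * (starRingEnd ℂ) (χ g) *
          (starRingEnd ℂ) (γ ((n : G) * g))) := by
      intro g
      rw [Finset.mul_sum, Finset.mul_sum]
      exact Finset.sum_congr rfl fun n _ => by ring
    simp only [h1, h2]
    rw [Finset.sum_comm, Finset.sum_comm (s := (Finset.univ : Finset G))
      (t := (Finset.univ : Finset N)) (f := fun g n => (Nat.card N : ℂ)⁻¹ *
        (ψ g * (starRingEnd ℂ) (χ g) * (starRingEnd ℂ) (γ ((n : G) * g))))]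
    refine Fintype.sum_equiv (Equiv.inv N) _ _ fun n => ?_
    refine Fintype.sum_equiv (Equiv.mulLeft (n : G)) _ _ fun g => ?_
    simp
  rw [key]
  split_ifs with hker
  · rw [classInner_def]
    congr 1
    refine Finset.sum_congr rfl fun g _ => ?_
    have h3 : ∀ n : N, γ ((n : G) * g) = γ g := fun n =>
      (char_mul_of_eq_one (isChar_of_irr hγ) (hker n n.2) g).2
    simp only [h3, Finset.sum_const, Finset.card_univ, nsmul_eq_mul, Pi.mul_apply, map_mul]
    rw [← Nat.card_eq_fintype_card (α := N), ← mul_assoc ((Nat.card N : ℂ)⁻¹), inv_mul_cancel₀ hNc]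
    ring
  · have h4 : ∀ g : G, ∑ n : N, γ ((n : G) * g) = 0 := by
      intro g
      obtain ⟨k, ρ, hρ, hρχ⟩ := hγ
      have hinner : classInner (fun n : N => γ n) (fun _ => 1) = 0 := by
        rcases inner_trivial_eq_zero_or (N := N) ⟨k, ρ, hρ, hρχ⟩ with h | h
        · exact h
        · exact absurd h hker
      have hT : ∀ g, (∑ n : N, ρ n) ∘ₗ ρ g = ρ g ∘ₗ (∑ n : N, ρ n) := by
        intro g
        change (∑ n : N, ρ n) * ρ g = ρ g * ∑ n : N, ρ n
        rw [Finset.sum_mul, Finset.mul_sum]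
        refine Fintype.sum_equiv (cjAut (N := N) g⁻¹).toEquiv _ _ fun n => ?_
        rw [← map_mul, ← map_mul]
        congr 1
        change (n : G) * g = g * ((cjAut g⁻¹ n : N) : G)
        rw [cjAut_coe]; group
      have hs := Lib.CharInt.schur ρ _ hT
      have htr : LinearMap.trace ℂ (Fin k → ℂ) (∑ n : N, ρ n) = 0 := by
        rw [map_sum]
        rw [classInner_def] at hinner
        rcases mul_eq_zero.mp hinner with h | h
        · exact absurd (inv_eq_zero.mp h) hNc
        · rw [← h]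
          refine Finset.sum_congr rfl fun n _ => ?_
          rw [map_one, mul_one, ← hρχ]; rfl
      rw [htr, zero_div, zero_smul] at hs
      have : ∑ n : N, γ ((n : G) * g) = LinearMap.trace ℂ (Fin k → ℂ) ((∑ n : N, ρ n) * ρ g) := by
        rw [Finset.sum_mul, map_sum]
        refine Finset.sum_congr rfl fun n _ => ?_
        rw [← map_mul, ← hρχ]; rfl
      rw [this, hs, zero_mul, map_zero]
    have h5 : ∀ g : G, ∑ n : N, (starRingEnd ℂ) (γ ((n : G) * g)) = 0 := by
      intro g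
      rw [← map_sum, h4, map_zero]
    simp only [h5, mul_zero, Finset.sum_const_zero]

/-- Let N be a normal subgroup of the finite group G, χ an irreducible character of G whose restriction ϑ to N is irreducible, and ψ an irreducible character of G. Define η on G by η g = (1 / order of N) * Σ over n in N of ψ (n * g) * conj (χ (n * g)). Then: if the restriction of ψ to N has nonzero inner product with ϑ, η is an irreducible character of G; if that inner product is zero, η vanishes identically; and if ψ = χ then η is identically 1. -/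
theorem result {G : Type*} [Group G] [Fintype G] (N : Subgroup G) [N.Normal] [Fintype N] (χ : G → ℂ) (hχ : Cfsg.IsIrrCharacter G χ) (hχN : Cfsg.IsIrrCharacter N (fun n : N => χ n)) (ψ : G → ℂ) (hψ : Cfsg.IsIrrCharacter G ψ) (η : G → ℂ) (hη : η = fun g => (Nat.card N : ℂ)⁻¹ * ∑ n : N, ψ ((n : G) * g) * conj (χ ((n : G) * g))) : (Cfsg.classInner (fun n : N => ψ n) (fun n : N => χ n) ≠ 0 → Cfsg.IsIrrCharacter G η) ∧ (Cfsg.classInner (fun n : N => ψ n) (fun n : N => χ n) = 0 → η = 0) ∧ (ψ = χ → η = fun _ => 1) := by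
  classical
  subst hη
  have hχc := isChar_of_irr hχ
  have hψc := isChar_of_irr hψ
  have hcls : IsClassFunction G (fun g => (Nat.card N : ℂ)⁻¹ * ∑ n : N, ψ ((n : G) * g) *
      (starRingEnd ℂ) (χ ((n : G) * g))) := by
    intro g h
    dsimp only
    congr 1
    refine Fintype.sum_equiv (cjAut (N := N) h⁻¹).toEquiv _ _ fun n => ?_
    change ψ ((n : G) * (h * g * h⁻¹)) * (starRingEnd ℂ) (χ ((n : G) * (h * g * h⁻¹))) =
      ψ (((cjAut h⁻¹ n : N) : G) * g) * (starRingEnd ℂ) (χ (((cjAut h⁻¹ n : N) : G) * g))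
    rw [cjAut_coe]
    have h1 : (n : G) * (h * g * h⁻¹) = h * ((h⁻¹ * n * h⁻¹⁻¹) * g) * h⁻¹ := by group
    rw [h1, isChar_classFn hψc, isChar_classFn hχc]
  have hbij := gallagher (N := N) hχN hχ (fun n => rfl)
  refine ⟨?_, ?_, ?_⟩
  · intro hne
    obtain ⟨β, ⟨hβ, hβk⟩, hβψ⟩ := hbij.surjOn ⟨hψ, hne⟩
    simp only at hβψ
    have : (fun g => (Nat.card N : ℂ)⁻¹ * ∑ n : N, ψ ((n : G) * g) *
      (starRingEnd ℂ) (χ ((n : G) * g))) = β := by
      refine classFn_ext_inner hcls (isChar_classFn (isChar_of_irr hβ)) fun γ => ?_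
      rw [inner_eta N hχc hψc γ.1 γ.2, irr_inner hβ γ.2]
      by_cases hk : ∀ n ∈ N, γ.1 n = γ.1 1
      · rw [if_pos hk]
        have h1 := hbij.mapsTo (show γ.1 ∈ {β : G → ℂ | IsIrrCharacter G β ∧ ∀ n ∈ N, β n = β 1}
          from ⟨γ.2, hk⟩)
        rw [irr_inner hψ h1.1]
        by_cases h2 : β = γ.1
        · rw [if_pos h2, if_pos (by rw [← hβψ, h2])]
        · rw [if_neg h2, if_neg]
          intro h3
          apply h2
          exact hbij.injOn ⟨hβ, hβk⟩ ⟨γ.2, hk⟩ (hβψ.trans h3)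
      · rw [if_neg hk, if_neg]
        rintro rfl
        exact hk hβk
    rw [this]; exact hβ
  · intro h0
    apply classFn_eq_zero_of_orth _ hcls
    intro γ
    rw [inner_eta N hχc hψc γ.1 γ.2]
    split_ifs with hk
    · have h1 := hbij.mapsTo (show γ.1 ∈ {β : G → ℂ | IsIrrCharacter G β ∧ ∀ n ∈ N, β n = β 1}
          from ⟨γ.2, hk⟩)
      apply irr_inner_ne hψ h1.1
      rintro h2
      apply h1.2
      rw [← h2]; exact h0
    · rfl
  · rintro rfl
    refine classFn_ext_inner hcls (classFn_const 1) fun γ => ?_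
    rw [inner_eta N hχc hψc γ.1 γ.2, irr_inner isIrr_trivial γ.2]
    by_cases hk : ∀ n ∈ N, γ.1 n = γ.1 1
    · rw [if_pos hk]
      have h1 := hbij.mapsTo (show γ.1 ∈ {β : G → ℂ | IsIrrCharacter G β ∧ ∀ n ∈ N, β n = β 1}
          from ⟨γ.2, hk⟩)
      rw [irr_inner hψ h1.1]
      by_cases h2 : (fun _ => (1:ℂ)) = γ.1
      · rw [if_pos h2, if_pos]
        rw [← h2]; funext g; simp
      · rw [if_neg h2, if_neg]
        intro h3
        apply h2
        refine hbij.injOn ⟨isIrr_trivial, fun _ _ => rfl⟩ ⟨γ.2, hk⟩ ?_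
        refine Eq.trans ?_ h3
        funext g; simp
    · rw [if_neg hk, if_neg]
      intro h2
      apply hk
      intro n _
      rw [← h2]
end Cfsg.Agent.S0868
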