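import Cfsg.Statements.S4435
import Cfsg.Agent.Lib.BlkH5S

set_option autoImplicit false
set_option linter.style.haveILetI false
set_option linter.unusedVariables false
open Cfsg

namespace Cfsg.Agent.S4435
open Cfsg.Agent.Lib.BlkH5S Cfsg.Agent.Lib.BlockRey Cfsg.Agent.Lib.BlockPC Cfsg.Agent.Lib.BlockRk Cfsg.Agent.Lib.BlockInt Cfsg.Agent.Lib.BlockIndIn Cfsg.Agent.Lib.BlockMaxB Cfsg.Agent.Lib.BlockMax Cfsg.Agent.Lib.BlockNilC Cfsg.Agent.Lib.BlockNilB Cfsg.Agent.Lib.BlockNil Cfsg.Agent.Lib.BlockFusB Cfsg.Agent.Lib.BlockFus Cfsg.Agent.Lib.BlockPairF Cfsg.Agent.Lib.BlockPairE Cfsg.Agent.Lib.BlockPairD Cfsg.Agent.Lib.BlockPairC Cfsg.Agent.Lib.BlockPairB Cfsg.Agent.Lib.BlockPair Cfsg.Agent.Lib.BlockBP Cfsg.Agent.Lib.BlockCovB Cfsg.Agent.Lib.BlockTr Cfsg.Agent.Lib.BlockMoreB Cfsg.Agent.Lib.BlockMore Cfsg.Agent.Lib.BlockQuotB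 Cfsg.Agent.Lib.BlockQuot Cfsg.Agent.Lib.BlockCov Cfsg.Agent.Lib.BlockM Cfsg.Agent.Lib.BlockHt Cfsg.Agent.Lib.BlockFirst Cfsg.Agent.Lib.BlockSecond Cfsg.Agent.Lib.BlockInd Cfsg.Agent.Lib.BlockNP Cfsg.Agent.Lib.BlockDeg Cfsg.Agent.Lib.BlockDef Cfsg.Agent.Lib.BlockRed Cfsg.Agent.Lib.BlockOrth Cfsg.Agent.Lib.BlockIdem Cfsg.Agent.Lib.BlockGA Cfsg.Agent.Lib.BlockLoc Cfsg.Agent.Lib.CharBasic Cfsg.Agent.Lib.BlockPP Cfsg.Agent.Lib.CharNormal Cfsg.Agent.Lib.CharPerm Cfsg.Agent.Lib.CharPermB Cfsg.Agent.Lib.BlockSum Cfsg.Agent.Lib.BlockKB Cfsg.Agent.Lib.BlockLar Cfsg.Agent.Lib.BlockBFM Cfsg.Agent.Lib.BlkH5R Cfsg.Agent.Lib.BlkH5Q Cfsg.Agent.Lib.BlkH5P Cfsg.Agent.Lib.BlkH5O Cfsg.Agent.Lib.BlkH5N Cfsg.Agent.Lib.BlkH5A Cfsg.Agent.Lib.BlkH5G Cfsg.Agent.Lib.BlkH5B Cfsg.Agent.Lib.BlkH5C Cfsg.Agent.Lib.BlkH5D Cfsg.Agent.Lib.BlkH5E Cfsg.Agent.Lib.BlkH5F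 Cfsg.Agent.Lib.BlkH5L Cfsg.Agent.Lib.BlkH5M
open scoped ComplexConjugate



/-- Let N be a normal subgroup of the finite group G, b a block of N (relative to a maximal ideal M of the algebraic integers containing p), and T the stabilizer of b in G (the elements g such that conjugating any member of b by g gives a member of b); N ≤ T. Say that a block of T (or of G) covers b when some member has a constituent in b on restriction to N. Then: (i) every block B′ of T covering b induces a block B of G, B covers b, every ψ ∈ B′ induces to an irreducible character of G, and B consists exactly of the characters induced from members of B′; (ii) distinct blocks of T covering b induce distinct blocks of G; (iii) every block of G covering b is induced by some block of T covering b. -/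
theorem result {G : Type*} [Group G] [Fintype G] (p : ℕ) [Fact p.Prime] (M : Ideal Cfsg.AlgInt) (hM : Cfsg.IsPModular p M) (N : Subgroup G) [hN : N.Normal] [Fintype N] (b : Set (Cfsg.IrrCharacter N)) (hb : Cfsg.IsPBlock M b) (T : Subgroup G) [Fintype T] (hT : ∀ g : G, g ∈ T ↔ ∀ θ ∈ b, ∀ θ' : Cfsg.IrrCharacter N, (∀ n : N, (θ' : N → ℂ) n = (θ : N → ℂ) ⟨g * n * g⁻¹, hN.conj_mem n n.2 g⟩) → θ' ∈ b) (hNT : N ≤ T) : (∀ B' : Set (Cfsg.IrrCharacter T), Cfsg.IsPBlock M B' → (∃ ψ ∈ B', ∃ θ ∈ b, Cfsg.classInner (fun n : N => (ψ : T → ℂ) ⟨(n : G), hNT n.2⟩) (θ : N → ℂ) ≠ 0) → ∃ B : Set (Cfsg.IrrCharacter G), Cfsg.IsInducedBlock M T B' B ∧ (∃ χ ∈ B, ∃ θ ∈ b, Cfsg.classInner (fun n : N => (χ : G → ℂ) n) (θ : N → ℂ) ≠ 0) ∧ (∀ ψ ∈ B', Cfsg.IsIrrCharacter G (Cfsg.indFun T (ψ : T → ℂ))) ∧ ∀ χ : Cfsg.IrrCharacter G, χ ∈ B ↔ ∃ ψ ∈ B',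 (χ : G → ℂ) = Cfsg.indFun T (ψ : T → ℂ)) ∧ (∀ B'₁ B'₂ : Set (Cfsg.IrrCharacter T), Cfsg.IsPBlock M B'₁ → Cfsg.IsPBlock M B'₂ → (∃ ψ ∈ B'₁, ∃ θ ∈ b, Cfsg.classInner (fun n : N => (ψ : T → ℂ) ⟨(n : G), hNT n.2⟩) (θ : N → ℂ) ≠ 0) → (∃ ψ ∈ B'₂, ∃ θ ∈ b, Cfsg.classInner (fun n : N => (ψ : T → ℂ) ⟨(n : G), hNT n.2⟩) (θ : N → ℂ) ≠ 0) → ∀ B : Set (Cfsg.IrrCharacter G), Cfsg.IsInducedBlock M T B'₁ B → Cfsg.IsInducedBlock M T B'₂ B → B'₁ = B'₂) ∧ (∀ B : Set (Cfsg.IrrCharacter G), Cfsg.IsPBlock M B → (∃ χ ∈ B, ∃ θ ∈ b, Cfsg.classInner (fun n : N => (χ : G → ℂ) n) (θ : N → ℂ) ≠ 0) → ∃ B' : Set (Cfsg.IrrCharacter T), Cfsg.IsPBlock M B' ∧ (∃ ψ ∈ B', ∃ θ ∈ b, Cfsg.classInner (fun n : N => (ψ : T → ℂ) ⟨(n : G), hNT n.2⟩) (θ : N → ℂ) ≠ 0) ∧ Cfsg.IsInducedBlock M T B' B) := by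
  classical
  have hT' : ∀ g : G, g ∈ T ↔ ∀ θ ∈ b, cjI g θ ∈ b := by
    intro g
    rw [hT]
    constructor
    · intro h θ hθ
      exact h θ hθ (cjI g θ) (fun n => rfl)
    · intro h θ hθ θ' hθ'
      have h1 : θ' = cjI g θ := Subtype.ext (funext hθ')
      rw [h1]
      exact h θ hθ
  refine ⟨?_, ?_, ?_⟩
  · intro B' hB' hcov
    obtain ⟨hall, B, hind, hB⟩ := fr_block hM hNT hb hT' hB' hcov
    refine ⟨B, hind, ?_, ?_, hB⟩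
    · obtain ⟨ψ, hψ, θ, hθ, hov⟩ := hcov
      obtain ⟨χ, hχ, hov2⟩ := fr_irr hM hNT hb hT' hθ hov
      exact ⟨χ, (hB χ).2 ⟨ψ, hψ, hχ⟩, θ, hθ, hov2⟩
    · intro ψ hψ
      obtain ⟨θ, hθ, hov⟩ := hall ψ hψ
      obtain ⟨χ, hχ, -⟩ := fr_irr hM hNT hb hT' hθ hov
      rw [← hχ]
      exact χ.2
  · intro B₁ B₂ hB₁ hB₂ hc₁ hc₂ B hi₁ hi₂
    obtain ⟨ha₁, C₁, hd₁, hC₁⟩ := fr_block hM hNT hb hT' hB₁ hc₁
    obtain ⟨ha₂, C₂, hd₂, hC₂⟩ := fr_block hM hNT hb hT' hB₂ hc₂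
    have h1 := induced_unique hM hi₁ hd₁
    have h2 := induced_unique hM hi₂ hd₂
    obtain ⟨ψ, hψ⟩ := block_nonempty hM hB₁
    obtain ⟨θ, hθ, hov⟩ := ha₁ ψ hψ
    obtain ⟨χ, hχ, -⟩ := fr_irr hM hNT hb hT' hθ hov
    have h3 : χ ∈ C₂ := by
      rw [← h2, h1]
      exact (hC₁ χ).2 ⟨ψ, hψ, hχ⟩
    obtain ⟨ψ', hψ', h4⟩ := (hC₂ χ).1 h3
    have h5 := fr_inj hM hNT hb hT' (ha₁ ψ hψ) (ha₂ ψ' hψ') (hχ.symm.trans h4)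
    rw [← h5] at hψ'
    exact block_eq_of_mem_of_mem hM hB₁ hB₂ hψ hψ'
  · intro B hB hcov
    obtain ⟨χ, hχ, θ, hθ, hov⟩ := hcov
    obtain ⟨φ, hφ, h1, -⟩ := fr_clifford hM hNT hb hT' hθ hov
    refine ⟨blockOf M φ.1, isPBlock_blockOf M φ, ?_, ?_⟩
    · obtain ⟨θ', hθ', hov'⟩ := hφ
      exact ⟨φ, self_mem_blockOf hM φ, θ', hθ', hov'⟩
    · exact induced_of_ind hM (isPBlock_blockOf M φ) (self_mem_blockOf hM φ) h1.symm hB hχ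

end Cfsg.Agent.S4435
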