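import Cfsg.Statements.S4436
import Cfsg.Agent.Lib.BlkH5S

set_option autoImplicit false
set_option linter.style.haveILetI false
set_option linter.unusedVariables false
open Cfsg

namespace Cfsg.Agent.S4436
open Cfsg.Agent.Lib.BlkH5S Cfsg.Agent.Lib.BlockRey Cfsg.Agent.Lib.BlockPC Cfsg.Agent.Lib.BlockRk Cfsg.Agent.Lib.BlockInt Cfsg.Agent.Lib.BlockIndIn Cfsg.Agent.Lib.BlockMaxB Cfsg.Agent.Lib.BlockMax Cfsg.Agent.Lib.BlockNilC Cfsg.Agent.Lib.BlockNilB Cfsg.Agent.Lib.BlockNil Cfsg.Agent.Lib.BlockFusB Cfsg.Agent.Lib.BlockFus Cfsg.Agent.Lib.BlockPairF Cfsg.Agent.Lib.BlockPairE Cfsg.Agent.Lib.BlockPairD Cfsg.Agent.Lib.BlockPairC Cfsg.Agent.Lib.BlockPairB Cfsg.Agent.Lib.BlockPair Cfsg.Agent.Lib.BlockBP Cfsg.Agent.Lib.BlockCovB Cfsg.Agent.Lib.BlockTr Cfsg.Agent.Lib.BlockMoreB Cfsg.Agent.Lib.BlockMore Cfsg.Agent.Lib.BlockQuotB Cfsg.Agent.Lib.BlockQuot Cfsg.Agent.Lib.BlockCov Cfsg.Agent.Lib.BlockM Cfsg.Agent.Lib.BlockHt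 Cfsg.Agent.Lib.BlockFirst Cfsg.Agent.Lib.BlockSecond Cfsg.Agent.Lib.BlockInd Cfsg.Agent.Lib.BlockNP Cfsg.Agent.Lib.BlockDeg Cfsg.Agent.Lib.BlockDef Cfsg.Agent.Lib.BlockRed Cfsg.Agent.Lib.BlockOrth Cfsg.Agent.Lib.BlockIdem Cfsg.Agent.Lib.BlockGA Cfsg.Agent.Lib.BlockLoc Cfsg.Agent.Lib.CharBasic Cfsg.Agent.Lib.BlockPP Cfsg.Agent.Lib.CharNormal Cfsg.Agent.Lib.CharPerm Cfsg.Agent.Lib.CharPermB Cfsg.Agent.Lib.BlockSum Cfsg.Agent.Lib.BlockKB Cfsg.Agent.Lib.BlockLar Cfsg.Agent.Lib.BlockBFM Cfsg.Agent.Lib.BlkH5R Cfsg.Agent.Lib.BlkH5Q Cfsg.Agent.Lib.BlkH5P Cfsg.Agent.Lib.BlkH5O Cfsg.Agent.Lib.BlkH5N Cfsg.Agent.Lib.BlkH5A Cfsg.Agent.Lib.BlkH5G Cfsg.Agent.Lib.BlkH5B Cfsg.Agent.Lib.BlkH5C Cfsg.Agent.Lib.BlkH5D Cfsg.Agent.Lib.BlkH5E Cfsg.Agent.Lib.BlkH5F Cfsg.Agent.Lib.BlkH5L Cfsg.Agent.Lib.BlkH5M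
open scoped ComplexConjugate



/-- Let N be a normal subgroup of the finite group G, b a block of N (relative to a maximal ideal M of the algebraic integers containing p), T the stabilizer of b in G, N ≤ T, and B′ a block of T covering b (some member of B′ has a constituent in b on restriction to N) that induces the block B of G. Then every defect group of B′ is a defect group of B, and for every ψ ∈ B′ the induced character ψ^G is an irreducible character of G lying in B with the same height as ψ. -/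
theorem result {G : Type*} [Group G] [Fintype G] (p : ℕ) [Fact p.Prime] (M : Ideal Cfsg.AlgInt) (hM : Cfsg.IsPModular p M) (N : Subgroup G) [hN : N.Normal] [Fintype N] (b : Set (Cfsg.IrrCharacter N)) (hb : Cfsg.IsPBlock M b) (T : Subgroup G) [Fintype T] (hT : ∀ g : G, g ∈ T ↔ ∀ θ ∈ b, ∀ θ' : Cfsg.IrrCharacter N, (∀ n : N, (θ' : N → ℂ) n = (θ : N → ℂ) ⟨g * n * g⁻¹, hN.conj_mem n n.2 g⟩) → θ' ∈ b) (hNT : N ≤ T) (B' : Set (Cfsg.IrrCharacter T)) (hB' : Cfsg.IsPBlock M B') (hcov : (∃ ψ ∈ B', ∃ θ ∈ b, Cfsg.classInner (fun n : N => (ψ : T → ℂ) ⟨(n : G), hNT n.2⟩) (θ : N → ℂ) ≠ 0)) (B : Set (Cfsg.IrrCharacter G)) (hind : Cfsg.IsInducedBlock M T B' B) : (∀ D : Subgroup T, Cfsg.IsDefectGroup p M B' D → Cfsg.IsDefectGroup p M B (D.map T.subtype)) ∧ ∀ ψ ∈ B', ∃ χ ∈ B, (χ : G → ℂ) = Cfsg.indFun T (ψ : T → ℂ) ∧ Cfsg.blockHeight p B (χ : G → ℂ) = Cfsg.blockHeight p B' (ψ : T → ℂ) := by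
  classical
  have hp := (Fact.out : p.Prime)
  have hT' : ∀ g : G, g ∈ T ↔ ∀ θ ∈ b, cjI g θ ∈ b := by
    intro g
    rw [hT]
    constructor
    · intro h θ hθ
      exact h θ hθ (cjI g θ) (fun n => rfl)
    · intro h θ hθ θ' hθ'
      have h1 : θ' = cjI g θ := Subtype.ext (funext hθ')
      rw [h1]
      exact h θ hθ
  obtain ⟨hall, C, hd, hC⟩ := fr_block hM hNT hb hT' hB' hcov
  have h1 := induced_unique hM hind hd
  subst h1
  have hBne := block_nonempty hM hind.2.1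
  have hB'ne := block_nonempty hM hB'
  have hex : ∀ ψ : IrrCharacter T, ψ ∈ B' → ∃ χ : IrrCharacter G, χ.1 = indFun T ψ.1 := by
    intro ψ hψ
    obtain ⟨θ, hθ, hov⟩ := hall ψ hψ
    obtain ⟨χ, hχ, -⟩ := fr_irr hM hNT hb hT' hθ hov
    exact ⟨χ, hχ⟩
  have hinf : sInf ((fun χ : IrrCharacter G => (charDegree (χ : G → ℂ)).factorization p) '' B) =
      T.index.factorization p +
        sInf ((fun χ : IrrCharacter T => (charDegree (χ : T → ℂ)).factorization p) '' B') := by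
    apply le_antisymm
    · obtain ⟨ψ, hψ, h2⟩ := Nat.sInf_mem (Set.Nonempty.image
        (fun χ : IrrCharacter T => (charDegree (χ : T → ℂ)).factorization p) hB'ne)
      obtain ⟨χ, hχ⟩ := hex ψ hψ
      refine Nat.sInf_le ⟨χ, (hC χ).2 ⟨ψ, hψ, hχ⟩, ?_⟩
      rw [← h2]
      exact fac_degree_ind hχ
    · obtain ⟨χ, hχ, h2⟩ := Nat.sInf_mem (Set.Nonempty.image
        (fun χ : IrrCharacter G => (charDegree (χ : G → ℂ)).factorization p) hBne)
      obtain ⟨ψ, hψ, h3⟩ := (hC χ).1 hχ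
      rw [← h2]
      change _ ≤ (charDegree χ.1).factorization p
      rw [fac_degree_ind h3]
      have h4 : sInf ((fun χ : IrrCharacter T => (charDegree (χ : T → ℂ)).factorization p) '' B') ≤
          (charDegree ψ.1).factorization p := sInf_le_degree hψ
      omega
  have hfac : (Nat.card G).factorization p =
      T.index.factorization p + (Nat.card T).factorization p := by
    rw [← Subgroup.index_mul_card T, Nat.factorization_mul T.index_ne_zero_of_finite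
      Nat.card_pos.ne', Finsupp.add_apply]
  refine ⟨?_, ?_⟩
  · intro D hD
    obtain ⟨E, hE⟩ := exists_defectGroup hM hind.2.1
    have h2 := defect_le_of_induced hM hind hD hE
    have h3 : blockDefect p B = blockDefect p B' := by
      unfold blockDefect
      rw [hinf, hfac]
      omega
    have h4 : Nat.card E ≤ Nat.card (D.map T.subtype) := by
      rw [card_defectGroup hM hind.2.1 hE, Subgroup.card_map_of_injective
        (Subgroup.subtype_injective _), card_defectGroup hM hB' hD, h3]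
    obtain ⟨x, hx⟩ := h2.eq_of_card h4
    have h5 := isDefectGroup_map_conj hM hind.2.1 hE x⁻¹
    have h6 : E.map (MulAut.conj x⁻¹).toMonoidHom = D.map T.subtype := by
      rw [hx, Subgroup.map_map]
      have h7 : ((MulAut.conj x⁻¹).toMonoidHom).comp (MulAut.conj x).toMonoidHom =
          MonoidHom.id G := by
        ext g
        change x⁻¹ * (x * g * x⁻¹) * x⁻¹⁻¹ = g
        group
      rw [h7, Subgroup.map_id]
    rwa [h6] at h5
  · intro ψ hψ
    obtain ⟨χ, hχ⟩ := hex ψ hψ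
    refine ⟨χ, (hC χ).2 ⟨ψ, hψ, hχ⟩, hχ, ?_⟩
    unfold blockHeight
    rw [hinf, fac_degree_ind hχ]
    omega

end Cfsg.Agent.S4436
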