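import Cfsg.Statements.S0358
import Cfsg.Agent.Lib.Golay.Octads

set_option autoImplicit false
open Cfsg

namespace Cfsg.Agent.S0358

/-- The length-24 code built from the squares modulo 23 has dimension 12 over the field with two elements. -/
theorem result : Module.finrank (ZMod 2) Cfsg.golayCode = 12 := by
  classical
  have h1 : Nat.card Cfsg.golayCode = 4096 := by
    have h2 : Nat.card (Fin 4096) = 4096 := by simp
    rw [← h2]
    symm
    refine Nat.card_congr (Equiv.ofBijective (fun c : Fin 4096 =>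
      (⟨Lib.Golay.wd (Lib.Golay.comb c), Lib.Golay.wd_comb_mem c⟩ : Cfsg.golayCode)) ⟨?_, ?_⟩)
    · intro a b h
      have h3 : Lib.Golay.wd (Lib.Golay.comb a) = Lib.Golay.wd (Lib.Golay.comb b) := congrArg Subtype.val h
      have h4 : Lib.Golay.comb a = Lib.Golay.comb b := by
        apply Lib.Golay.st_inj (Lib.Golay.comb_lt _) (Lib.Golay.comb_lt _)
        rw [← Lib.Golay.support_wd, h3, Lib.Golay.support_wd]
      exact Fin.ext (Lib.Golay.comb_injOn a.2 b.2 h4)
    · rintro ⟨w, hw⟩
      obtain ⟨c, hc, e⟩ := Lib.Golay.inCode_iff_exists.1 ((Lib.Golay.mem_golayCode_iff w).1 hw)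
      refine ⟨⟨c, hc⟩, Subtype.ext ?_⟩
      show Lib.Golay.wd (Lib.Golay.comb c) = w
      rw [← e, Lib.Golay.wd_mk]
  have h3 := Module.card_eq_pow_finrank (K := ZMod 2) (V := Cfsg.golayCode)
  rw [← Nat.card_eq_fintype_card, ← Nat.card_eq_fintype_card, h1, Nat.card_zmod] at h3
  have h4 : (4096 : ℕ) = 2 ^ 12 := by norm_num
  rw [h4] at h3
  exact (Nat.pow_right_injective (le_refl 2) h3).symm

end Cfsg.Agent.S0358
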