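import Cfsg.Statements.S4145
import Mathlib
import Cfsg.Agent.Lib.SylCount
import Cfsg.Agent.Lib.PNilp
import Cfsg.Agent.Lib.CoprimeB
import Cfsg.Agent.H3.Cyc
import Cfsg.Agent.H3.SmallClass
import Cfsg.Prelude.Def_Local

set_option autoImplicit false
open Cfsg

namespace Cfsg.Agent.S4145

open Subgroup Cfsg.Agent.Lib.SylCount Cfsg.Agent.Lib.Basic Cfsg.Agent.Lib.PNilp
open scoped commutatorElement

universe u

theorem conj_pow_eq {G : Type*} [Group G] {n z : G} {k : ℤ} (h : n * z * n⁻¹ = z ^ k) (m : ℕ) :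
    n ^ m * z * (n ^ m)⁻¹ = z ^ (k ^ m) := by
  induction m with
  | zero => simp
  | succ m ih =>
    have h1 : n ^ (m + 1) * z * (n ^ (m + 1))⁻¹ = n * (n ^ m * z * (n ^ m)⁻¹) * n⁻¹ := by
      rw [pow_succ']; group
    rw [h1, ih, ← conj_zpow, h, ← zpow_mul, pow_succ']

/-- the main step -/
theorem main {G : Type*} [Group G] [Finite G] {p : ℕ} [hp : Fact p.Prime] (hcyc : ∀ P : Sylow p G, IsCyclic (P : Subgroup G))
    (H : Subgroup G) [hH : H.Normal] (h2 : p ∣ H.index) {Q : Subgroup G} (hQ : IsPGroup p Q) (hQH : Q ≤ H)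
    {g : G} (hgH : g ∈ H) (hgN : g ∈ normalizer (Q : Set G)) (hgo : (orderOf g).Coprime p) :
    g ∈ centralizer (Q : Set G) := by
  obtain ⟨P, hQP⟩ := hQ.exists_le_sylow
  haveI := hcyc P
  have hPab : ∀ a ∈ (P : Subgroup G), ∀ b ∈ (P : Subgroup G), a * b = b * a := fun a ha b hb =>
    congrArg Subtype.val ((IsCyclic.commGroup (α := (P : Subgroup G))).mul_comm ⟨a, ha⟩ ⟨b, hb⟩)
  have hPH : ¬ (P : Subgroup G) ≤ H := fun h => P.not_dvd_index (h2.trans (index_dvd_of_le h))
  set C := centralizer (Q : Set G) with hC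
  set D := C ⊓ H with hD
  set M := normalizer (Q : Set G) ⊓ H with hM
  have hPC : (P : Subgroup G) ≤ C := fun x hx => by
    rw [hC, mem_centralizer_iff]
    exact fun y hy => hPab y (hQP hy) x hx
  have hNC : ∀ n ∈ normalizer (Q : Set G), ∀ c ∈ C, n * c * n⁻¹ ∈ C := by
    intro n hn c hc
    rw [hC, mem_centralizer_iff] at hc ⊢
    intro y hy
    have h3 : n⁻¹ * y * n ∈ (Q : Set G) := by
      have := (mem_normalizer_iff.1 (inv_mem hn) y).1 hy
      rwa [inv_inv] at this
    have h4 := hc _ h3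
    calc y * (n * c * n⁻¹) = n * ((n⁻¹ * y * n) * c) * n⁻¹ := by group
      _ = n * (c * (n⁻¹ * y * n)) * n⁻¹ := by rw [h4]
      _ = _ := by group
  set Y := D ⊔ (P : Subgroup G) with hY
  set X := M ⊔ (P : Subgroup G) with hX
  have hDM : D ≤ M := inf_le_inf_right H (centralizer_le_normalizer _)
  have hYX : Y ≤ X := sup_le_sup_right hDM _
  have hMY : ∀ m ∈ M, ∀ t ∈ Y, m * t * m⁻¹ ∈ Y := by
    intro m hm
    have h3 : Y ≤ Y.comap (MulAut.conj m).toMonoidHom := by
      apply sup_le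
      · rintro t ⟨ht1, ht2⟩
        exact mem_sup_left ⟨hNC m hm.1 t ht1, hH.conj_mem t ht2 m⟩
      · intro t ht
        have h4 : m * t * m⁻¹ = (m * t * m⁻¹ * t⁻¹) * t := by group
        change m * t * m⁻¹ ∈ Y
        rw [h4]
        refine mul_mem (mem_sup_left ⟨?_, ?_⟩) (mem_sup_right ht)
        · exact C.mul_mem (hNC m hm.1 t (hPC ht)) (C.inv_mem (hPC ht))
        · have h5 : m * t * m⁻¹ * t⁻¹ = m * (t * m⁻¹ * t⁻¹) := by group
          change m * t * m⁻¹ * t⁻¹ ∈ H
          rw [h5]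
          exact H.mul_mem hm.2 (hH.conj_mem _ (H.inv_mem hm.2) t)
    exact fun t ht => h3 ht
  have hXN : X ≤ normalizer (Y : Set G) :=
    sup_le (Cfsg.Agent.H3.SmallClass.le_norm hMY) (le_sup_right.trans le_normalizer)
  have hfr := le_normalizer_sup P.2 (le_sup_right : (P : Subgroup G) ≤ Y)
    (not_dvd_relIndex_of_le P le_sup_right) hYX hXN
  have hgX : g ∈ X := mem_sup_left ⟨hgN, hgH⟩
  have h3 := hfr hgX
  rw [sup_comm, mem_sup_iff_left ((inf_le_right : _ ≤ X).trans hXN)] at h3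
  obtain ⟨y, hy, n₁, hn₁, hg⟩ := h3
  have hPD : (P : Subgroup G) ≤ normalizer (D : Set G) := by
    apply Cfsg.Agent.H3.SmallClass.le_norm
    rintro x hx t ⟨ht1, ht2⟩
    exact ⟨C.mul_mem (C.mul_mem (hPC hx) ht1) (C.inv_mem (hPC hx)), hH.conj_mem t ht2 x⟩
  rw [hY, mem_sup_iff_left hPD] at hy
  obtain ⟨d, hd, x₁, hx₁, rfl⟩ := hy
  set n := x₁ * n₁ with hn
  have hgn : g = d * n := by rw [← hg, hn, mul_assoc]
  have hnN : n ∈ normalizer ((P : Subgroup G) : Set G) :=
    mul_mem (le_normalizer hx₁) hn₁.1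
  have hnH : n ∈ H := by
    have : n = d⁻¹ * g := by rw [hgn]; group
    rw [this]; exact mul_mem (inv_mem hd.2) hgH
  have hact : ∀ t ∈ Q, g * t * g⁻¹ = n * t * n⁻¹ := by
    intro t ht
    have hnQ : n * t * n⁻¹ ∈ Q := by
      have h4 : n ∈ normalizer (Q : Set G) := by
        have : n = d⁻¹ * g := by rw [hgn]; group
        rw [this]
        exact mul_mem (inv_mem (centralizer_le_normalizer _ hd.1)) hgN
      exact (mem_normalizer_iff.1 h4 t).1 ht
    have h4 : (n * t * n⁻¹) * d = d * (n * t * n⁻¹) := mem_centralizer_iff.1 hd.1 _ hnQ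
    calc g * t * g⁻¹ = (d * (n * t * n⁻¹)) * d⁻¹ := by rw [hgn]; group
      _ = n * t * n⁻¹ := by rw [← h4]; group
  obtain ⟨z, hz⟩ := IsCyclic.exists_generator (α := (P : Subgroup G))
  have hzz : n * (z : G) * n⁻¹ ∈ (P : Subgroup G) := (mem_normalizer_iff.1 hnN (z : G)).1 z.2
  obtain ⟨k, hk⟩ := mem_zpowers_iff.1 (hz ⟨_, hzz⟩)
  have hk' : n * (z : G) * n⁻¹ = (z : G) ^ k := (congrArg Subtype.val hk).symm
  obtain ⟨e, he⟩ := P.2.exists_card_eq
  have hzo : orderOf (z : G) = p ^ e := by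
    rw [Subgroup.orderOf_coe, orderOf_eq_card_of_forall_mem_zpowers hz, he]
  have hpk : (p : ℤ) ∣ k - 1 := by
    by_contra hnd
    apply hPH
    have h4 : (z : G) ^ (k - 1) ∈ H := by
      have h5 : (z : G) ^ (k - 1) = n * ((z : G) * n⁻¹ * (z : G)⁻¹) := by
        rw [zpow_sub, ← hk', zpow_one]; group
      rw [h5]
      exact mul_mem hnH (hH.conj_mem _ (inv_mem hnH) _)
    have hcop : IsCoprime (k - 1) ((p ^ e : ℕ) : ℤ) := by
      push_cast
      apply IsCoprime.pow_right
      exact ((Nat.prime_iff_prime_int.1 hp.out).coprime_iff_not_dvd.2 hnd).symm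
    obtain ⟨a, b, hab⟩ := hcop
    have h6 : (z : G) ∈ H := by
      have h7 : (z : G) = ((z : G) ^ (k - 1)) ^ a := by
        rw [← zpow_mul, mul_comm (k - 1) a]
        have h8 : a * (k - 1) = 1 - b * ((p ^ e : ℕ) : ℤ) := by linarith
        rw [h8, zpow_sub, zpow_one, mul_comm b, zpow_mul, zpow_natCast, ← hzo, pow_orderOf_eq_one,
          one_zpow, inv_one, mul_one]
      rw [h7]
      exact zpow_mem h4 a
    intro x hx
    obtain ⟨j, hj⟩ := mem_zpowers_iff.1 (hz ⟨x, hx⟩)
    have h7 : x = (z : G) ^ j := (congrArg Subtype.val hj).symm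
    rw [h7]; exact zpow_mem h6 j
  -- `n ^ (p ^ e)` centralizes `P`
  have hpow : n ^ (p ^ e) * (z : G) * (n ^ (p ^ e))⁻¹ = z := by
    rw [conj_pow_eq hk']
    have h4 : (p : ℤ) ^ (e + 1) ∣ k ^ (p ^ e) - 1 ^ (p ^ e) := dvd_sub_pow_of_dvd_sub hpk e
    rw [one_pow] at h4
    obtain ⟨c, hc⟩ := h4
    have h5 : k ^ (p ^ e) = 1 + ((p ^ e : ℕ) : ℤ) * (p * c) := by
      push_cast
      have : k ^ (p ^ e) = 1 + (k ^ (p ^ e) - 1) := by ring
      rw [this, hc]; ring
    rw [h5, zpow_add, zpow_one, zpow_mul, zpow_natCast, ← hzo, pow_orderOf_eq_one, one_zpow, mul_one]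
  have hcentP : ∀ x ∈ (P : Subgroup G), n ^ (p ^ e) * x * (n ^ (p ^ e))⁻¹ = x := by
    intro x hx
    obtain ⟨j, hj⟩ := mem_zpowers_iff.1 (hz ⟨x, hx⟩)
    have h7 : x = (z : G) ^ j := (congrArg Subtype.val hj).symm
    rw [h7, ← conj_zpow, hpow]
  have hiter : ∀ m : ℕ, ∀ t ∈ Q, g ^ m * t * (g ^ m)⁻¹ = n ^ m * t * (n ^ m)⁻¹ ∧
      g ^ m * t * (g ^ m)⁻¹ ∈ Q := by
    intro m
    induction m with
    | zero => intro t ht; simp [ht]
    | succ m ih =>
      intro t ht
      obtain ⟨h4, h5⟩ := ih t ht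
      have h6 : g ^ (m + 1) * t * (g ^ (m + 1))⁻¹ = g * (g ^ m * t * (g ^ m)⁻¹) * g⁻¹ := by
        rw [pow_succ']; group
      have h7 : n ^ (m + 1) * t * (n ^ (m + 1))⁻¹ = n * (n ^ m * t * (n ^ m)⁻¹) * n⁻¹ := by
        rw [pow_succ']; group
      constructor
      · rw [h6, h7, hact _ h5, h4]
      · rw [h6]; exact (mem_normalizer_iff.1 hgN _).1 h5
  have hgp : g ^ (p ^ e) ∈ C := by
    rw [hC, mem_centralizer_iff]
    intro t ht
    have h4 := (hiter (p ^ e) t ht).1
    rw [hcentP t (hQP ht), mul_inv_eq_iff_eq_mul] at h4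
    exact h4.symm
  obtain ⟨m, hm⟩ := exists_pow_eq_self_of_coprime (x := g) (n := p ^ e)
    (Nat.Coprime.pow_left e hgo.symm)
  rw [← hm]
  exact pow_mem hgp m

theorem pNil_central {L : Type u} [Group L] [Finite L] {p : ℕ} [hp : Fact p.Prime]
    (hcyc : ∀ P : Sylow p L, IsCyclic (P : Subgroup L)) (Z : Subgroup L) (hZ : Z ≤ center L)
    (hZp : IsPGroup p Z) (hZ0 : Z ≠ ⊥) : PNil p L := by
  apply pNil_of_frobCond
  intro Q hQ g hg hgo
  haveI hZn : Z.Normal := ⟨fun z hz x => by
    have : x * z * x⁻¹ = z := by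
      rw [Subgroup.mem_center_iff.1 (hZ hz) x]; group
    rw [this]; exact hz⟩
  have hV : IsPGroup p (Q ⊔ Z : Subgroup L) := hQ.to_sup_of_normal_right hZp
  obtain ⟨R, hR⟩ := hV.exists_le_sylow
  haveI := hcyc R
  haveI hVc : IsCyclic (Q ⊔ Z : Subgroup L) :=
    isCyclic_of_injective (inclusion hR) (inclusion_injective hR)
  have hVab : IsMulCommutative (Q ⊔ Z : Subgroup L) :=
    ⟨⟨fun a b => (IsCyclic.commGroup (α := (Q ⊔ Z : Subgroup L))).mul_comm a b⟩⟩
  have hAV : zpowers g ≤ normalizer ((Q ⊔ Z : Subgroup L) : Set L) := by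
    rw [zpowers_le, mem_normalizer_iff_map_conj_eq, Subgroup.map_sup, mem_normalizer_iff_map_conj_eq.1 hg,
      Subgroup.Normal.map_conj_eq]
  obtain ⟨k, hk⟩ := hV.exists_card_eq
  have hcop : (Nat.card (zpowers g)).Coprime (Nat.card (Q ⊔ Z : Subgroup L)) := by
    rw [Nat.card_zpowers, hk]
    exact Nat.Coprime.pow_right k hgo
  obtain ⟨j, hj⟩ := hZp.exists_card_eq
  have hj0 : j ≠ 0 := by
    rintro rfl
    rw [pow_zero] at hj
    exact hZ0 (card_eq_one.1 hj)
  have h1 := Cfsg.Agent.Lib.CoprimeB.abelian_trivial_of_prime_order hVab hAV hcop (by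
    intro v hv hvp a ha
    have h2 : orderOf v = p := by
      obtain ⟨i, hi⟩ := IsPGroup.iff_orderOf.1 hV ⟨v, hv⟩
      rw [Subgroup.orderOf_mk] at hi
      have h3 : orderOf v ∣ p := by
        rw [hi] at hvp ⊢
        have := hvp.dvd_of_dvd_pow (dvd_refl (p ^ i))
        exact this
      exact (Nat.prime_dvd_prime_iff_eq hvp hp.out).1 h3
    have h3 : (⟨v, hv⟩ : (Q ⊔ Z : Subgroup L)) ∈ Z.subgroupOf (Q ⊔ Z : Subgroup L) := by
      apply Cfsg.Agent.H3.Cyc.mem_of_orderOf_dvd_card
      rw [Subgroup.orderOf_mk, h2, Nat.card_congr (subgroupOfEquivOfLe (le_sup_right : Z ≤ Q ⊔ Z)).toEquiv, hj]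
      exact dvd_pow_self p hj0
    exact Subgroup.mem_center_iff.1 (hZ h3) a)
  have h2 : g ∈ centralizer ((Q ⊔ Z : Subgroup L) : Set L) := h1 (mem_zpowers g)
  exact centralizer_le (show (Q : Set L) ⊆ ((Q ⊔ Z : Subgroup L) : Set L) from fun x hx => mem_sup_left hx) h2

/-- Let G be a finite group with a cyclic Sylow p-subgroup and H a normal subgroup such that p divides both the order of H and the index of H. Then H has a normal p-complement and G is p-solvable. -/
theorem result {G : Type*} [Group G] [Finite G] (p : ℕ) [Fact p.Prime]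
    (P : Sylow p G) (hP : IsCyclic (P : Subgroup G)) (H : Subgroup G) [H.Normal] (h1 : p ∣ Nat.card H) (h2 : p ∣ H.index) :
    Cfsg.HasNormalPComplement p H ∧ Cfsg.IsPSolvable p G := by
  classical
  have hcyc : ∀ P : Sylow p G, IsCyclic (P : Subgroup G) := fun R => by
    have e : (P : Subgroup G) ≃* (R : Subgroup G) := P.equiv R
    exact isCyclic_of_surjective e e.surjective
  have hHnil : PNil p H := by
    apply pNil_of_frobCond
    intro Q hQ g hg hgo
    have h3 : (g : G) ∈ centralizer ((Q.map H.subtype : Subgroup G) : Set G) := by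
      apply main hcyc H h2 (hQ.map _) (map_subtype_le _) g.2
      · exact le_normalizer_map (f := H.subtype) (H := Q) (mem_map_of_mem H.subtype hg)
      · rwa [Subgroup.orderOf_coe]
    rw [mem_centralizer_iff] at h3 ⊢
    intro x hx
    exact Subtype.ext (h3 x ⟨x, hx, rfl⟩)
  refine ⟨hasNormalPComplement_iff.2 hHnil, ?_⟩
  -- the `p'`-core of `H`
  haveI hcc : (pPrimeCore p H).Characteristic := Cfsg.Agent.Lib.Cores.pPrimeCore_characteristic p
  set K := (pPrimeCore p H).map H.subtype with hK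
  haveI hKn : K.Normal := inferInstance
  have hKH : K ≤ H := map_subtype_le _
  have hKc : (Nat.card K).Coprime p := by
    rw [hK, ← Nat.card_congr ((pPrimeCore p H).equivMapOfInjective _ H.subtype_injective).toEquiv]
    exact Cfsg.Agent.Lib.Cores.pPrimeCore_coprime p
  obtain ⟨k, hk⟩ := pNil_iff_core.1 hHnil
  have hKi : K.relIndex H = p ^ k := by
    rw [← hk, relIndex]
    congr 1
    exact comap_map_eq_self_of_injective H.subtype_injective _
  let π := QuotientGroup.mk' K
  have hπ : Function.Surjective π := QuotientGroup.mk'_surjective K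
  set N := (centralizer ((H.map π : Subgroup (G ⧸ K)) : Set (G ⧸ K))).comap π with hN
  haveI hHπ : (H.map π).Normal := Subgroup.Normal.map inferInstance π hπ
  haveI hNn : N.Normal := inferInstance
  -- Sylow subgroups of the quotient are cyclic
  have hcycQ : ∀ R : Sylow p (G ⧸ K), IsCyclic (R : Subgroup (G ⧸ K)) := by
    intro R
    obtain ⟨S, hS⟩ := Sylow.mapSurjective_surjective hπ p R
    rw [← hS]
    haveI := hcyc S
    change IsCyclic ((S : Subgroup G).map π)
    exact isCyclic_of_surjective (π.subgroupMap (S : Subgroup G)) (π.subgroupMap_surjective _)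
  have hHp : IsPGroup p (H.map π) := by
    apply IsPGroup.of_card (n := k)
    have h3 : Nat.card (H.map π) * Nat.card K = Nat.card H := by
      have h4 := Cfsg.Agent.Lib.Cores.card_comap_eq π hπ (H.map π)
      rw [Subgroup.comap_map_eq, QuotientGroup.ker_mk', sup_eq_left.2 hKH] at h4
      rw [h4, mul_comm]
    have h5 := Cfsg.Agent.H3.Basic.card_mul_relIndex hKH
    rw [hKi] at h5
    rw [← h5, mul_comm] at h3
    exact Nat.eq_of_mul_eq_mul_left Nat.card_pos h3
  have hPN : (P : Subgroup G) ≤ N := by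
    intro x hx
    change π x ∈ centralizer ((H.map π : Subgroup (G ⧸ K)) : Set (G ⧸ K))
    let P' : Sylow p (G ⧸ K) := P.mapSurjective hπ
    haveI := hcycQ P'
    have hxP : π x ∈ (P' : Subgroup (G ⧸ K)) := ⟨x, hx, rfl⟩
    have hHP : H.map π ≤ (P' : Subgroup (G ⧸ K)) := by
      obtain ⟨R, hR⟩ := hHp.exists_le_sylow
      obtain ⟨g, hg⟩ := MulAction.exists_smul_eq (G ⧸ K) R P'
      intro y hy
      have h3 : g⁻¹ * y * g ∈ (R : Subgroup (G ⧸ K)) := by
        apply hR
        have := hHπ.conj_mem y hy g⁻¹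
        rwa [inv_inv] at this
      have h4 : g * (g⁻¹ * y * g) * g⁻¹ ∈ ((g • R : Sylow p (G ⧸ K)) : Subgroup (G ⧸ K)) :=
        Subgroup.smul_mem_pointwise_smul _ (MulAut.conj g) _ h3
      rw [hg] at h4
      have h5 : g * (g⁻¹ * y * g) * g⁻¹ = y := by group
      rwa [h5] at h4
    rw [mem_centralizer_iff]
    intro y hy
    exact congrArg Subtype.val ((IsCyclic.commGroup (α := (P' : Subgroup (G ⧸ K)))).mul_comm ⟨y, hHP hy⟩ ⟨π x, hxP⟩)
  have hNi : ¬ p ∣ N.index := fun h => P.not_dvd_index (h.trans (index_dvd_of_le hPN))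
  -- `N` is `p`-nilpotent
  have hKN : K ≤ N := fun x hx => by
    rw [hN, mem_comap]
    have : π x = 1 := (QuotientGroup.eq_one_iff x).2 hx
    rw [this]; exact one_mem _
  have hHab : ∀ x ∈ H, x ∈ N := by
    intro x hx
    change π x ∈ centralizer ((H.map π : Subgroup (G ⧸ K)) : Set (G ⧸ K))
    obtain ⟨R, hR⟩ := hHp.exists_le_sylow
    haveI := hcycQ R
    rw [mem_centralizer_iff]
    intro y hy
    exact congrArg Subtype.val ((IsCyclic.commGroup (α := (R : Subgroup (G ⧸ K)))).mul_comm ⟨y, hR hy⟩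
      ⟨π x, hR ⟨x, hx, rfl⟩⟩)
  have hNnil : PNil p N := by
    haveI : (K.subgroupOf N).Normal := inferInstance
    apply PNil.of_quotient (K.subgroupOf N)
    · rw [Nat.card_congr (subgroupOfEquivOfLe hKN).toEquiv]; exact hKc
    · let ρ := QuotientGroup.mk' (K.subgroupOf N)
      have hρ : Function.Surjective ρ := QuotientGroup.mk'_surjective _
      apply pNil_central (Z := (H.subgroupOf N).map ρ)
      · intro R
        obtain ⟨S, hS⟩ := Sylow.mapSurjective_surjective hρ p R
        rw [← hS]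
        obtain ⟨S', hS'⟩ := (S.2.map N.subtype).exists_le_sylow
        haveI := hcyc S'
        haveI h3 : IsCyclic ((S : Subgroup N).map N.subtype) :=
          isCyclic_of_injective (inclusion hS') (inclusion_injective hS')
        haveI h4 : IsCyclic (S : Subgroup N) := by
          have e := (S : Subgroup N).equivMapOfInjective _ N.subtype_injective
          exact isCyclic_of_surjective e.symm e.symm.surjective
        change IsCyclic ((S : Subgroup N).map ρ)
        exact isCyclic_of_surjective (ρ.subgroupMap (S : Subgroup N)) (ρ.subgroupMap_surjective _)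
      · rintro _ ⟨x, hx, rfl⟩
        rw [Subgroup.mem_center_iff]
        intro y
        obtain ⟨y, rfl⟩ := hρ y
        have h3 : π (y : G) ∈ centralizer ((H.map π : Subgroup (G ⧸ K)) : Set (G ⧸ K)) := y.2
        have h4 : π (x : G) * π (y : G) = π (y : G) * π (x : G) := mem_centralizer_iff.1 h3 _ ⟨x, hx, rfl⟩
        rw [← map_mul, ← map_mul] at h4 ⊢
        symm
        have h5 : ((x : G) * y)⁻¹ * ((y : G) * x) ∈ K := QuotientGroup.eq.1 h4
        exact QuotientGroup.eq.2 h5
      · -- `p`-group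
        have h3 : IsPGroup p ((H.subgroupOf N).map ρ) := by
          intro z
          obtain ⟨z, w, hw, rfl⟩ := z
          obtain ⟨m, hm⟩ := hHp ⟨π (w : G), w, hw, rfl⟩
          refine ⟨m, ?_⟩
          apply Subtype.ext
          have h4 : (π (w : G)) ^ p ^ m = 1 := congrArg Subtype.val hm
          rw [← map_pow] at h4
          have h5 : (w : G) ^ p ^ m ∈ K := (QuotientGroup.eq_one_iff _).1 h4
          change (ρ w) ^ p ^ m = 1
          rw [← map_pow]
          exact (QuotientGroup.eq_one_iff _).2 h5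
        exact h3
      · intro h
        have h3 : H ≤ K := by
          intro x hx
          have h4 : ρ ⟨x, hHab x hx⟩ ∈ (H.subgroupOf N).map ρ := ⟨_, hx, rfl⟩
          rw [h, mem_bot] at h4
          have h5 : (⟨x, hHab x hx⟩ : N) ∈ K.subgroupOf N := (QuotientGroup.eq_one_iff _).1 h4
          exact h5
        have h4 : p ∣ Nat.card K := h1.trans (card_dvd_of_le h3)
        have h5 : p ∣ 1 := by
          have := Nat.dvd_gcd h4 (dvd_refl p)
          rwa [hKc] at this
        exact (Fact.out : p.Prime).one_lt.ne' (Nat.dvd_one.1 h5)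
  obtain ⟨j, hj⟩ := pNil_iff_core.1 hNnil
  haveI hcN : (pPrimeCore p N).Characteristic := Cfsg.Agent.Lib.Cores.pPrimeCore_characteristic p
  set K1 := (pPrimeCore p N).map N.subtype with hK1
  haveI hK1n : K1.Normal := inferInstance
  refine ⟨3, ![⊥, K1, N, ⊤], rfl, rfl, ?_, ?_, ?_⟩
  · rw [Fin.monotone_iff_le_succ]
    intro i
    fin_cases i
    · exact bot_le
    · exact map_subtype_le _
    · exact le_top
  · intro i
    fin_cases i
    · exact (inferInstance : (⊥ : Subgroup G).Normal)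
    · exact hK1n
    · exact hNn
    · exact (inferInstance : (⊤ : Subgroup G).Normal)
  · intro i
    fin_cases i
    · right
      change ((⊥ : Subgroup G).relIndex K1).Coprime p
      rw [relIndex_bot_left, hK1,
        ← Nat.card_congr ((pPrimeCore p N).equivMapOfInjective _ N.subtype_injective).toEquiv]
      exact Cfsg.Agent.Lib.Cores.pPrimeCore_coprime p
    · left
      refine ⟨j, ?_⟩
      change K1.relIndex N = p ^ j
      rw [← hj, relIndex]
      congr 1
      exact comap_map_eq_self_of_injective N.subtype_injective _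
    · right
      change (N.relIndex ⊤).Coprime p
      rw [relIndex_top_right]
      exact ((Nat.Prime.coprime_iff_not_dvd Fact.out).2 hNi).symm

end Cfsg.Agent.S4145
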