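import Cfsg.Statements.S0223
import Cfsg.Agent.Lib.InvolB

set_option autoImplicit false
open Cfsg

namespace Cfsg.Agent.S0223

open Cfsg.Agent.Lib.Invol Cfsg.Agent.Lib.InvolB Cfsg.Agent.Lib Subgroup

/-- Let H be a proper subgroup of even order of the finite group G. Then H is strongly embedded if and only if (i) C_G(t) ≤ H for every involution t of H and (ii) H controls fusion of its involutions: involutions of H conjugate in G are conjugate in H. -/
theorem result {G : Type*} [Group G] [Finite G] (H : Subgroup G) (hH : H ≠ ⊤) (heven : Even (Nat.card H)) : Cfsg.IsStronglyEmbedded H ↔ ((∀ t ∈ H, orderOf t = 2 → Subgroup.centralizer ({t} : Set G) ≤ H) ∧ (∀ t ∈ H, ∀ s ∈ H, orderOf t = 2 → orderOf s = 2 → IsConj t s → ∃ h ∈ H, h * t * h⁻¹ = s)) := by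
  have key : ∀ g x : G, x ∈ H.map (MulAut.conj g).toMonoidHom ↔ g⁻¹ * x * g ∈ H := fun g x =>
    SchurZas.mem_conj_smul_iff
  have hodd : ∀ K : Subgroup G, Odd (Nat.card K) → ∀ x ∈ K, orderOf x ≠ 2 := by
    intro K hK x hx h
    have h1 := orderOf_dvd_natCard (⟨x, hx⟩ : K)
    rw [← orderOf_coe] at h1
    change orderOf x ∣ _ at h1
    rw [h] at h1
    exact absurd hK (Nat.not_odd_iff_even.mpr (even_iff_two_dvd.mpr h1))
  constructor
  · rintro ⟨-, -, h⟩
    constructor
    · intro t ht hto c hc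
      by_contra hcH
      refine hodd _ (h c hcH) t ⟨ht, ?_⟩ hto
      have hc' := mem_centralizer_singleton_iff.mp hc
      refine (key c t).mpr ?_
      have : c⁻¹ * t * c = t := by
        rw [mul_assoc, ← hc']; group
      rw [this]; exact ht
    · intro t ht s hs hto hso hconj
      obtain ⟨g, hg⟩ := isConj_iff.mp hconj
      refine ⟨g, ?_, hg⟩
      by_contra hgH
      refine hodd _ (h g hgH) s ⟨hs, (key g s).mpr ?_⟩ hso
      have : g⁻¹ * s * g = t := by rw [← hg]; group
      rw [this]; exact ht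
  · rintro ⟨h1, h2⟩
    refine ⟨hH, heven, fun g hg => ?_⟩
    by_contra hne
    rw [Nat.not_odd_iff_even] at hne
    obtain ⟨s, hs⟩ := exists_involution hne
    have hs' : orderOf (s : G) = 2 := by rw [orderOf_coe]; exact hs
    obtain ⟨hsH, hsg⟩ := s.2
    have hsg' := (key g s).mp hsg
    have ho : orderOf (g⁻¹ * (s : G) * g) = 2 := by
      have : g⁻¹ * (s : G) * g = MulAut.conj g⁻¹ s := by simp
      rw [this, MulEquiv.orderOf_eq]; exact hs'
    obtain ⟨k, hk, hks⟩ := h2 _ hsg' s hsH ho hs' (isConj_iff.mpr ⟨g, by group⟩)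
    apply hg
    have h3 : k⁻¹ * g ∈ H := by
      apply h1 _ hsg' ho
      rw [mem_centralizer_singleton_iff]
      have : k * (g⁻¹ * s * g) = s * k := by
        nth_rewrite 2 [← hks]; group
      calc k⁻¹ * g * (g⁻¹ * s * g) = k⁻¹ * s * g := by group
        _ = k⁻¹ * (s * k) * k⁻¹ * g := by group
        _ = k⁻¹ * (k * (g⁻¹ * s * g)) * k⁻¹ * g := by rw [this]
        _ = _ := by group
    have := mul_mem hk h3
    rwa [mul_inv_cancel_left] at this

end Cfsg.Agent.S0223
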