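import Cfsg.Statements.S0214
import Cfsg.Agent.Lib.InvolB
import Cfsg.Agent.S0223

set_option autoImplicit false
open Cfsg

namespace Cfsg.Agent.S0214

open Cfsg.Agent.Lib.Invol Cfsg.Agent.Lib.InvolB Cfsg.Agent.Lib Subgroup Cfsg.Agent.Lib.PNilp
open scoped Pointwise

/-- Let H be a proper subgroup of the finite group G and P a nontrivial Sylow 2-subgroup of H. Then H is strongly embedded in G if and only if N_G(X) ≤ H for every nontrivial subgroup X of P. -/
theorem result {G : Type*} [Group G] [Finite G] (H : Subgroup G) (hH : H ≠ ⊤) (P : Sylow 2 ↥H) (hP : (P : Subgroup ↥H) ≠ ⊥) : Cfsg.IsStronglyEmbedded H ↔ (∀ X : Subgroup ↥H, X ≤ (P : Subgroup ↥H) → X ≠ ⊥ → Subgroup.normalizer ((X.map H.subtype : Subgroup G) : Set G) ≤ H) := by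
  have key : ∀ g x : G, x ∈ H.map (MulAut.conj g).toMonoidHom ↔ g⁻¹ * x * g ∈ H := fun g x =>
    SchurZas.mem_conj_smul_iff
  have hodd : ∀ K : Subgroup G, Odd (Nat.card K) → ∀ x ∈ K, orderOf x ≠ 2 := by
    intro K hK x hx h
    have h1 := orderOf_dvd_natCard (⟨x, hx⟩ : K)
    rw [← orderOf_coe] at h1
    change orderOf x ∣ _ at h1
    rw [h] at h1
    exact absurd hK (Nat.not_odd_iff_even.mpr (even_iff_two_dvd.mpr h1))
  have hinv : ∀ X : Subgroup H, X ≤ (P : Subgroup H) → X ≠ ⊥ → ∃ x ∈ X, orderOf x = 2 := by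
    intro X hX hX0
    obtain ⟨k, hk⟩ := (P.isPGroup'.to_le hX).exists_card_eq
    have hk0 : k ≠ 0 := by
      rintro rfl
      rw [pow_zero] at hk
      exact hX0 (Subgroup.card_eq_one.mp hk)
    obtain ⟨x, hx⟩ := exists_involution (G := X) (by
      rw [hk]; exact Nat.even_pow.mpr ⟨even_two, hk0⟩)
    exact ⟨x, x.2, by rw [orderOf_coe]; exact hx⟩
  constructor
  · rintro ⟨-, -, h⟩ X hX hX0 n hn
    by_contra hnH
    obtain ⟨x, hx, hxo⟩ := hinv X hX hX0
    refine hodd _ (h n hnH) x ⟨x.2, (key n x).mpr ?_⟩ (by rw [orderOf_coe]; exact hxo)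
    have h1 := (Subgroup.mem_normalizer_iff.mp (inv_mem hn) (x : G)).mp ⟨x, hx, rfl⟩
    rw [inv_inv] at h1
    exact map_subtype_le _ h1
  · intro h
    have hPe : Even (Nat.card H) := by
      obtain ⟨x, hx, hxo⟩ := hinv _ le_rfl hP
      have h1 := orderOf_dvd_natCard x
      rw [hxo] at h1
      exact even_iff_two_dvd.mpr h1
    refine ⟨hH, hPe, fun g hg => ?_⟩
    by_contra hne
    rw [Nat.not_odd_iff_even] at hne
    -- P is Sylow in G
    obtain ⟨R, hR⟩ := (P.isPGroup'.map H.subtype).exists_le_sylow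
    have hRP : (R : Subgroup G) = (P : Subgroup H).map H.subtype := by
      by_contra hne'
      have hlt := lt_of_le_of_ne hR (Ne.symm hne')
      have h1 := lt_inf_normalizer (R.isPGroup'.isNilpotent) hlt
      have h2 := h _ le_rfl hP
      have h3 : IsPGroup 2 ((R : Subgroup G).subgroupOf H) := R.isPGroup'.comap_subtype
      have h4 : (P : Subgroup H) ≤ (R : Subgroup G).subgroupOf H := by
        intro y hy
        exact hR ⟨y, hy, rfl⟩
      have h5 := P.is_maximal' h3 h4
      apply h1.not_ge
      rintro y ⟨hyR, hyN⟩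
      have hyH := h2 hyN
      refine ⟨⟨y, hyH⟩, ?_, rfl⟩
      rw [← h5]
      exact hyR
    -- the same for conjugates
    have hmain : ∀ X : Subgroup H, IsPGroup 2 X → X ≠ ⊥ →
        Subgroup.normalizer ((X.map H.subtype : Subgroup G) : Set G) ≤ H := by
      intro X hX hX0 n hn
      obtain ⟨S, hS⟩ := hX.exists_le_sylow
      obtain ⟨c, hc⟩ := MulAction.exists_smul_eq H S P
      have hXP : MulAut.conj c • X ≤ (P : Subgroup H) := by
        rw [← hc]
        exact Subgroup.pointwise_smul_le_pointwise_smul_iff.mpr hS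
      have hX0' : MulAut.conj c • X ≠ ⊥ := by
        intro h0
        apply hX0
        rw [← Subgroup.card_eq_one, ← SchurZas.card_conj_smul c X, h0, Subgroup.card_bot]
      have h1 := h _ hXP hX0'
      rw [SchurZas.map_conj_smul] at h1
      have h2 : (c : G) * n * (c : G)⁻¹ ∈ Subgroup.normalizer
          ((MulAut.conj (c : G) • X.map H.subtype : Subgroup G) : Set G) := by
        rw [Coprime.mem_normalizer_iff_conj_smul_eq, ← mul_smul, ← map_mul]
        have e : (c : G) * n * (c : G)⁻¹ * c = c * n := by group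
        rw [e, map_mul, mul_smul, Coprime.conj_smul_eq_of_mem_normalizer hn]
      have h3 := h1 h2
      have h4 := mul_mem (mul_mem (inv_mem c.2) h3) c.2
      have e : (c : G)⁻¹ * (c * n * (c : G)⁻¹) * c = n := by group
      rwa [e] at h4
    obtain ⟨D, hD⟩ : ∃ D, D = H ⊓ H.map (MulAut.conj g).toMonoidHom := ⟨_, rfl⟩
    rw [← hD] at hne
    obtain ⟨T⟩ := (inferInstance : Nonempty (Sylow 2 D))
    set T' := (T : Subgroup D).map D.subtype with hT'
    have hDH : D ≤ H := by rw [hD]; exact inf_le_left
    have hT'H : T' ≤ H := (map_subtype_le _).trans hDH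
    have hT'p : IsPGroup 2 T' := T.isPGroup'.map _
    have hT'0 : T' ≠ ⊥ := by
      intro h0
      have h1 : (T : Subgroup D) = ⊥ := by
        rwa [hT', Subgroup.map_eq_bot_iff_of_injective _ D.subtype_injective] at h0
      have h2 := T.card_eq_multiplicity
      change Nat.card (T : Subgroup D) = _ at h2
      rw [h1, Subgroup.card_bot] at h2
      have h3 : (Nat.card D).factorization 2 ≠ 0 := by
        have := (Nat.prime_two.dvd_iff_one_le_factorization (Nat.card_pos.ne')).mp
          (even_iff_two_dvd.mp hne)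
        omega
      have := Nat.one_lt_two_pow h3
      omega
    have hNT : Subgroup.normalizer (T' : Set G) ≤ H := by
      have h1 := hmain (T'.subgroupOf H) (hT'p.comap_subtype) (by
        intro h0
        apply hT'0
        rw [← inf_eq_left.mpr hT'H, ← subgroupOf_map_subtype, h0, Subgroup.map_bot])
      rwa [subgroupOf_map_subtype, inf_eq_left.mpr hT'H] at h1
    -- the Sylow subgroup g R g⁻¹ ≤ gHg⁻¹
    -- T' is contained in a Sylow subgroup of gHg⁻¹
    have hgT : MulAut.conj g⁻¹ • T' ≤ H := by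
      intro x hx
      have h1 : T' ≤ H.map (MulAut.conj g).toMonoidHom := by
        refine (map_subtype_le _).trans ?_
        rw [hD]; exact inf_le_right
      have h2 : g * x * g⁻¹ ∈ T' := by
        have := SchurZas.mem_conj_smul_iff.mp hx
        rwa [inv_inv] at this
      have h3 := (key g _).mp (h1 h2)
      have e : g⁻¹ * (g * x * g⁻¹) * g = x := by group
      rwa [e] at h3
    have hgTp : IsPGroup 2 ((MulAut.conj g⁻¹ • T').subgroupOf H) := (hT'p.map _).comap_subtype
    obtain ⟨S, hS⟩ := hgTp.exists_le_sylow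
    -- S' = g S g⁻¹
    set S' : Subgroup G := MulAut.conj g • ((S : Subgroup H).map H.subtype) with hS'
    have hS'p : IsPGroup 2 S' := (S.isPGroup'.map _).map _
    have hTS' : T' ≤ S' := by
      intro x hx
      rw [hS', SchurZas.mem_conj_smul_iff]
      have h1 : g⁻¹ * x * g ∈ MulAut.conj g⁻¹ • T' := by
        rw [SchurZas.mem_conj_smul_iff, inv_inv]
        have e : g * (g⁻¹ * x * g) * g⁻¹ = x := by group
        rw [e]; exact hx
      exact ⟨⟨_, hgT h1⟩, hS h1, rfl⟩
    have hS'H : S' ≤ H.map (MulAut.conj g).toMonoidHom := by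
      have := Subgroup.pointwise_smul_le_pointwise_smul_iff (a := MulAut.conj g)
        |>.mpr (map_subtype_le (S : Subgroup H))
      exact this
    rcases eq_or_lt_of_le hTS' with heq | hlt
    · -- T' is a Sylow subgroup of gHg⁻¹ and hence of H
      have hcardS : Nat.card S' = Nat.card (P : Subgroup H) := by
        rw [hS', SchurZas.card_conj_smul, card_map_of_injective H.subtype_injective]
        obtain ⟨c, hc⟩ := MulAction.exists_smul_eq H S P
        rw [← hc]
        exact (SchurZas.card_conj_smul c (S : Subgroup H)).symm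
      have hQ1 : Nat.card (T'.subgroupOf H) = 2 ^ (Nat.card H).factorization 2 := by
        rw [Nat.card_congr (subgroupOfEquivOfLe hT'H).toEquiv, heq, hcardS]
        exact P.card_eq_multiplicity
      have hQ2 : Nat.card ((MulAut.conj g⁻¹ • T').subgroupOf H) = 2 ^ (Nat.card H).factorization 2 := by
        rw [Nat.card_congr (subgroupOfEquivOfLe hgT).toEquiv, SchurZas.card_conj_smul, heq, hcardS]
        exact P.card_eq_multiplicity
      obtain ⟨c, hc⟩ := MulAction.exists_smul_eq H (Sylow.ofCard _ hQ2) (Sylow.ofCard _ hQ1)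
      have hc' : MulAut.conj c • ((MulAut.conj g⁻¹ • T').subgroupOf H) = T'.subgroupOf H :=
        congrArg (fun R : Sylow 2 H => (R : Subgroup H)) hc
      have hc'' := SchurZas.conj_smul_subgroupOf' c hgT hT'H hc'
      rw [← mul_smul, ← map_mul] at hc''
      have h1 := hNT (Coprime.mem_normalizer_of_conj_smul_eq hc'')
      apply hg
      have h2 := inv_mem (mul_mem (inv_mem c.2) h1)
      have e : ((c : G)⁻¹ * (c * g⁻¹))⁻¹ = g := by group
      rwa [e] at h2
    · have h1 := lt_inf_normalizer hS'p.isNilpotent hlt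
      have h2 : S' ⊓ Subgroup.normalizer (T' : Set G) ≤ D := by
        rw [hD]
        exact le_inf (inf_le_right.trans hNT) (inf_le_left.trans hS'H)
      have h3 : IsPGroup 2 ((S' ⊓ Subgroup.normalizer (T' : Set G)).subgroupOf D) :=
        (hS'p.to_le inf_le_left).comap_subtype
      have h4 : (T : Subgroup D) ≤ (S' ⊓ Subgroup.normalizer (T' : Set G)).subgroupOf D := by
        intro y hy
        exact h1.le ⟨y, hy, rfl⟩
      have h5 := T.is_maximal' h3 h4
      apply h1.not_ge
      intro y hy
      refine ⟨⟨y, h2 hy⟩, ?_, rfl⟩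
      rw [← h5]
      exact hy

end Cfsg.Agent.S0214
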