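import Cfsg.Statements.S0224
import Cfsg.Agent.Lib.InvolB

set_option autoImplicit false
open Cfsg

namespace Cfsg.Agent.S0224

open Cfsg.Agent.Lib.Invol Cfsg.Agent.Lib.InvolB Cfsg.Agent.Lib Subgroup

/-- Let H be a proper subgroup of even order of the finite group G. Then H is strongly embedded if and only if each involution of H fixes exactly one point (namely the coset H) in the action of G on the cosets of H. -/
theorem result {G : Type*} [Group G] [Finite G] (H : Subgroup G) (hH : H ≠ ⊤) (heven : Even (Nat.card H)) : Cfsg.IsStronglyEmbedded H ↔ ∀ t ∈ H, orderOf t = 2 → Nat.card {c : G ⧸ H // t • c = c} = 1 := by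
  have key : ∀ g x : G, x ∈ H.map (MulAut.conj g).toMonoidHom ↔ g⁻¹ * x * g ∈ H := fun g x =>
    SchurZas.mem_conj_smul_iff
  have hodd : ∀ K : Subgroup G, Odd (Nat.card K) → ∀ x ∈ K, orderOf x ≠ 2 := by
    intro K hK x hx h
    have h1 := orderOf_dvd_natCard (⟨x, hx⟩ : K)
    rw [← orderOf_coe] at h1
    change orderOf x ∣ _ at h1
    rw [h] at h1
    exact absurd hK (Nat.not_odd_iff_even.mpr (even_iff_two_dvd.mpr h1))
  have hfix : ∀ t g : G, (t • (QuotientGroup.mk g : G ⧸ H) = QuotientGroup.mk g) ↔ g⁻¹ * t * g ∈ H := by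
    intro t g
    have : t • (QuotientGroup.mk g : G ⧸ H) = QuotientGroup.mk (t * g) := rfl
    rw [this, eq_comm, QuotientGroup.eq, mul_assoc]
  constructor
  · rintro ⟨-, -, h⟩ t ht hto
    rw [Nat.card_eq_one_iff_unique]
    refine ⟨⟨?_⟩, ⟨⟨QuotientGroup.mk 1, (hfix t 1).mpr (by simpa using ht)⟩⟩⟩
    have h1 : ∀ c : G ⧸ H, t • c = c → c = QuotientGroup.mk 1 := by
      intro c hc
      obtain ⟨g, rfl⟩ := QuotientGroup.mk_surjective c
      rw [hfix] at hc
      rw [eq_comm, QuotientGroup.eq, inv_one, one_mul]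
      by_contra hg
      exact hodd _ (h g hg) t ⟨ht, (key g t).mpr hc⟩ hto
    intro a b
    exact Subtype.ext ((h1 _ a.2).trans (h1 _ b.2).symm)
  · intro h
    refine ⟨hH, heven, fun g hg => ?_⟩
    by_contra hne
    rw [Nat.not_odd_iff_even] at hne
    obtain ⟨s, hs⟩ := exists_involution hne
    have hs' : orderOf (s : G) = 2 := by rw [orderOf_coe]; exact hs
    obtain ⟨hsH, hsg⟩ := s.2
    have hsg' := (key g s).mp hsg
    have h1 := (Nat.card_eq_one_iff_unique.mp (h s hsH hs')).1
    have h2 := @Subsingleton.elim _ h1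
      (⟨QuotientGroup.mk 1, (hfix s 1).mpr (by simpa using hsH)⟩ : {c : G ⧸ H // (s : G) • c = c})
      ⟨QuotientGroup.mk g, (hfix s g).mpr hsg'⟩
    have h3 := Subtype.mk.inj h2
    rw [QuotientGroup.eq, inv_one, one_mul] at h3
    exact hg h3

end Cfsg.Agent.S0224
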