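import Cfsg.Statements.S0647
import Cfsg.Agent.Lib.QuadD

set_option autoImplicit false
open Cfsg

namespace Cfsg.Agent.S0647

open Cfsg.Agent.Lib

/-- For a nonempty family of maximal abelian subgroups of a finite group, the intersection of the family is the centre of the subgroup it generates, which is also the full centralizer of that subgroup. -/
theorem result {S : Type*} [Group S] [Finite S] (𝒜 : Set (Subgroup S)) (hne : 𝒜.Nonempty) (hab : ∀ A ∈ 𝒜, IsMulCommutative A) (hmax : ∀ A ∈ 𝒜, ∀ B : Subgroup S, IsMulCommutative B → A ≤ B → B = A) : sInf 𝒜 = sSup 𝒜 ⊓ Subgroup.centralizer ((sSup 𝒜 : Subgroup S) : Set S) ∧ sInf 𝒜 = Subgroup.centralizer ((sSup 𝒜 : Subgroup S) : Set S) := by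
  have hcomm : ∀ A ∈ 𝒜, ∀ x ∈ A, ∀ y ∈ A, x * y = y * x := fun A hA x hx y hy =>
    congrArg Subtype.val ((hab A hA).is_comm.comm (⟨x, hx⟩ : A) ⟨y, hy⟩)
  have h1 : sInf 𝒜 = Subgroup.centralizer ((sSup 𝒜 : Subgroup S) : Set S) := by
    apply le_antisymm
    · rw [Subgroup.le_centralizer_iff]
      refine sSup_le fun A hA => ?_
      intro x hx
      refine Subgroup.mem_centralizer_iff.mpr fun y hy => ?_
      exact hcomm A hA y ((Subgroup.mem_sInf.mp hy) A hA) x hx
    · refine le_sInf fun A hA => ?_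
      intro x hx
      have hxA : x ∈ Subgroup.centralizer (A : Set S) := Subgroup.centralizer_le (SetLike.coe_subset_coe.mpr (le_sSup hA)) hx
      have hn : Subgroup.zpowers x ≤ Subgroup.normalizer (A : Set S) := by
        rw [Subgroup.zpowers_le]; exact Subgroup.centralizer_le_normalizer _ hxA
      have hz : ∀ n : ℤ, ∀ a ∈ A, a * x ^ n = x ^ n * a := fun n a ha =>
        ((show Commute a x from Subgroup.mem_centralizer_iff.mp hxA a ha).zpow_right n).eq
      have hB : IsMulCommutative (A ⊔ Subgroup.zpowers x : Subgroup S) := by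
        refine ⟨⟨fun u v => Subtype.ext ?_⟩⟩
        obtain ⟨a, ha, y, hy, hu⟩ := (Basic.mem_sup_iff_left hn).mp u.2
        obtain ⟨b, hb, z, hz', hv⟩ := (Basic.mem_sup_iff_left hn).mp v.2
        obtain ⟨m, rfl⟩ := Subgroup.mem_zpowers_iff.mp hy
        obtain ⟨n, rfl⟩ := Subgroup.mem_zpowers_iff.mp hz'
        change (u : S) * v = v * u
        rw [← hu, ← hv]
        calc a * x ^ m * (b * x ^ n) = a * (x ^ m * b) * x ^ n := by group
          _ = a * (b * x ^ m) * x ^ n := by rw [hz m b hb]
          _ = (a * b) * (x ^ m * x ^ n) := by group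
          _ = (b * a) * (x ^ n * x ^ m) := by rw [hcomm A hA a ha b hb, ← zpow_add, ← zpow_add, add_comm]
          _ = b * (a * x ^ n) * x ^ m := by group
          _ = b * (x ^ n * a) * x ^ m := by rw [hz n a ha]
          _ = b * x ^ n * (a * x ^ m) := by group
      have := hmax A hA _ hB le_sup_left
      rw [← this]
      exact (le_sup_right : Subgroup.zpowers x ≤ A ⊔ Subgroup.zpowers x) (Subgroup.mem_zpowers x)
  refine ⟨?_, h1⟩
  rw [← h1]
  obtain ⟨A, hA⟩ := hne
  exact (inf_eq_right.mpr ((sInf_le hA).trans (le_sSup hA))).symm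

end Cfsg.Agent.S0647
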