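import Cfsg.Statements.S0649
import Cfsg.Agent.Lib.QuadD

set_option autoImplicit false
open Cfsg

namespace Cfsg.Agent.S0649

open Cfsg.Agent.Lib Subgroup

/-- In the Glauberman replacement situation, if B does not normalize A then some element of B normalizes N_S(A) without normalizing A. -/
theorem result {S : Type*} [Group S] [Finite S] {p : ℕ} [Fact p.Prime] (hS : IsPGroup p S) (B : Subgroup S) [B.Normal] (hB2 : p = 2 → IsMulCommutative B) (A : Subgroup S) (hA : IsMulCommutative A) (hBA : ⁅B, B⁆ ≤ A) (hnot : ¬ B ≤ Subgroup.normalizer (A : Set S)) : ∃ b ∈ B, b ∈ Subgroup.normalizer ((Subgroup.normalizer (A : Set S)) : Set S) ∧ b ∉ Subgroup.normalizer (A : Set S) := by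
  set N := normalizer (A : Set S) with hN
  have hlt : N < B ⊔ N := lt_of_le_of_ne le_sup_right (fun h => hnot (by rw [h]; exact le_sup_left))
  have hnil : Group.IsNilpotent (B ⊔ N : Subgroup S) := (hS.to_subgroup _).isNilpotent
  have h1 := PNilp.lt_inf_normalizer hnil hlt
  obtain ⟨x, hx, hxN⟩ := SetLike.exists_of_lt h1
  obtain ⟨b, hb, n, hn, he⟩ := (Basic.mem_sup_iff_left (le_top.trans (normalizer_eq_top_iff.mpr inferInstance).ge : N ≤ normalizer (B : Set S))).mp (mem_inf.mp hx).1
  refine ⟨b, hb, ?_, ?_⟩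
  · have : b = x * n⁻¹ := by rw [← he]; group
    rw [this]
    exact mul_mem (mem_inf.mp hx).2 (inv_mem (le_normalizer hn))
  · intro h
    exact hxN (by rw [← he]; exact mul_mem h hn)

end Cfsg.Agent.S0649
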