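import Cfsg.Statements.S0651
import Cfsg.Agent.Lib.GRep

set_option autoImplicit false
open Cfsg

namespace Cfsg.Agent.S0651

open Cfsg.Agent.Lib Subgroup

/-- For odd p and D normal in the p-group S, the abelian subgroups of D of largest order satisfy the replacement property: a class-2 normal subgroup B of S with a member containing [B, B] but not B normalizes some such member. -/
theorem result {S : Type*} [Group S] [Finite S] {p : ℕ} [Fact p.Prime] (hS : IsPGroup p S) (hp : p ≠ 2) (D : Subgroup S) [D.Normal] : ∀ (B : Subgroup S) [B.Normal], ⁅⁅B, B⁆, B⁆ = ⊥ → (∃ U ∈ (Set.image (fun A : Subgroup ↥D => A.map D.subtype) (Cfsg.maxAbelianSubgroups ↥D)), ⁅B, B⁆ ≤ U ∧ ¬ B ≤ U) → ∃ A ∈ (Set.image (fun A : Subgroup ↥D => A.map D.subtype) (Cfsg.maxAbelianSubgroups ↥D)), ⁅B, B⁆ ≤ A ∧ ¬ B ≤ A ∧ B ≤ Subgroup.normalizer (A : Set S) := by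
  intro B hBn _ hU
  obtain ⟨U, hU, hBU, hnU⟩ := hU
  refine GRep.exists_normalized hS (fun h => absurd h hp) _ ?_ ?_ hU hBU hnU
  · rintro _ ⟨A, hA, rfl⟩ _ ⟨x, hx, rfl⟩ _ ⟨y, hy, rfl⟩
    have := congrArg Subtype.val (hA.1.is_comm.comm (⟨x, hx⟩ : A) ⟨y, hy⟩)
    exact congrArg Subtype.val this
  · rintro _ ⟨A, hA, rfl⟩ b hb hBA hbN hbA
    have hAc : ∀ x ∈ A.map D.subtype, ∀ y ∈ A.map D.subtype, x * y = y * x := by
      rintro _ ⟨x, hx, rfl⟩ _ ⟨y, hy, rfl⟩
      have := congrArg Subtype.val (hA.1.is_comm.comm (⟨x, hx⟩ : A) ⟨y, hy⟩)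
      exact congrArg Subtype.val this
    obtain ⟨h1, h2, -⟩ := GRep.star_spec hS (fun h => absurd h hp) hAc hBA hb hbN hbA
    have hle : GRep.star (A.map D.subtype) b ≤ D := by
      refine sup_le (inf_le_left.trans (map_subtype_le _)) ?_
      rw [closure_le]
      rintro _ ⟨a, ha, rfl⟩
      have haD : a ∈ D := map_subtype_le _ ha
      have e : a * b⁻¹ * a⁻¹ * b = a * (b⁻¹ * a⁻¹ * b⁻¹⁻¹) := by group
      rw [e]
      exact mul_mem haD ((inferInstance : D.Normal).conj_mem _ (inv_mem haD) _)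
    refine ⟨(GRep.star (A.map D.subtype) b).subgroupOf D, ⟨?_, ?_⟩, ?_⟩
    · refine ⟨⟨fun x y => ?_⟩⟩
      apply Subtype.ext; apply Subtype.ext
      exact h2 _ x.2 _ y.2
    · intro C hC
      have h3 := hA.2 C hC
      have h4 : Nat.card ((GRep.star (A.map D.subtype) b).subgroupOf D) = Nat.card A := by
        rw [← ThompsonJ.card_map_inj D.subtype D.subtype_injective ((GRep.star (A.map D.subtype) b).subgroupOf D),
          map_subgroupOf_eq_of_le hle, h1, ThompsonJ.card_map_inj _ D.subtype_injective]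
      rw [h4]
      exact h3
    · exact map_subgroupOf_eq_of_le hle

end Cfsg.Agent.S0651
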