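import Cfsg.Statements.S0988
import Mathlib
import Cfsg.Agent.S0144
-- import your own Cfsg.Agent.* helpers here

set_option autoImplicit false
open Cfsg

namespace Cfsg.Agent.S0988

theorem noTransfer {G : Type*} [Group G] [Finite G] [IsSimpleGroup G] {p : ℕ} [Fact p.Prime] (P : Sylow p G)
    (hN : Subgroup.normalizer ((P : Subgroup G) : Set G) ≤ Subgroup.centralizer ((P : Subgroup G) : Set G)) (hp : p ∣ Nat.card G) :
    Nat.card G = Nat.card (P : Subgroup G) := by
  have hc := MonoidHom.ker_transferSylow_isComplement' P hN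
  rcases IsSimpleGroup.eq_bot_or_eq_top_of_normal _ (MonoidHom.normal_ker (MonoidHom.transferSylow P hN)) with h | h
  · rw [h] at hc
    rw [Subgroup.isComplement'_bot_left] at hc
    rw [hc, Subgroup.card_top]
  · exfalso
    rw [h] at hc
    rw [Subgroup.isComplement'_top_left] at hc
    have := P.dvd_card_of_dvd_card hp
    rw [hc, Subgroup.card_bot] at this
    exact (Fact.out : p.Prime).one_lt.ne' (Nat.dvd_one.1 this)

theorem card_syl {G : Type*} [Group G] [Finite G] {s k m : ℕ} [Fact s.Prime] (P : Sylow s G) (h : Nat.card G = s ^ k * m)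
    (hm : ¬ s ∣ m) : Nat.card (P : Subgroup G) = s ^ k := by
  have hs : s.Prime := Fact.out
  obtain ⟨n, hn⟩ := IsPGroup.iff_card.1 P.2
  have h1 : s ^ k ∣ Nat.card (P : Subgroup G) := P.pow_dvd_card_of_pow_dvd_card (h ▸ dvd_mul_right _ _)
  have h2 : s ^ n ∣ s ^ k * m := by rw [← hn, ← h]; exact Subgroup.card_subgroup_dvd_card _
  have h3 : (s ^ n).Coprime m := Nat.Coprime.pow_left n ((Nat.Prime.coprime_iff_not_dvd hs).2 hm)
  have h4 : s ^ n ∣ s ^ k := h3.dvd_of_dvd_mul_right h2
  rw [hn] at h1 ⊢
  exact Nat.dvd_antisymm h4 h1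

theorem comm_card {G : Type*} [Group G] [Finite G] [IsSimpleGroup G] (hc : ∀ a b : G, a * b = b * a) {p : ℕ} (hp : p.Prime)
    (hd : p ∣ Nat.card G) : Nat.card G = p := by
  haveI := Fact.mk hp
  obtain ⟨x, hx⟩ := exists_prime_orderOf_dvd_card' p hd
  have hn : (Subgroup.zpowers x).Normal := ⟨fun a ha g => by rw [hc g a, mul_inv_cancel_right]; exact ha⟩
  rcases IsSimpleGroup.eq_bot_or_eq_top_of_normal _ hn with h | h
  · exfalso
    rw [Subgroup.zpowers_eq_bot] at h
    rw [h, orderOf_one] at hx
    exact hp.one_lt.ne hx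
  · rw [← Subgroup.card_top (G := G), ← h, Nat.card_zpowers, hx]

theorem aux {G : Type*} [Group G] [Finite G] [IsSimpleGroup G] (hsol : ¬ Group.IsSolvable G) (p q r : ℕ) (hp : p.Prime) (hq : q.Prime) (hr : r.Prime)
    (hG : Nat.card G = p ^ 2 * q * r) (hpq : p ≠ q) (hpr : p ≠ r) (hqr : q < r) : Nat.card G = 60 := by
  classical
  haveI := Fact.mk hp
  haveI := Fact.mk hq
  haveI := Fact.mk hr
  have hqp : ¬ q ∣ p ^ 2 * r := by
    intro h
    rcases (Nat.Prime.dvd_mul hq).1 h with h | h
    · exact hpq ((Nat.prime_dvd_prime_iff_eq hq hp).1 (hq.dvd_of_dvd_pow h)).symm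
    · exact hqr.ne ((Nat.prime_dvd_prime_iff_eq hq hr).1 h)
  have hrp : ¬ r ∣ p ^ 2 * q := by
    intro h
    rcases (Nat.Prime.dvd_mul hr).1 h with h | h
    · exact hpr ((Nat.prime_dvd_prime_iff_eq hr hp).1 (hr.dvd_of_dvd_pow h)).symm
    · exact hqr.ne' ((Nat.prime_dvd_prime_iff_eq hr hq).1 h)
  have hpp : ¬ p ∣ q * r := by
    intro h
    rcases (Nat.Prime.dvd_mul hp).1 h with h | h
    · exact hpq ((Nat.prime_dvd_prime_iff_eq hp hq).1 h)
    · exact hpr ((Nat.prime_dvd_prime_iff_eq hp hr).1 h)
  have hp2 := hp.two_le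
  have hq2 := hq.two_le
  have hr2 := hr.two_le
  -- `p < q`
  have hlt : p < q := by
    by_contra hle
    have hqlt : q < p := lt_of_le_of_ne (not_lt.1 hle) (Ne.symm hpq)
    have hmin : (Nat.card G).minFac = q := by
      have h1 : (Nat.card G).minFac ∣ p ^ 2 * q * r := hG ▸ Nat.minFac_dvd _
      have hne1 : Nat.card G ≠ 1 := by
        rw [hG]; intro h
        have := Nat.eq_one_of_mul_eq_one_left h
        omega
      have hmp := Nat.minFac_prime hne1
      have hle' : (Nat.card G).minFac ≤ q := Nat.minFac_le_of_dvd hq2 (by rw [hG]; exact ⟨p ^ 2 * r, by ring⟩)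
      rcases (Nat.Prime.dvd_mul hmp).1 h1 with h | h
      · rcases (Nat.Prime.dvd_mul hmp).1 h with h | h
        · have := (Nat.prime_dvd_prime_iff_eq hmp hp).1 (hmp.dvd_of_dvd_pow h)
          omega
        · exact (Nat.prime_dvd_prime_iff_eq hmp hq).1 h
      · have := (Nat.prime_dvd_prime_iff_eq hmp hr).1 h
        omega
    obtain ⟨Q⟩ := (inferInstance : Nonempty (Sylow q G))
    have hQc : Nat.card (Q : Subgroup G) = q := by
      have := card_syl Q (k := 1) (m := p ^ 2 * r) (by rw [hG]; ring) hqp
      rwa [pow_one] at this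
    have hcyc : IsCyclic (Q : Subgroup G) := isCyclic_of_prime_card hQc
    have h2 := noTransfer Q (hcyc.normalizer_le_centralizer hmin) (by rw [hG]; exact ⟨p ^ 2 * r, by ring⟩)
    rw [hQc, hG] at h2
    have h3 : p ^ 2 * q * r = q * (p ^ 2 * r) := by ring
    rw [h3] at h2
    have h4 : p ^ 2 * r = 1 := Nat.eq_of_mul_eq_mul_left hq.pos (by rw [h2, mul_one])
    have := Nat.eq_one_of_mul_eq_one_left h4
    omega
  obtain ⟨P⟩ := (inferInstance : Nonempty (Sylow p G))
  have hPc : Nat.card (P : Subgroup G) = p ^ 2 := card_syl P (k := 2) (m := q * r) (by rw [hG]; ring) hpp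
  have hPcomm : IsMulCommutative (P : Subgroup G) := IsPGroup.isMulCommutative_of_card_eq_prime_sq hPc
  set N := Subgroup.normalizer ((P : Subgroup G) : Set G) with hN
  set C := Subgroup.centralizer ((P : Subgroup G) : Set G) with hC
  have hPC : (P : Subgroup G) ≤ C := by
    intro x hx
    rw [hC, Subgroup.mem_centralizer_iff]
    intro y hy
    exact congrArg Subtype.val (hPcomm.is_comm.comm ⟨y, hy⟩ ⟨x, hx⟩)
  have hnot : ¬ N ≤ C := by
    intro h
    have h2 := noTransfer P h (by rw [hG]; exact ⟨p * q * r, by ring⟩)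
    rw [hPc, hG] at h2
    have h4 : q * r = 1 := Nat.eq_of_mul_eq_mul_left (pow_pos hp.pos 2) (by rw [← mul_assoc, h2, mul_one])
    have := Nat.eq_one_of_mul_eq_one_left h4
    omega
  -- the automorphisms induced on `P`
  set φ := Subgroup.normalizerMonoidHom (P : Subgroup G) with hφ
  have hrange : Nat.card φ.range = C.relIndex N := by
    rw [← Subgroup.index_ker, hφ, Subgroup.normalizerMonoidHom_ker]
    rfl
  have hdvd : Nat.card φ.range ∣ q * r := by
    rw [hrange]
    have h1 : C.relIndex N ∣ (P : Subgroup G).relIndex N := Subgroup.relIndex_dvd_of_le_left N hPC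
    have h2 : (P : Subgroup G).relIndex N ∣ (P : Subgroup G).index := ⟨_, (Subgroup.relIndex_mul_index (Subgroup.le_normalizer)).symm⟩
    have h3 : (P : Subgroup G).index = q * r := by
      have := Subgroup.card_mul_index (P : Subgroup G)
      rw [hPc, hG, mul_assoc] at this
      exact Nat.eq_of_mul_eq_mul_left (pow_pos hp.pos 2) this
    rw [← h3]; exact h1.trans h2
  have hne1 : Nat.card φ.range ≠ 1 := by
    rw [hrange]
    intro h
    exact hnot (Subgroup.relIndex_eq_one.1 h)
  obtain ⟨s, hs, hsd⟩ := Nat.exists_prime_and_dvd hne1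
  have hsqr : s = q ∨ s = r := by
    rcases (Nat.Prime.dvd_mul hs).1 (hsd.trans hdvd) with h | h
    · exact Or.inl ((Nat.prime_dvd_prime_iff_eq hs hq).1 h)
    · exact Or.inr ((Nat.prime_dvd_prime_iff_eq hs hr).1 h)
  haveI := Fact.mk hs
  obtain ⟨α', hα'⟩ := exists_prime_orderOf_dvd_card' s hsd
  set α : MulAut (P : Subgroup G) := α'.1 with hα
  have hαo : orderOf α = s := by rw [hα, Subgroup.orderOf_coe, hα']
  have hα1 : α ≠ 1 := by
    intro h; rw [h, orderOf_one] at hαo; exact hs.one_lt.ne hαo
  -- fixed points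
  let Fx : Subgroup (P : Subgroup G) :=
    { carrier := {x | α x = x}
      mul_mem' := by
        intro a b ha hb
        change α (a * b) = a * b
        rw [map_mul, show α a = a from ha, show α b = b from hb]
      one_mem' := map_one α
      inv_mem' := by
        intro a ha
        change α a⁻¹ = a⁻¹
        rw [map_inv, show α a = a from ha] }
  have hFne : Fx ≠ ⊤ := by
    intro h
    apply hα1
    ext x
    have : x ∈ Fx := by rw [h]; trivial
    exact congrArg Subtype.val (show α x = x from this)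
  have hpg : IsPGroup s (Subgroup.zpowers α) := IsPGroup.of_card (n := 1) (by rw [Nat.card_zpowers, hαo, pow_one])
  have hmod := hpg.card_modEq_card_fixedPoints (P : Subgroup G)
  have hfix : Nat.card (MulAction.fixedPoints (Subgroup.zpowers α) (P : Subgroup G)) = Nat.card Fx := by
    have hset : MulAction.fixedPoints (Subgroup.zpowers α) (P : Subgroup G) = (Fx : Set (P : Subgroup G)) := by
      ext x
      constructor
      · intro hx
        exact hx ⟨α, Subgroup.mem_zpowers α⟩
      · intro hx
        rintro ⟨β, hβ⟩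
        change β x = x
        have h1 : Subgroup.zpowers α ≤ MulAction.stabilizer (MulAut (P : Subgroup G)) x := by
          rw [Subgroup.zpowers_le]; exact hx
        exact h1 hβ
    rw [hset]; rfl
  rw [hfix, hPc] at hmod
  have hsge : q ≤ s := by rcases hsqr with h | h <;> omega
  have hFd : Nat.card Fx ∣ p ^ 2 := by rw [← hPc]; exact Subgroup.card_subgroup_dvd_card _
  obtain ⟨j, hj, hj'⟩ := (Nat.dvd_prime_pow hp).1 hFd
  have hsp : s ∣ p + 1 := by
    interval_cases j
    · rw [hj', pow_zero] at hmod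
      have h1 : s ∣ p ^ 2 - 1 := (Nat.modEq_iff_dvd' (Nat.one_le_pow _ _ hp.pos)).1 hmod.symm
      have h2 : p ^ 2 - 1 = (p + 1) * (p - 1) := by
        have := Nat.sq_sub_sq p 1
        simpa using this
      rw [h2] at h1
      rcases (Nat.Prime.dvd_mul hs).1 h1 with h | h
      · exact h
      · have := Nat.le_of_dvd (by omega) h
        omega
    · exfalso
      rw [hj', pow_one] at hmod
      have h1 : s ∣ p ^ 2 - p := (Nat.modEq_iff_dvd' (by nlinarith)).1 hmod.symm
      have h2 : p ^ 2 - p = p * (p - 1) := by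
        obtain ⟨k, rfl⟩ : ∃ k, p = k + 1 := ⟨p - 1, by omega⟩
        rw [Nat.add_sub_cancel, pow_two, Nat.mul_succ, Nat.add_sub_cancel]
      rw [h2] at h1
      rcases (Nat.Prime.dvd_mul hs).1 h1 with h | h
      · have := (Nat.prime_dvd_prime_iff_eq hs hp).1 h
        omega
      · have := Nat.le_of_dvd (by omega) h
        omega
    · exfalso
      apply hFne
      apply Subgroup.eq_top_of_card_eq
      rw [hj', hPc]
  have hsle := Nat.le_of_dvd (by omega) hsp
  have hq' : q = p + 1 := by omega
  have hp' : p = 2 := by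
    rcases hp.eq_two_or_odd with h | h
    · exact h
    · rcases hq.eq_two_or_odd with h' | h'
      · omega
      · omega
  subst hp'
  have hq3 : q = 3 := by omega
  subst hq3
  -- order `12 r`
  obtain ⟨R⟩ := (inferInstance : Nonempty (Sylow r G))
  have hRc : Nat.card (R : Subgroup G) = r := by
    have := card_syl R (k := 1) (m := 2 ^ 2 * 3) (by rw [hG]; ring) hrp
    rwa [pow_one] at this
  have hRi : (R : Subgroup G).index = 12 := by
    have := Subgroup.card_mul_index (R : Subgroup G)
    rw [hRc, hG] at this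
    apply Nat.eq_of_mul_eq_mul_left hr.pos
    rw [this]; ring
  have hn : Nat.card (Sylow r G) ∣ 12 := by rw [← hRi]; exact R.card_dvd_index
  have hnm := card_sylow_modEq_one r G
  have hn1 : Nat.card (Sylow r G) ≠ 1 := by
    intro h
    haveI : Subsingleton (Sylow r G) := (Nat.card_eq_one_iff_unique.1 h).1
    have hRn : (R : Subgroup G).Normal := R.normal_of_subsingleton
    rcases IsSimpleGroup.eq_bot_or_eq_top_of_normal _ hRn with h | h
    · rw [h, Subgroup.card_bot] at hRc; omega
    · rw [h, Subgroup.index_top] at hRi; omega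
  have hr5 : 5 ≤ r := by
    by_contra h
    have : r = 4 := by omega
    rw [this] at hr
    exact absurd hr (by decide)
  have hdiv : r ∣ Nat.card (Sylow r G) - 1 := (Nat.modEq_iff_dvd' Nat.card_pos).1 hnm.symm
  have hle12 := Nat.le_of_dvd (by norm_num) hn
  set n := Nat.card (Sylow r G) with hnn
  have hcases : (n = 6 ∧ r = 5) ∨ (n = 12 ∧ r = 11) := by
    have hpos : 0 < n := Nat.card_pos
    have hrle := Nat.le_of_dvd (by omega) hdiv
    clear_value n
    interval_cases n <;> first | omega | (left; refine ⟨rfl, ?_⟩; omega) | (right; refine ⟨rfl, ?_⟩; interval_cases r <;> omega)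
  rcases hcases with ⟨_, hr'⟩ | ⟨hn12, hr'⟩
  · rw [hG, hr']; norm_num
  · exfalso
    -- the normalizer of `R` is `R`
    have h1 : (Subgroup.normalizer ((R : Subgroup G) : Set G)).index = 12 := by
      rw [← hn12, hnn]; exact (Sylow.card_eq_index_normalizer R).symm
    have h2 : Subgroup.normalizer ((R : Subgroup G) : Set G) = (R : Subgroup G) := by
      symm
      apply Subgroup.eq_of_le_of_card_ge Subgroup.le_normalizer
      have h3 := Subgroup.card_mul_index (Subgroup.normalizer ((R : Subgroup G) : Set G))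
      have h4 := Subgroup.card_mul_index (R : Subgroup G)
      rw [h1] at h3
      rw [hRi] at h4
      omega
    have hcyc : IsCyclic (R : Subgroup G) := isCyclic_of_prime_card hRc
    have h5 : Subgroup.normalizer ((R : Subgroup G) : Set G) ≤ Subgroup.centralizer ((R : Subgroup G) : Set G) := by
      rw [h2]
      intro x hx
      rw [Subgroup.mem_centralizer_iff]
      intro y hy
      have := (IsCyclic.commutative (α := (R : Subgroup G))).is_comm.comm ⟨y, hy⟩ ⟨x, hx⟩
      exact congrArg Subtype.val this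
    have h6 := noTransfer R h5 (by rw [hG]; exact dvd_mul_left _ _)
    rw [hRc, hG] at h6
    omega

/-- If a finite simple group has order p^2 * q * r with p, q and r prime, then its order is 60. -/
theorem result {G : Type*} [Group G] [Finite G] [IsSimpleGroup G] (p q r : ℕ) (hp : p.Prime) (hq : q.Prime) (hr : r.Prime) (hG : Nat.card G = p ^ 2 * q * r) : Nat.card G = 60 := by
  have hnc : ¬ ∀ a b : G, a * b = b * a := by
    intro hc
    have h1 := comm_card hc hp (by rw [hG]; exact ⟨p * q * r, by ring⟩)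
    rw [hG] at h1
    have h2 : p * q * r = 1 := Nat.eq_of_mul_eq_mul_left hp.pos (by rw [mul_one, ← mul_assoc, ← mul_assoc, ← pow_two]; exact h1)
    have h3 := Nat.eq_one_of_mul_eq_one_left h2
    exact hr.one_lt.ne' h3
  have hsol : ¬ Group.IsSolvable G := by
    intro h
    exact hnc (IsSimpleGroup.comm_iff_isSolvable.2 h)
  by_cases hpq : p = q
  · exfalso; apply hsol
    exact Cfsg.Agent.S0144.result p r 3 1 hp hr (by rw [hG, ← hpq]; ring)
  by_cases hpr : p = r
  · exfalso; apply hsol
    exact Cfsg.Agent.S0144.result p q 3 1 hp hq (by rw [hG, ← hpr]; ring)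
  by_cases hqr : q = r
  · exfalso; apply hsol
    exact Cfsg.Agent.S0144.result p q 2 2 hp hq (by rw [hG, ← hqr]; ring)
  rcases lt_or_gt_of_ne hqr with h | h
  · exact aux hsol p q r hp hq hr hG hpq hpr h
  · exact aux hsol p r q hp hr hq (by rw [hG]; ring) hpr hpq h

end Cfsg.Agent.S0988
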