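import Cfsg.Statements.S0994
import Mathlib
import Cfsg.Agent.S0988
import Cfsg.Agent.S0989
-- import your own Cfsg.Agent.* helpers here

set_option autoImplicit false
open Cfsg

namespace Cfsg.Agent.S0994

/-- No finite simple group has order 1188 = 2^2 * 3^3 * 11. -/
theorem result {G : Type*} [Group G] [Finite G] [IsSimpleGroup G] : Nat.card G ≠ 1188 := by
  classical
  intro hG
  haveI : Fact (Nat.Prime 11) := ⟨by norm_num⟩
  obtain ⟨P⟩ := (inferInstance : Nonempty (Sylow 11 G))
  have hPc : Nat.card (P : Subgroup G) = 11 := by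
    have := Cfsg.Agent.S0988.card_syl P (k := 1) (m := 108) (by rw [hG]; norm_num) (by norm_num)
    rwa [pow_one] at this
  have hPi : (P : Subgroup G).index = 108 := by
    have := Subgroup.card_mul_index (P : Subgroup G)
    rw [hPc, hG] at this
    omega
  have hn : Nat.card (Sylow 11 G) ∣ 108 := by rw [← hPi]; exact P.card_dvd_index
  have hnm : Nat.card (Sylow 11 G) % 11 = 1 := card_sylow_modEq_one 11 G
  have hn1 : Nat.card (Sylow 11 G) ≠ 1 := by
    intro h
    haveI : Subsingleton (Sylow 11 G) := (Nat.card_eq_one_iff_unique.1 h).1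
    have hPn : (P : Subgroup G).Normal := P.normal_of_subsingleton
    rcases IsSimpleGroup.eq_bot_or_eq_top_of_normal _ hPn with h | h
    · rw [h, Subgroup.card_bot] at hPc; omega
    · rw [h, Subgroup.index_top] at hPi; omega
  have h24 : Nat.card (Sylow 11 G) = 12 := by
    have hle := Nat.le_of_dvd (by norm_num) hn
    generalize Nat.card (Sylow 11 G) = n at *
    interval_cases n <;> omega
  have hNi := P.card_eq_index_normalizer
  have hNc : Nat.card (Subgroup.normalizer ((P : Subgroup G) : Set G)) = 99 := by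
    have h4 := Subgroup.card_mul_index (Subgroup.normalizer ((P : Subgroup G) : Set G))
    have h5 : (Subgroup.normalizer ((P : Subgroup G) : Set G)).index = 12 := hNi.symm.trans h24
    rw [h5, hG] at h4
    omega
  haveI := Fintype.ofFinite (Sylow 11 G)
  have hFc : Fintype.card (Sylow 11 G) = 12 := by rw [← Nat.card_eq_fintype_card]; exact h24
  let f : G →* Equiv.Perm (Sylow 11 G) := MulAction.toPermHom G (Sylow 11 G)
  have hf : Function.Injective f := by
    rw [← MonoidHom.ker_eq_bot_iff]
    rcases IsSimpleGroup.eq_bot_or_eq_top_of_normal _ (MonoidHom.normal_ker f) with h | h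
    · exact h
    · exfalso
      apply hn1
      rw [Nat.card_eq_one_iff_unique]
      refine ⟨⟨fun Q R => ?_⟩, ⟨P⟩⟩
      obtain ⟨g, hg⟩ := MulAction.exists_smul_eq G Q R
      have h1 : g ∈ f.ker := by rw [h]; trivial
      have h2 : f g Q = Q := by rw [MonoidHom.mem_ker.1 h1]; rfl
      exact h2.symm.trans hg
  have hPm : Nat.card ((P : Subgroup G).map f) = 11 :=
    (Nat.card_congr ((P : Subgroup G).equivMapOfInjective f hf).toEquiv).symm.trans hPc
  have hPmp : IsPGroup 11 ((P : Subgroup G).map f) := P.2.map f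
  obtain ⟨P', hP'⟩ := hPmp.exists_le_sylow
  have hP'c : Nat.card (P' : Subgroup (Equiv.Perm (Sylow 11 G))) = 11 := by
    have h1 : Nat.card (Equiv.Perm (Sylow 11 G)) = 11 ^ 1 * (12 * Nat.factorial 10) := by
      rw [Nat.card_eq_fintype_card, Fintype.card_perm, hFc, Nat.factorial_succ 11, Nat.factorial_succ 10]
      ring
    have := Cfsg.Agent.S0988.card_syl P' (k := 1) (m := 12 * Nat.factorial 10) h1 (by
      intro h
      rcases (Nat.Prime.dvd_mul (by norm_num)).1 h with h | h
      · omega
      · have := (Nat.Prime.dvd_factorial (by norm_num)).1 h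
        omega)
    rwa [pow_one] at this
  have hPP' : (P : Subgroup G).map f = (P' : Subgroup (Equiv.Perm (Sylow 11 G))) :=
    Subgroup.eq_of_le_of_card_ge hP' (by rw [hPm, hP'c])
  have h989 := Cfsg.Agent.S0989.result 11 (Or.inr hFc) P'
  set M := (Subgroup.normalizer ((P : Subgroup G) : Set G)).map f with hM
  have hMc : Nat.card M = 99 := by
    rw [← hNc, hM]
    exact (Nat.card_congr ((Subgroup.normalizer ((P : Subgroup G) : Set G)).equivMapOfInjective f hf).toEquiv).symm
  have hMN : M ≤ Subgroup.normalizer ((P' : Subgroup (Equiv.Perm (Sylow 11 G))) : Set (Equiv.Perm (Sylow 11 G))) := by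
    rw [← hPP']
    exact Subgroup.le_normalizer_map f
  have hdv := Subgroup.card_dvd_of_le hMN
  rw [hMc, h989] at hdv
  omega

end Cfsg.Agent.S0994
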