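import Cfsg.Statements.S1249
import Cfsg.Agent.Lib.WCl

set_option autoImplicit false
open Cfsg
open Cfsg.Agent.Lib.WCl Cfsg.Agent.Lib.SylRel

namespace Cfsg.Agent.S1249

open scoped Pointwise

/-- Let P and Q be Sylow p-subgroups of the finite group G both containing the subgroup A. If A is strongly closed in P, then A is strongly closed in Q. -/
theorem result {G : Type*} [Group G] [Finite G] {p : ℕ} [Fact p.Prime] (P Q : Sylow p G) (A : Subgroup G) (hAQ : A ≤ Q) (hA : Cfsg.IsStronglyClosed A (P : Subgroup G)) : Cfsg.IsStronglyClosed A (Q : Subgroup G) := by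
  obtain ⟨y, hy⟩ := MulAction.exists_smul_eq G Q P
  have hy' : ∀ x : G, x ∈ (Q : Subgroup G) ↔ y * x * y⁻¹ ∈ (P : Subgroup G) := by
    intro x
    rw [← hy]
    show _ ↔ _ ∈ (MulAut.conj y • (Q : Subgroup G))
    rw [Subgroup.mem_pointwise_smul_iff_inv_smul_mem]
    have : (MulAut.conj y)⁻¹ • (y * x * y⁻¹) = x := by
      rw [← map_inv]
      show y⁻¹ * (y * x * y⁻¹) * y⁻¹⁻¹ = x
      group
    rw [this]
  have h1 : A.map (MulAut.conj y).toMonoidHom ≤ A := by
    rintro _ ⟨x, hx, rfl⟩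
    exact hA.2 x hx y ((hy' x).1 (hAQ hx))
  have h2 : A.map (MulAut.conj y).toMonoidHom = A :=
    Subgroup.eq_of_le_of_card_ge h1 (card_map_conj y A).ge
  refine ⟨hAQ, fun x hx g hg => ?_⟩
  have h3 := hA.2 x hx (y * g) (by
    have := (hy' _).1 hg
    have e : y * (g * x * g⁻¹) * y⁻¹ = y * g * x * (y * g)⁻¹ := by group
    rwa [e] at this)
  rw [← h2] at h3
  obtain ⟨z, hz, hzz⟩ := h3
  have hzz' : y * z * y⁻¹ = y * g * x * (y * g)⁻¹ := hzz
  have e : y * g * x * (y * g)⁻¹ = y * (g * x * g⁻¹) * y⁻¹ := by group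
  rw [e] at hzz'
  rw [← mul_left_cancel (mul_right_cancel hzz')]
  exact hz

end Cfsg.Agent.S1249
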