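import Cfsg.Statements.S1250
import Cfsg.Agent.Lib.WCl

set_option autoImplicit false
open Cfsg
open Cfsg.Agent.Lib.WCl Cfsg.Agent.Lib.SylRel

namespace Cfsg.Agent.S1250

/-- Let S be a Sylow p-subgroup of the finite group G, A ≤ S strongly closed in S, and N a normal subgroup. Then the image of A in G ⧸ N is strongly closed in the image of S (which is a Sylow p-subgroup of G ⧸ N). -/
theorem result {G : Type*} [Group G] [Finite G] {p : ℕ} [Fact p.Prime] (S : Sylow p G) (A : Subgroup G) (hA : Cfsg.IsStronglyClosed A (S : Subgroup G)) (N : Subgroup G) [N.Normal] : Cfsg.IsStronglyClosed (A.map (QuotientGroup.mk' N)) ((S : Subgroup G).map (QuotientGroup.mk' N)) := by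
  refine ⟨Subgroup.map_mono hA.1, ?_⟩
  rintro _ ⟨x, hx, rfl⟩ g' hg
  obtain ⟨g, rfl⟩ := QuotientGroup.mk'_surjective N g'
  obtain ⟨s, hs, hsx⟩ := hg
  have h1 : g * x * g⁻¹ ∈ (S : Subgroup G) ⊔ N := by
    have h2 : (QuotientGroup.mk' N) s = (QuotientGroup.mk' N) (g * x * g⁻¹) := by
      rw [hsx, map_mul, map_mul, map_inv]
    have h3 : s⁻¹ * (g * x * g⁻¹) ∈ N := QuotientGroup.eq.1 h2
    have e : g * x * g⁻¹ = s * (s⁻¹ * (g * x * g⁻¹)) := by group
    rw [e]
    exact Subgroup.mul_mem_sup hs h3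
  have h2 : IsPGroup p (Subgroup.zpowers (g * x * g⁻¹)) := by
    have h3 : IsPGroup p (Subgroup.zpowers x) := S.2.to_le (by rw [Subgroup.zpowers_le]; exact hA.1 hx)
    have := h3.map (MulAut.conj g).toMonoidHom
    rw [MonoidHom.map_zpowers] at this
    exact this
  obtain ⟨d, hd, hdx⟩ := (sylIn_of_sylow S).conj_into (Δ := N) le_top
    (fun x _ => by rw [Subgroup.normalizer_eq_top]; trivial) (X := Subgroup.zpowers (g * x * g⁻¹)) (by rwa [Subgroup.zpowers_le]) h2
  have h3 := hdx _ (Subgroup.mem_zpowers _)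
  have e : d * (g * x * g⁻¹) * d⁻¹ = d * g * x * (d * g)⁻¹ := by group
  rw [e] at h3
  have h4 := hA.2 x hx (d * g) h3
  refine ⟨_, h4, ?_⟩
  have hd1 : (QuotientGroup.mk' N) d = 1 := (QuotientGroup.eq_one_iff d).2 hd
  simp only [map_mul, mul_inv_rev, map_inv, hd1, one_mul, inv_one, mul_one, mul_assoc]

end Cfsg.Agent.S1250
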