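import Cfsg.Statements.S1921
import Cfsg.Agent.Lib.Components
import Cfsg.Agent.Lib.Basic

set_option autoImplicit false
open Cfsg
open Cfsg.Agent.Lib.Components

namespace Cfsg.Agent.S1921

/-- Let a be an involution of a finite group H and L a component of H with a L a⁻¹ ≠ L; put M = ⟨L, aLa⁻¹⟩ and let J be the subgroup generated by the elements x · a x a⁻¹ with x ∈ L (the diagonal). Then every element of M outside J·Z(M) generates M together with J. -/
theorem result {H : Type*} [Group H] [Finite H] (a : H) (ha : orderOf a = 2) (L : Subgroup H) (hL : Cfsg.IsComponent L)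
    (hLa : L.map (MulAut.conj a).toMonoidHom ≠ L) (x : H) (hxM : x ∈ L ⊔ L.map (MulAut.conj a).toMonoidHom)
    (hxJ : x ∉ Subgroup.closure {y : H | ∃ l ∈ L, y = l * (a * l * a⁻¹)} ⊔
      ((L ⊔ L.map (MulAut.conj a).toMonoidHom) ⊓ Subgroup.centralizer ((L ⊔ L.map (MulAut.conj a).toMonoidHom : Subgroup H) : Set H))) :
    Subgroup.closure {y : H | ∃ l ∈ L, y = l * (a * l * a⁻¹)} ⊔ Subgroup.zpowers x = L ⊔ L.map (MulAut.conj a).toMonoidHom := by
  obtain ⟨La, hLad⟩ : ∃ La : Subgroup H, La = L.map (MulAut.conj a).toMonoidHom := ⟨_, rfl⟩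
  obtain ⟨J, hJd⟩ : ∃ J : Subgroup H, J = Subgroup.closure {y : H | ∃ l ∈ L, y = l * (a * l * a⁻¹)} := ⟨_, rfl⟩
  rw [← hJd, ← hLad] at hxJ
  rw [← hLad] at hxM hLa
  rw [← hJd, ← hLad]
  have hLac : IsComponent La := by rw [hLad]; exact component_map_equiv (MulAut.conj a) hL
  have hcom : ⁅L, La⁆ = ⊥ := component_commute_of_ne hL hLac (Ne.symm hLa)
  have hc : ∀ u ∈ L, ∀ v ∈ La, u * v = v * u := fun u hu v hv =>
    (Subgroup.mem_centralizer_iff.1 ((Subgroup.commutator_eq_bot_iff_le_centralizer.1 hcom) hu) v hv).symm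
  have hLm : ∀ l ∈ L, a * l * a⁻¹ ∈ La := fun l hl => by rw [hLad]; exact ⟨l, hl, rfl⟩
  have hJm : ∀ l ∈ L, l * (a * l * a⁻¹) ∈ J := fun l hl => by rw [hJd]; exact Subgroup.subset_closure ⟨l, hl, rfl⟩
  have hJM : J ≤ L ⊔ La := by
    rw [hJd, Subgroup.closure_le]
    rintro _ ⟨l, hl, rfl⟩
    exact mul_mem (Subgroup.mem_sup_left hl) (Subgroup.mem_sup_right (hLm l hl))
  apply le_antisymm
  · exact sup_le hJM (by rw [Subgroup.zpowers_le]; exact hxM)
  obtain ⟨X, hX⟩ : ∃ X : Subgroup H, X = J ⊔ Subgroup.zpowers x := ⟨_, rfl⟩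
  rw [← hX]
  have hJX : J ≤ X := by rw [hX]; exact le_sup_left
  have hxX : x ∈ X := by rw [hX]; exact Subgroup.mem_sup_right (Subgroup.mem_zpowers x)
  have hdec : ∃ u ∈ L, ∃ v ∈ La, x = u * v := by
    have hn : La ≤ Subgroup.normalizer (L : Set H) := by
      intro v hv
      rw [Subgroup.mem_normalizer_iff]
      intro h
      constructor
      · intro hh
        rw [← hc h hh v hv, mul_inv_cancel_right]; exact hh
      · intro hh
        have h1 := hc _ hh v hv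
        have h2 : v * h * v⁻¹ = h := by
          have h3 : v * h = v * (v * h * v⁻¹) := by rw [← h1]; group
          exact (mul_left_cancel h3).symm
        rw [h2] at hh; exact hh
    rw [Cfsg.Agent.Lib.Basic.mem_sup_iff_left hn] at hxM
    obtain ⟨u, hu, v, hv, huv⟩ := hxM
    exact ⟨u, hu, v, hv, huv.symm⟩
  obtain ⟨u, hu, v', hv', rfl⟩ := hdec
  rw [hLad] at hv'
  obtain ⟨v, hv, rfl⟩ := hv'
  have hv1 : (MulAut.conj a).toMonoidHom v = a * v * a⁻¹ := rfl
  rw [hv1] at hxJ hxM hxX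
  have hw : u * v⁻¹ ∈ X := by
    have h1 : u * v⁻¹ = u * (a * v * a⁻¹) * (v * (a * v * a⁻¹))⁻¹ := by group
    rw [h1]; exact mul_mem hxX (inv_mem (hJX (hJm v hv)))
  have hwL : u * v⁻¹ ∈ L := mul_mem hu (inv_mem hv)
  have hwZ : ¬ ∀ l ∈ L, l * (u * v⁻¹) = (u * v⁻¹) * l := by
    intro hz
    apply hxJ
    have h1 : u * (a * v * a⁻¹) = (v * (a * v * a⁻¹)) * (u * v⁻¹) := by
      have h2 := hz v hv
      have h3 := hc _ hwL _ (hLm v hv)
      have h4 : (v * (a * v * a⁻¹)) * (u * v⁻¹) = v * ((a * v * a⁻¹) * (u * v⁻¹)) := by group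
      rw [h4, ← h3]
      have h6 : v * (u * v⁻¹ * (a * v * a⁻¹)) = (v * (u * v⁻¹)) * (a * v * a⁻¹) := by group
      rw [h6, h2]
      group
    rw [h1]
    refine mul_mem (Subgroup.mem_sup_left (hJm v hv)) (Subgroup.mem_sup_right ⟨Subgroup.mem_sup_left hwL, ?_⟩)
    have h5 : L ⊔ La ≤ Subgroup.centralizer ({u * v⁻¹} : Set H) := by
      refine sup_le (fun l hl => ?_) (fun l hl => ?_)
      · rw [Subgroup.mem_centralizer_singleton_iff]; exact hz l hl
      · rw [Subgroup.mem_centralizer_singleton_iff]; exact (hc _ hwL l hl).symm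
    exact Subgroup.mem_centralizer_iff.2 fun m hm => Subgroup.mem_centralizer_singleton_iff.1 (h5 hm)
  haveI hN : ((X ⊓ L).subgroupOf L).Normal := by
    refine ⟨fun y hy l => ?_⟩
    rw [Subgroup.mem_subgroupOf] at hy ⊢
    refine ⟨?_, L.mul_mem (L.mul_mem l.2 y.2) (L.inv_mem l.2)⟩
    have h1 : ((l * y * l⁻¹ : L) : H) = ((l : H) * (a * l * a⁻¹)) * y * ((l : H) * (a * l * a⁻¹))⁻¹ := by
      have h2 := hc _ y.2 _ (hLm l l.2)
      have h3 : ((l : H) * (a * l * a⁻¹)) * y * ((l : H) * (a * l * a⁻¹))⁻¹ = (l : H) * ((a * l * a⁻¹) * y) * ((l : H) * (a * l * a⁻¹))⁻¹ := by group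
      rw [h3, ← h2]
      show (l : H) * y * (l : H)⁻¹ = _
      group
    rw [h1]
    exact X.mul_mem (X.mul_mem (hJX (hJm l l.2)) hy.1) (X.inv_mem (hJX (hJm l l.2)))
  have hLX : L ≤ X := by
    rcases quasisimple_normal hL.2 _ hN with h1 | h1
    · intro l hl
      have h2 : (⟨l, hl⟩ : L) ∈ (X ⊓ L).subgroupOf L := by rw [h1]; trivial
      rw [Subgroup.mem_subgroupOf] at h2
      exact h2.1
    · exfalso
      apply hwZ
      intro l hl
      have h2 : (⟨u * v⁻¹, hwL⟩ : L) ∈ (X ⊓ L).subgroupOf L := by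
        rw [Subgroup.mem_subgroupOf]; exact ⟨hw, hwL⟩
      have h3 := Subgroup.mem_center_iff.1 (h1 h2) ⟨l, hl⟩
      exact congrArg Subtype.val h3
  refine sup_le hLX ?_
  rw [hLad]
  rintro _ ⟨l, hl, rfl⟩
  have h1 : (MulAut.conj a).toMonoidHom l = l⁻¹ * (l * (a * l * a⁻¹)) := by
    show a * l * a⁻¹ = _
    group
  rw [h1]
  exact mul_mem (inv_mem (hLX hl)) (hJX (hJm l hl))

end Cfsg.Agent.S1921
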