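import Cfsg.Statements.S2060
import Cfsg.Agent.Lib.Golay.OutM3

set_option autoImplicit false
open Cfsg

namespace Cfsg.Agent.S2060

/-- The outer automorphism group of the Mathieu group M₁₁ (the stabiliser of a dodecad and one of its points in the automorphism group of the length-24 binary code) is trivial: every automorphism is inner. -/
theorem result : Nat.card (Cfsg.Out ↥Cfsg.Spor.M11) = 1 := by
  open Cfsg.Agent.Lib.Golay in
  have hsq : Cfsg.Spor.squareDodecad = st dodU := by decide +kernel
  have h : Cfsg.Spor.M11 = m11 := by
    unfold Cfsg.Spor.M11 Cfsg.Spor.M12 m11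
    rw [hsq]; rfl
  rw [h]
  exact out_m11

end Cfsg.Agent.S2060
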