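import Cfsg.Statements.S2247
import Mathlib
import Cfsg.Agent.H8.SuzBorel

set_option autoImplicit false
open Cfsg

namespace Cfsg.Agent.S2247

/-- In the Suzuki group with q = 2^(2m+1), m ≥ 1 (realised as the stabiliser in SL₄ of the Suzuki–Tits ovoid), the normalizer of a Sylow 2-subgroup P is a maximal subgroup and is the only maximal subgroup containing P. -/
theorem result {F : Type*} [Field F] [Fintype F] {m : ℕ} (hm : 1 ≤ m) (hF : Fintype.card F = 2 ^ (2 * m + 1)) (P : Sylow 2 ↥(Cfsg.Sz F m)) :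
    IsCoatom (Subgroup.normalizer ((P : Subgroup ↥(Cfsg.Sz F m)) : Set ↥(Cfsg.Sz F m))) ∧
    ∀ M : Subgroup ↥(Cfsg.Sz F m), IsCoatom M → (P : Subgroup ↥(Cfsg.Sz F m)) ≤ M → M = Subgroup.normalizer ((P : Subgroup ↥(Cfsg.Sz F m)) : Set ↥(Cfsg.Sz F m)) := by
  obtain ⟨D⟩ := Cfsg.Agent.H8.Suz.exists_dat hm hF
  have hchar := D.char
  obtain ⟨k, hk⟩ := D.sylow_conj P
  have hNP : ∀ g, g ∈ Subgroup.normalizer ((P : Subgroup ↥(Cfsg.Sz F m)) : Set ↥(Cfsg.Sz F m)) ↔ k⁻¹ * g * k ∈ D.B := by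
    intro g
    rw [← D.normalizer_U, Subgroup.mem_normalizer_iff, Subgroup.mem_normalizer_iff]
    constructor
    · intro h x
      have := h (k * x * k⁻¹)
      have e1 : (k * x * k⁻¹ ∈ P) ↔ x ∈ D.U := by
        rw [hk]
        have : k⁻¹ * (k * x * k⁻¹) * k = x := by group
        rw [this]
      have e2 : (g * (k * x * k⁻¹) * g⁻¹ ∈ P) ↔ k⁻¹ * g * k * x * (k⁻¹ * g * k)⁻¹ ∈ D.U := by
        rw [hk]
        have : k⁻¹ * (g * (k * x * k⁻¹) * g⁻¹) * k = k⁻¹ * g * k * x * (k⁻¹ * g * k)⁻¹ := by group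
        rw [this]
      rw [← e1, ← e2]; exact this
    · intro h x
      have := h (k⁻¹ * x * k)
      have e1 : (x ∈ (P : Subgroup (Sz F m))) ↔ k⁻¹ * x * k ∈ D.U := hk x
      have e2 : (g * x * g⁻¹ ∈ (P : Subgroup (Sz F m))) ↔ k⁻¹ * g * k * (k⁻¹ * x * k) * (k⁻¹ * g * k)⁻¹ ∈ D.U := by
        have e3 := hk (g * x * g⁻¹)
        have : k⁻¹ * (g * x * g⁻¹) * k = k⁻¹ * g * k * (k⁻¹ * x * k) * (k⁻¹ * g * k)⁻¹ := by group
        rw [this] at e3
        exact e3
      rw [e1, e2]; exact this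
  have h2 := D.two_trans
  have hprim : MulAction.IsPreprimitive (Cfsg.Sz F m) (Cfsg.Agent.H8.Suz.Dat.Om F m) :=
    MulAction.isPreprimitive_of_is_two_pretransitive h2
  have hntΩ : Nontrivial (Cfsg.Agent.H8.Suz.Dat.Om F m) := ⟨D.inf, D.pt 0 0, (D.pt_ne_inf 0 0).symm⟩
  have hcoat : IsCoatom D.B := MulAction.IsPreprimitive.isCoatom_stabilizer_of_isPreprimitive (G := Cfsg.Sz F m) D.inf
  have hcoatP : IsCoatom (Subgroup.normalizer ((P : Subgroup ↥(Cfsg.Sz F m)) : Set ↥(Cfsg.Sz F m))) := by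
    constructor
    · intro h
      apply hcoat.1
      rw [eq_top_iff]
      intro x _
      have : k * x * k⁻¹ ∈ Subgroup.normalizer ((P : Subgroup ↥(Cfsg.Sz F m)) : Set ↥(Cfsg.Sz F m)) := by
        rw [h]; trivial
      rw [hNP] at this
      have e : k⁻¹ * (k * x * k⁻¹) * k = x := by group
      rwa [e] at this
    · intro M hM
      -- conjugate
      have h3 : D.B < M.map (MulAut.conj k⁻¹).toMonoidHom := by
        constructor
        · intro x hx
          refine ⟨k * x * k⁻¹, hM.le ((hNP _).2 ?_), ?_⟩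
          · have e : k⁻¹ * (k * x * k⁻¹) * k = x := by group
            rwa [e]
          · show k⁻¹ * (k * x * k⁻¹) * k⁻¹⁻¹ = x
            group
        · intro hle
          apply not_le_of_gt hM
          intro x hx
          rw [hNP]
          apply hle
          refine ⟨x, hx, ?_⟩
          show k⁻¹ * x * k⁻¹⁻¹ = k⁻¹ * x * k
          rw [inv_inv]
      have h4 := hcoat.2 _ h3
      rw [eq_top_iff]
      intro x _
      have : k⁻¹ * x * k ∈ M.map (MulAut.conj k⁻¹).toMonoidHom := by rw [h4]; trivial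
      obtain ⟨y, hy, hyx⟩ := this
      have hyx' : k⁻¹ * y * k⁻¹⁻¹ = k⁻¹ * x * k := hyx
      rw [inv_inv] at hyx'
      have : y = x := mul_left_cancel (mul_right_cancel hyx')
      rwa [← this]
  refine ⟨hcoatP, fun M hM hPM => ?_⟩
  -- reduce to M ≤ normalizer
  by_cases hle : M ≤ Subgroup.normalizer ((P : Subgroup ↥(Cfsg.Sz F m)) : Set ↥(Cfsg.Sz F m))
  · rcases hle.lt_or_eq with h | h
    · exact absurd (hM.2 _ h) hcoatP.1
    · exact h
  · exfalso
    apply hM.1
    -- M is transitive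
    obtain ⟨x, hxM, hxN⟩ := SetLike.not_le_iff_exists.1 hle
    have hmem : ∀ a b, k * D.tt a b * k⁻¹ ∈ M := by
      intro a b
      apply hPM
      have e3 := hk (k * D.tt a b * k⁻¹)
      have e : k⁻¹ * (k * D.tt a b * k⁻¹) * k = D.tt a b := by group
      rw [e] at e3
      exact e3.2 ⟨a, b, rfl⟩
    have htr : ∀ p : Cfsg.Agent.H8.Suz.Dat.Om F m, ∃ y ∈ M, y • (k • D.inf) = p := by
      have h5 : k⁻¹ • (x • (k • D.inf)) ≠ D.inf := by
        intro h
        apply hxN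
        rw [hNP]
        show (k⁻¹ * x * k) • D.inf = D.inf
        rw [mul_smul, mul_smul]; exact h
      obtain ⟨a, b, h6⟩ := D.trans_pt _ h5
      intro p
      by_cases hp : k⁻¹ • p = D.inf
      · refine ⟨1, M.one_mem, ?_⟩
        rw [one_smul, ← hp, smul_inv_smul]
      · obtain ⟨c, d, h7⟩ := D.trans_pt _ hp
        refine ⟨(k * D.tt c d * k⁻¹) * (k * D.tt a b * k⁻¹)⁻¹ * x, M.mul_mem (M.mul_mem (hmem _ _) (M.inv_mem (hmem _ _))) hxM, ?_⟩
        have h8 : x • (k • D.inf) = k • D.tt a b • D.pt 0 0 := by rw [← h6, smul_inv_smul]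
        have h9 : p = k • D.tt c d • D.pt 0 0 := by rw [← h7, smul_inv_smul]
        have e : (k * D.tt c d * k⁻¹) * (k * D.tt a b * k⁻¹)⁻¹ * x = k * D.tt c d * (D.tt a b)⁻¹ * k⁻¹ * x := by group
        rw [e, mul_smul, h8, h9]
        simp only [mul_smul, inv_smul_smul]
    -- all conjugates of U are in M
    have hall : ∀ g : Sz F m, g * D.tt 0 1 * g⁻¹ ∈ M := by
      intro g
      obtain ⟨y, hy, hyk⟩ := htr (g • D.inf)
      have hb : (y * k)⁻¹ * g ∈ D.B := by
        show ((y * k)⁻¹ * g) • D.inf = D.inf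
        rw [mul_smul, ← hyk, mul_inv_rev, mul_smul, inv_smul_smul, inv_smul_smul]
      obtain ⟨a, b, hab⟩ := D.conj_tt_mem hb 0 1
      have e : g * D.tt 0 1 * g⁻¹ = y * (k * (((y * k)⁻¹ * g) * D.tt 0 1 * ((y * k)⁻¹ * g)⁻¹) * k⁻¹) * y⁻¹ := by group
      rw [e, hab]
      exact M.mul_mem (M.mul_mem hy (hmem a b)) (M.inv_mem hy)
    have hs := D.simple
    have hnc : Subgroup.normalClosure {D.tt 0 1} = ⊤ := by
      rcases hs.eq_bot_or_eq_top_of_normal (Subgroup.normalClosure {D.tt 0 1}) inferInstance with h | h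
      · exfalso
        have : D.tt 0 1 ∈ (⊥ : Subgroup (Sz F m)) := by
          rw [← h]; exact Subgroup.subset_normalClosure rfl
        rw [Subgroup.mem_bot, ← D.tt_zero] at this
        simpa using (D.tt_inj this).2
      · exact h
    rw [eq_top_iff, ← hnc, Subgroup.normalClosure, Subgroup.closure_le]
    intro y hy
    rw [Group.mem_conjugatesOfSet_iff] at hy
    obtain ⟨z, hz, hzy⟩ := hy
    rw [Set.mem_singleton_iff] at hz
    subst hz
    obtain ⟨c, hc⟩ := isConj_iff.1 hzy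
    rw [← hc]; exact hall c

end Cfsg.Agent.S2247
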