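import Cfsg.Statements.S2880
import Cfsg.Agent.Lib.ExSpD

set_option autoImplicit false
open Cfsg

namespace Cfsg.Agent.S2880

open Subgroup Cfsg.Agent.Lib.ExSp Cfsg.Agent.Lib.ExSpD

/-- Let E be an extraspecial 2-group of order 2^(2m+1) of plus type, that is, containing an elementary abelian subgroup of order 2^(m+1) (equivalently, a central product of m dihedral groups of order 8). Then E has exactly 2^(2m) − 2^m elements of order 4. -/
theorem result {E : Type*} [Group E] [Finite E] (m : ℕ) (hm : 1 ≤ m) (hE : Cfsg.IsExtraspecial 2 E) (hcard : Nat.card E = 2 ^ (2 * m + 1)) (hplus : ∃ A : Subgroup E, Cfsg.IsElementaryAbelian 2 A ∧ Nat.card A = 2 ^ (m + 1)) : Nat.card {x : E // orderOf x = 4} = 2 ^ (2 * m) - 2 ^ m := by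
  haveI : Fact (Nat.Prime 2) := ⟨Nat.prime_two⟩
  obtain ⟨z, D⟩ := dat_of hE
  obtain ⟨A, hA, hAc⟩ := hplus
  rw [← card_order_four D hcard hA hAc]
  exact Nat.card_congr (Equiv.subtypeEquivRight fun x => order_four_iff D x)

end Cfsg.Agent.S2880
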