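import Cfsg.Statements.S2881
import Cfsg.Agent.Lib.ExSpD

set_option autoImplicit false
open Cfsg

namespace Cfsg.Agent.S2881

open Subgroup Cfsg.Agent.Lib.ExSp Cfsg.Agent.Lib.ExSpD Cfsg.Agent.Lib.ExSpC

/-- Let E be an extraspecial 2-group of order 2^(2m+1) of plus type (containing an elementary abelian subgroup of order 2^(m+1)), and let ω be an automorphism of E of order 5 whose fixed points are exactly the centre of E. Then m is divisible by 4. -/
theorem result {E : Type*} [Group E] [Finite E] (m : ℕ) (hm : 1 ≤ m) (hE : Cfsg.IsExtraspecial 2 E) (hcard : Nat.card E = 2 ^ (2 * m + 1)) (hplus : ∃ A : Subgroup E, Cfsg.IsElementaryAbelian 2 A ∧ Nat.card A = 2 ^ (m + 1)) (ω : E ≃* E) (hω : orderOf ω = 5) (hfix : ∀ x : E, ω x = x ↔ x ∈ Subgroup.center E) : 4 ∣ m := by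
  classical
  haveI : Fact (Nat.Prime 2) := ⟨Nat.prime_two⟩
  haveI : Fact (Nat.Prime 5) := ⟨by norm_num⟩
  obtain ⟨z, D⟩ := dat_of hE
  obtain ⟨A, hA, hAc⟩ := hplus
  have h1 := card_order_four D hcard hA hAc
  have hωz : ω z = z := (hfix z).mpr (by rw [center_eq D]; exact mem_zpowers z)
  -- `⟨ω⟩` acts on the set of elements of order four without fixed points
  let X := {x : E // x ^ 2 = z}
  let σ : Function.End X := fun x => ⟨ω x.1, by rw [← map_pow, x.2, hωz]⟩
  have hσ : ∀ n : ℕ, ∀ x : X, ((σ ^ n) x).1 = (ω ^ n : MulAut E) x.1 := by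
    intro n
    induction n with
    | zero => intro x; rfl
    | succ n ih =>
      intro x
      rw [pow_succ, pow_succ]
      exact ih (σ x)
  have hσ5 : σ ^ 5 ^ 1 = 1 := by
    funext x
    apply Subtype.ext
    rw [hσ, pow_one, ← hω]
    have : (ω : MulAut E) ^ orderOf ω = 1 := pow_orderOf_eq_one _
    rw [this]; rfl
  have hfp : ∀ x : X, σ x ≠ x := by
    intro x hx
    have h2 : ω x.1 = x.1 := congrArg Subtype.val hx
    rw [hfix, center_eq D] at h2
    obtain ⟨n, hn⟩ := mem_zpowers_iff.mp h2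
    have h3 := x.2
    have h4 : z ^ 2 = 1 := by rw [← D.ord, pow_orderOf_eq_one]
    rw [← hn, ← zpow_natCast, ← zpow_mul, mul_comm, zpow_mul, zpow_natCast, h4, one_zpow] at h3
    exact z1 D h3.symm
  haveI := Fintype.ofFinite E
  haveI : Fintype X := Fintype.ofFinite X
  haveI : Fintype (Function.fixedPoints σ) := Fintype.ofFinite _
  have h5 : Fintype.card X ≡ Fintype.card (Function.fixedPoints σ) [MOD 5] := by
    convert Equiv.Perm.card_fixedPoints_modEq (p := 5) (n := 1) (f := σ) hσ5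
  have h6 : Fintype.card (Function.fixedPoints σ) = 0 := by
    rw [Fintype.card_eq_zero_iff]
    exact ⟨fun x => hfp x.1 x.2⟩
  rw [h6, ← Nat.card_eq_fintype_card, h1] at h5
  have h7 : 5 ∣ 2 ^ (2 * m) - 2 ^ m := (Nat.modEq_zero_iff_dvd).mp h5
  have h8 : 2 ^ (2 * m) - 2 ^ m = 2 ^ m * (2 ^ m - 1) := by
    rw [Nat.mul_sub, mul_one, ← pow_add]; congr 2; ring
  rw [h8] at h7
  have h9 : 5 ∣ 2 ^ m - 1 := by
    refine (Nat.Coprime.dvd_of_dvd_mul_left ?_ h7)
    exact Nat.Coprime.pow_right m (by norm_num)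
  -- `2 ^ m ≡ 1 mod 5`
  have h10 : 2 ^ m % 5 = 1 := by
    have := Nat.one_le_two_pow (n := m)
    omega
  have h11 : 2 ^ m % 5 = 2 ^ (m % 4) % 5 := by
    conv_lhs => rw [← Nat.div_add_mod m 4, pow_add, pow_mul, Nat.mul_mod, Nat.pow_mod]
    norm_num
  rw [h11] at h10
  have h12 : m % 4 < 4 := Nat.mod_lt _ (by norm_num)
  interval_cases h : m % 4
  · exact Nat.dvd_of_mod_eq_zero h
  all_goals norm_num at h10

end Cfsg.Agent.S2881
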