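import Cfsg.Statements.S2910
import Cfsg.Agent.S4126
-- import your own Cfsg.Agent.* helpers here

set_option autoImplicit false
open Cfsg

namespace Cfsg.Agent.S2910

/-- Let p be an odd prime dividing the order of the finite group G and P a Sylow p-subgroup of G. If Ω₁(P) (generated by the elements of order dividing p) is contained in the centre of G, then G has a normal p-complement. In particular, if G is quasisimple then Ω₁(P) is not central in G. -/
theorem result {G : Type*} [Group G] [Finite G] {p : ℕ} [Fact p.Prime] (hp : p ≠ 2) (hdiv : p ∣ Nat.card G) (P : Sylow p G) (hZ : Cfsg.omegaOne p (P : Subgroup G) ≤ Subgroup.center G) : Cfsg.HasNormalPComplement p G ∧ ¬ Cfsg.IsQuasisimple G := by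
  have hpp : p.Prime := Fact.out
  have hcomp : Cfsg.HasNormalPComplement p G := by
    refine Cfsg.Agent.S4126.result p ?_
    intro x hx
    have hxo : orderOf x = p := by
      rcases hx with hx | ⟨h2, _⟩
      · exact hx
      · exact absurd h2 hp
    refine ⟨0, ?_⟩
    rw [pow_zero, Subgroup.index_eq_one, Subgroup.centralizer_eq_top_iff_subset]
    rw [Set.singleton_subset_iff]
    -- conjugate of x in P
    have hxp : IsPGroup p (Subgroup.zpowers x) := IsPGroup.of_card (n := 1) (by rw [Nat.card_zpowers, hxo, pow_one])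
    obtain ⟨Q, hQ⟩ := hxp.exists_le_sylow
    obtain ⟨g, hg⟩ := MulAction.exists_smul_eq G Q P
    have hxQ : x ∈ (Q : Subgroup G) := hQ (Subgroup.mem_zpowers x)
    have h1 : g * x * g⁻¹ ∈ (P : Subgroup G) := by
      rw [← hg]
      exact Subgroup.smul_mem_pointwise_smul x (MulAut.conj g) (Q : Subgroup G) hxQ
    have h2 : g * x * g⁻¹ ∈ Subgroup.center G := by
      apply hZ
      refine Subgroup.subset_closure ⟨h1, ?_⟩
      have : orderOf (g * x * g⁻¹) = orderOf x := (MulAut.conj g).orderOf_eq x
      rw [← hxo, ← this]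
      exact pow_orderOf_eq_one _
    have h3 : g⁻¹ * (g * x * g⁻¹) * g⁻¹⁻¹ ∈ Subgroup.center G := (inferInstance : (Subgroup.center G).Normal).conj_mem _ h2 g⁻¹
    have e : g⁻¹ * (g * x * g⁻¹) * g⁻¹⁻¹ = x := by group
    rw [e] at h3
    exact h3
  refine ⟨hcomp, ?_⟩
  rintro ⟨hperf, hsimp⟩
  obtain ⟨N, hN, hNP⟩ := (Cfsg.Agent.Lib.PNilp.exists_complement_iff P).2
      (Cfsg.Agent.Lib.PNilp.hasNormalPComplement_iff.1 hcomp)
  -- `G / N` is a `p`-group, hence solvable and perfect, hence trivial
  have hidx : N.index = Nat.card (P : Subgroup G) := hNP.symm.index_eq_card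
  obtain ⟨m, hm⟩ := IsPGroup.iff_card.1 P.2
  have hq : IsPGroup p (G ⧸ N) := by
    refine IsPGroup.of_card (n := m) ?_
    rw [← Subgroup.index_eq_card, hidx, hm]
  haveI := hperf
  have hNtop : N = ⊤ := by
    by_contra hne
    haveI : Nontrivial (G ⧸ N) := by
      rw [QuotientGroup.nontrivial_iff]; exact hne
    exact Group.IsPerfect.not_isNilpotent (G ⧸ N) hq.isNilpotent
  rw [hNtop, Subgroup.index_top] at hidx
  have h1 : ¬ p ∣ Nat.card (P : Subgroup G) := by
    rw [← hidx]; exact hpp.one_lt.ne' ∘ Nat.dvd_one.1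
  exact h1 (P.dvd_card_of_dvd_card hdiv)

end Cfsg.Agent.S2910
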