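import Cfsg.Statements.S2968
import Mathlib
import Cfsg.Agent.Lib.ZStarG

set_option autoImplicit false
open Cfsg

namespace Cfsg.Agent.S2968

/-- Let G be a finite group, p a prime, P a Sylow p-subgroup of G and x ∈ P an element of p-power order which is isolated in G (the only conjugate of x commuting with x is x itself). Then x lies in the centre of P, and the subgroup generated by x is both strongly closed and weakly closed in P with respect to G. -/
theorem result {G : Type*} [Group G] [Finite G] {p : ℕ} [Fact p.Prime] (P : Sylow p G) (x : G) (hxP : x ∈ (P : Subgroup G)) (hx : ∃ k : ℕ, orderOf x = p ^ k) (hiso : Cfsg.IsIsolated x) : x ∈ (P : Subgroup G) ⊓ Subgroup.centralizer ((P : Subgroup G) : Set G) ∧ Cfsg.IsStronglyClosed (Subgroup.zpowers x) (P : Subgroup G) ∧ Cfsg.IsWeaklyClosed (Subgroup.zpowers x) (P : Subgroup G) := by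
  open Cfsg.Agent.Lib.Isol in
  have hz : Subgroup.zpowers x ≤ (P : Subgroup G) := Subgroup.zpowers_le.mpr hxP
  refine ⟨⟨hxP, ?_⟩, ⟨hz, ?_⟩, ⟨hz, ?_⟩⟩
  · exact Subgroup.mem_centralizer_iff.mpr (fun y hy => (iso_central hiso P.isPGroup' hxP hy).symm)
  · intro y hy g hg
    rw [iso_pow hx hiso P.isPGroup' hxP hy hg]; exact hy
  · intro g hg
    have h1 : ∀ y ∈ Subgroup.zpowers x, g * y * g⁻¹ = y := fun y hy =>
      iso_pow hx hiso P.isPGroup' hxP hy (hg ⟨y, hy, rfl⟩)
    ext w
    constructor
    · rintro ⟨y, hy, rfl⟩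
      change g * y * g⁻¹ ∈ _
      rw [h1 y hy]; exact hy
    · intro hw
      exact ⟨w, hw, h1 w hw⟩

end Cfsg.Agent.S2968
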