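import Cfsg.Statements.S3554
import Mathlib
import Cfsg.Agent.H8.Basic

set_option autoImplicit false
open Cfsg

namespace Cfsg.Agent.S3554

/-- Let G act faithfully and transitively on a finite set and suppose G has a non-trivial cyclic normal subgroup. Then some element of G of prime order fixes no point. -/
theorem result {G Ω : Type*} [Group G] [Finite G] [MulAction G Ω] [FaithfulSMul G Ω] [Finite Ω]
    (htrans : MulAction.IsPretransitive G Ω) (C : Subgroup G) (hC : C.Normal) (hC1 : C ≠ ⊥) (hcyc : IsCyclic ↥C) :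
    ∃ g : G, (orderOf g).Prime ∧ ∀ ω : Ω, g • ω ≠ ω := by
  classical
  have hnt : Nontrivial C := (Subgroup.nontrivial_iff_ne_bot C).2 hC1
  obtain ⟨p, hp, hpd⟩ := Nat.exists_prime_and_dvd (n := Nat.card C) (by
    have := Finite.one_lt_card (α := C); omega)
  have : Fact p.Prime := ⟨hp⟩
  obtain ⟨c, hc⟩ := exists_prime_orderOf_dvd_card' (G := C) p hpd
  refine ⟨c, by rw [Subgroup.orderOf_coe, hc]; exact hp, ?_⟩
  intro ω hω
  -- every conjugate of c is a power of c
  have hpow : ∀ g : G, g⁻¹ * (c : G) * g ∈ Subgroup.zpowers (c : G) := by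
    intro g
    have hmem : g⁻¹ * (c : G) * g ∈ C := by
      simpa using hC.conj_mem c c.2 g⁻¹
    have hord : orderOf (⟨g⁻¹ * (c : G) * g, hmem⟩ : C) = p := by
      rw [← Subgroup.orderOf_coe]
      simp only
      have : g⁻¹ * (c : G) * g = MulAut.conj g⁻¹ (c : G) := by simp
      rw [this, MulEquiv.orderOf_eq, Subgroup.orderOf_coe, hc]
    -- in a cyclic group, subgroups of the same order are equal
    have hz : Subgroup.zpowers (⟨g⁻¹ * (c : G) * g, hmem⟩ : C) = Subgroup.zpowers c := by
      apply Cfsg.Agent.H8.Basic.cyclic_subgroup_eq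
      rw [Nat.card_zpowers, Nat.card_zpowers, hord, hc]
    have h1 : (⟨g⁻¹ * (c : G) * g, hmem⟩ : C) ∈ Subgroup.zpowers c := by
      rw [← hz]; exact Subgroup.mem_zpowers _
    obtain ⟨k, hk⟩ := h1
    refine ⟨k, ?_⟩
    have := congrArg (Subtype.val) hk
    simpa using this
  have hall : ∀ ω' : Ω, (c : G) • ω' = ω' := by
    intro ω'
    obtain ⟨g, rfl⟩ := MulAction.exists_smul_eq G ω ω'
    obtain ⟨k, hk⟩ := hpow g
    have hz : (c : G) ^ k • ω = ω := by
      have : (c : G) ∈ MulAction.stabilizer G ω := hω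
      exact Subgroup.zpow_mem _ this k
    have : (c : G) = g * (c : G) ^ k * g⁻¹ := by
      simp only at hk; rw [hk]; group
    rw [this, mul_smul, mul_smul, inv_smul_smul, hz]
  have hc1 : (c : G) = 1 := by
    apply FaithfulSMul.eq_of_smul_eq_smul (α := Ω)
    intro a; rw [hall a, one_smul]
  have : orderOf c = 1 := by
    rw [← Subgroup.orderOf_coe, hc1, orderOf_one]
  rw [hc] at this; exact hp.one_lt.ne' this

end Cfsg.Agent.S3554
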