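import Cfsg.Statements.S3811
import Cfsg.Agent.H2.SoftC

set_option autoImplicit false
open Cfsg

namespace Cfsg.Agent.S3811

open Subgroup Cfsg.Agent.H2.Soft Cfsg.Agent.H2.SoftB Cfsg.Agent.H2.SoftC

/-- Let P be a finite p-group and E an abelian subgroup of P that contains its centralizer, has index p in its normalizer, and has index at least p² in P. Then the subgroups of P containing E are totally ordered by inclusion, each proper one has index p in its normalizer (so they form the normalizer tower of E, with all steps of index p), and the i-th member of the tower above E has nilpotency class i + 1 whenever it is a proper subgroup of P. -/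
theorem result {P : Type*} [Group P] [Finite P] (p : ℕ) [Fact p.Prime] (hP : IsPGroup p P)
    (E : Subgroup P) (hEab : IsMulCommutative ↥E) (hC : Subgroup.centralizer (E : Set P) ≤ E)
    (hN : (E.subgroupOf (Subgroup.normalizer (E : Set P))).index = p) (hidx : p ^ 2 ≤ E.index) :
    (∀ K L : Subgroup P, E ≤ K → E ≤ L → K ≤ L ∨ L ≤ K) ∧
      (∀ K : Subgroup P, E ≤ K → K ≠ ⊤ → (K.subgroupOf (Subgroup.normalizer (K : Set P))).index = p) ∧
      ∀ (i : ℕ) (K : Subgroup P) [Group.IsNilpotent ↥K], E ≤ K → K ≠ ⊤ → K.index * p ^ i = E.index →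
        Group.nilpotencyClass ↥K = i + 1 := by
  have hp : p.Prime := Fact.out
  have hEN : E ≤ normalizer (E : Set P) := le_normalizer
  have hcard : ∀ K : Subgroup P, K.index * Nat.card K = Nat.card P := fun K => by
    rw [mul_comm]; exact Subgroup.card_mul_index K
  have h : IsSoft p E := by
    refine ⟨fun x hx y hy => ?_, hC, ?_, ?_⟩
    · have := hEab.is_comm.comm (⟨x, hx⟩ : E) ⟨y, hy⟩
      exact congrArg Subtype.val this
    · have h1 := card_mul_rel hEN
      rw [← h1]
      congr 1
    · rw [← hcard E]
      exact Nat.mul_le_mul_right _ hidx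
  obtain ⟨h1, h2⟩ := main12 (p := p) _ P rfl hP E h
  refine ⟨h1, fun K hEK hKt => rel_of_card le_normalizer (h2 K hEK hKt), fun i K _ hEK hKt hi => ?_⟩
  refine main3 (p := p) _ P rfl hP E h i K hEK hKt ?_
  have h3 := hcard K
  have h4 := hcard E
  rw [← hi] at h4
  have hpos : 0 < K.index := Nat.pos_of_ne_zero Subgroup.FiniteIndex.index_ne_zero
  apply Nat.eq_of_mul_eq_mul_left hpos
  rw [h3, ← h4, mul_assoc]

end Cfsg.Agent.S3811
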