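import Cfsg.Statements.S3824
import Mathlib
import Cfsg.Agent.Lib.CharBurnside
import Cfsg.Agent.Lib.Basic

set_option autoImplicit false
open Cfsg

namespace Cfsg.Agent.S3824

open Subgroup
universe u
theorem aux (n : ℕ) : ∀ (G : Type u) [Group G] [Finite G], Nat.card G ≤ n →
    ∀ A : Subgroup G, IsMulCommutative A → (∃ k : ℕ, A.index = 2 ^ k) → Group.IsSolvable G := by
  induction n with
  | zero =>
    intro G _ _ h
    exact absurd h (by have := Nat.card_pos (α := G); omega)
  | succ n ih =>
    intro G _ _ hcard A hA hidx
    obtain ⟨k, hk⟩ := hidx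
    by_cases hA1 : A = ⊥
    · have : IsPGroup 2 G := IsPGroup.of_card (n := k) (by rw [← hk, hA1, Subgroup.index_bot])
      have : Fact (Nat.Prime 2) := ⟨Nat.prime_two⟩
      have : Group.IsNilpotent G := IsPGroup.isNilpotent ‹_›
      infer_instance
    obtain ⟨⟨a, ha⟩, ha1⟩ := (A.ne_bot_iff_exists_ne_one).1 hA1
    have ha1' : a ≠ 1 := fun h => ha1 (Subtype.ext h)
    have hle : A ≤ centralizer ({a} : Set G) := by
      intro b hb
      rw [mem_centralizer_singleton_iff]
      exact congrArg Subtype.val (hA.is_comm.comm (⟨b, hb⟩ : A) ⟨a, ha⟩)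
    have hdvd : (centralizer ({a} : Set G)).index ∣ 2 ^ k := by rw [← hk]; exact index_dvd_of_le hle
    obtain ⟨j, _, hj⟩ := (Nat.dvd_prime_pow Nat.prime_two).1 hdvd
    by_cases hs : IsSimpleGroup G
    · have h1 := Lib.CharBurnside.prime_card_of_class 2 j Nat.prime_two a ha1' hj
      have : Fact (Nat.card G).Prime := ⟨h1⟩
      have : IsCyclic G := isCyclic_of_prime_card rfl
      infer_instance
    · -- proper normal subgroup
      have hnt : Nontrivial G := ⟨a, 1, ha1'⟩
      obtain ⟨N, hN, hN1, hNt⟩ : ∃ N : Subgroup G, N.Normal ∧ N ≠ ⊥ ∧ N ≠ ⊤ := by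
        by_contra hcon
        push Not at hcon
        exact hs ⟨fun N hN => by
          by_cases h : N = ⊥
          · exact Or.inl h
          · exact Or.inr (hcon N hN h)⟩
      have hc1 : Nat.card N ≤ n := by have := Lib.Basic.card_lt_of_ne_top hNt; omega
      have hc2 : Nat.card (G ⧸ N) ≤ n := by have := Lib.Basic.card_quotient_lt hN1; omega
      have hNs : Group.IsSolvable N := by
        apply ih N hc1 (A.subgroupOf N)
        · refine ⟨⟨fun x y => Subtype.ext (Subtype.ext ?_)⟩⟩
          have h1 := congrArg Subtype.val (hA.is_comm.comm (⟨(x : N), x.2⟩ : A) ⟨(y : N), y.2⟩)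
          exact h1
        · -- index of A ∩ N in N divides index of A
          have h1 : (A.subgroupOf N).index ∣ A.index := by
            have h2 := Lib.Basic.index_sup_of_normalizes (N := N) (H := A)
              (by rw [normalizer_eq_top_iff.mpr hN]; exact le_top)
            have h3 := Lib.Basic.card_sup_mul_card_inf (N := N) (H := A)
              (by rw [normalizer_eq_top_iff.mpr hN]; exact le_top)
            have h4 := Lib.Basic.relIndex_mul_card (inf_le_left : N ⊓ A ≤ N)
            rw [Subgroup.inf_relIndex_left] at h4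
            have hpos : 0 < Nat.card (N ⊓ A : Subgroup G) := Nat.card_pos
            have h5 : Nat.card (N ⊔ A : Subgroup G) = A.relIndex N * Nat.card A := by
              apply Nat.eq_of_mul_eq_mul_right hpos
              rw [h3, ← h4]; ring
            have h6 := (N ⊔ A : Subgroup G).card_mul_index
            have h7 := A.card_mul_index
            rw [h5] at h6
            refine ⟨(N ⊔ A).index, ?_⟩
            apply Nat.eq_of_mul_eq_mul_left (Nat.card_pos (α := A))
            rw [h7, ← h6]
            show A.relIndex N * Nat.card A * (N ⊔ A).index = Nat.card A * (A.relIndex N * (N ⊔ A).index)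
            ring
          rw [hk] at h1
          obtain ⟨i, _, hi⟩ := (Nat.dvd_prime_pow Nat.prime_two).1 h1
          exact ⟨i, hi⟩
      have hQs : Group.IsSolvable (G ⧸ N) := by
        apply ih (G ⧸ N) hc2 (A.map (QuotientGroup.mk' N))
        · refine ⟨⟨?_⟩⟩
          rintro ⟨_, x, hx, rfl⟩ ⟨_, y, hy, rfl⟩
          apply Subtype.ext
          show QuotientGroup.mk' N x * QuotientGroup.mk' N y = QuotientGroup.mk' N y * QuotientGroup.mk' N x
          rw [← map_mul, ← map_mul]
          exact congrArg _ (congrArg Subtype.val (hA.is_comm.comm (⟨x, hx⟩ : A) ⟨y, hy⟩))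
        · have h1 : (A.map (QuotientGroup.mk' N)).index ∣ A.index :=
            index_map_dvd A (QuotientGroup.mk'_surjective N)
          rw [hk] at h1
          obtain ⟨i, _, hi⟩ := (Nat.dvd_prime_pow Nat.prime_two).1 h1
          exact ⟨i, hi⟩
      exact Group.isSolvable_of_ker_le_range N.subtype (QuotientGroup.mk' N)
        (by rw [QuotientGroup.ker_mk', Subgroup.range_subtype])

/-- Every finite group having an abelian subgroup whose index is a power of 2 is solvable. -/
theorem result {G : Type*} [Group G] [Finite G]
    (A : Subgroup G) (hA : IsMulCommutative A) (hidx : ∃ k : ℕ, A.index = 2 ^ k) : Group.IsSolvable G := by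
  exact aux (Nat.card G) G le_rfl A hA hidx

end Cfsg.Agent.S3824
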