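import Cfsg.Statements.S3868
import Mathlib
import Cfsg.Agent.H2.MinPC

set_option autoImplicit false
open Cfsg

namespace Cfsg.Agent.S3868

universe u

open Subgroup Cfsg.Agent.Lib.Basic
open scoped Pointwise commutatorElement

theorem centralizes {G : Type u} [Group G] [Finite G] {p : ℕ} [Fact p.Prime] {Q : Subgroup G} {x : G} (hQ : (Nat.card Q).Coprime p)
    (hx : orderOf x = p) (hxQ : x ∈ normalizer (Q : Set G)) (hcl : Cfsg.IsPClosed p ↥(Q ⊔ zpowers x)) :
    x ∈ centralizer (Q : Set G) := by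
  obtain ⟨S⟩ : Nonempty (Sylow p ↥(Q ⊔ zpowers x)) := inferInstance
  haveI hSn := hcl S
  have hxH : x ∈ Q ⊔ zpowers x := mem_sup_right (mem_zpowers x)
  have hxS : (⟨x, hxH⟩ : ↥(Q ⊔ zpowers x)) ∈ S := by
    have h1 : IsPGroup p (zpowers (⟨x, hxH⟩ : ↥(Q ⊔ zpowers x))) :=
      IsPGroup.of_card (n := 1) (by rw [Nat.card_zpowers, Subgroup.orderOf_mk, hx, pow_one])
    have h2 : IsPGroup p ↥(zpowers (⟨x, hxH⟩ : ↥(Q ⊔ zpowers x)) ⊔ (S : Subgroup ↥(Q ⊔ zpowers x))) :=
      h1.to_sup_of_normal_right S.isPGroup'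
    have h3 := S.3 h2 le_sup_right
    have h4 : zpowers (⟨x, hxH⟩ : ↥(Q ⊔ zpowers x)) ≤ (S : Subgroup ↥(Q ⊔ zpowers x)) := by
      rw [← h3]; exact le_sup_left
    exact h4 (mem_zpowers _)
  rw [mem_centralizer_iff]
  intro y hy
  have hyH : y ∈ Q ⊔ zpowers x := mem_sup_left hy
  have h1 : (⟨x, hxH⟩ * (⟨y, hyH⟩ * ⟨x, hxH⟩⁻¹ * ⟨y, hyH⟩⁻¹) : ↥(Q ⊔ zpowers x)) ∈ S :=
    mul_mem hxS (hSn.conj_mem _ (inv_mem hxS) _)
  have h2 : x * (y * x⁻¹ * y⁻¹) ∈ Q := by
    have h3 := (mem_normalizer_iff.1 hxQ y).1 hy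
    have h4 : x * (y * x⁻¹ * y⁻¹) = (x * y * x⁻¹) * y⁻¹ := by group
    rw [h4]
    exact Q.mul_mem h3 (Q.inv_mem hy)
  have h3 : x * (y * x⁻¹ * y⁻¹) = 1 := by
    obtain ⟨k, hk⟩ := IsPGroup.iff_orderOf.1 S.isPGroup' ⟨_, h1⟩
    rw [Subgroup.orderOf_mk] at hk
    have h5 : orderOf (x * (y * x⁻¹ * y⁻¹)) = p ^ k := by
      rw [← hk]
      exact Subgroup.orderOf_coe (H := Q ⊔ zpowers x) (⟨x, hxH⟩ * (⟨y, hyH⟩ * ⟨x, hxH⟩⁻¹ * ⟨y, hyH⟩⁻¹))
    have h6 : orderOf (⟨_, h2⟩ : Q) ∣ Nat.card Q := _root_.orderOf_dvd_natCard _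
    rw [Subgroup.orderOf_mk, h5] at h6
    have h7 : p ^ k = 1 := Nat.eq_one_of_dvd_coprimes (hQ.pow_right k) h6 dvd_rfl
    rw [h7] at h5
    exact orderOf_eq_one_iff.1 h5
  have h4 : x * y * x⁻¹ * y⁻¹ = 1 := by rw [← h3]; group
  have h5 : x * y = y * x := by
    rw [mul_inv_eq_one, mul_inv_eq_iff_eq_mul] at h4
    exact h4
  exact h5.symm

/-- Structure of the non-simple minimal non-p-closed groups. Call a finite group p-closed when its Sylow p-subgroups are normal, and minimal non-p-closed when it is not p-closed but every proper subgroup and every proper quotient is. If such a group G is not simple, then there is a prime q ≠ p such that G has order p · q^e, where e is the multiplicative order of q modulo p, and G has a normal subgroup A of order q^e that is elementary abelian and is a minimal normal subgroup of G (so G is the semidirect product of A by a group of order p acting irreducibly). -/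
theorem result {G : Type*} [Group G] [Finite G] {p : ℕ} [Fact p.Prime]
    (hnc : ¬ Cfsg.IsPClosed p G) (hsub : ∀ H : Subgroup G, H ≠ ⊤ → Cfsg.IsPClosed p ↥H)
    (hquo : ∀ (N : Subgroup G) [N.Normal], N ≠ ⊥ → Cfsg.IsPClosed p (G ⧸ N)) (hns : ¬ IsSimpleGroup G) :
    ∃ q : ℕ, q.Prime ∧ q ≠ p ∧ Nat.card G = p * q ^ orderOf (q : ZMod p) ∧
      ∃ A : Subgroup G, A.Normal ∧ Nat.card ↥A = q ^ orderOf (q : ZMod p) ∧ Cfsg.IsElementaryAbelian q A ∧
        ∀ B : Subgroup G, B.Normal → B ≤ A → B = ⊥ ∨ B = A := by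
  open Subgroup in
  have hp : p.Prime := Fact.out
  -- `O_p(G) = 1`
  have hcore : Cfsg.pCore p G = ⊥ := by
    by_contra hne
    haveI : (Cfsg.pCore p G).Normal := Cfsg.Agent.Lib.Cores.pCore_normal p
    have h1 := hquo (Cfsg.pCore p G) hne
    apply hnc
    intro P
    have h2 := h1 (P.mapSurjective (QuotientGroup.mk'_surjective (Cfsg.pCore p G)))
    have h3 : (P : Subgroup G) = (((P : Subgroup G).map (QuotientGroup.mk' (Cfsg.pCore p G)))).comap (QuotientGroup.mk' (Cfsg.pCore p G)) := by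
      rw [comap_map_eq, QuotientGroup.ker_mk', sup_eq_left.2 (Cfsg.Agent.Lib.Cores.pCore_le_sylow P)]
    rw [h3]
    exact Normal.comap h2 _
  have hsyl : ∀ P : Sylow p G, (P : Subgroup G) ≠ ⊥ := by
    intro P hP
    apply hnc
    intro P'
    have h1 : Nat.card P' = Nat.card P := by rw [P'.card_eq_multiplicity, P.card_eq_multiplicity]
    have h2 : (P' : Subgroup G) = ⊥ := by
      rw [← card_eq_one, h1]
      exact card_eq_one.2 hP
    rw [h2]
    infer_instance
  -- normal subgroups that are `p`-closed have order prime to `p`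
  have hnp : ∀ N : Subgroup G, N.Normal → Cfsg.IsPClosed p N → ¬ p ∣ Nat.card N := by
    intro N hN hcl hd
    obtain ⟨S⟩ : Nonempty (Sylow p N) := inferInstance
    have h1 : (S : Subgroup N) ≤ Cfsg.pCore p N := Cfsg.Agent.Lib.Cores.le_pCore (hcl S) S.isPGroup'
    have h2 := Cfsg.Agent.Lib.Cores.map_pCore_le (p := p) N
    rw [hcore] at h2
    have h3 : (S : Subgroup N).map N.subtype = ⊥ := eq_bot_iff.2 ((map_mono h1).trans h2)
    have h4 : (S : Subgroup N) = ⊥ := (map_eq_bot_iff_of_injective _ N.subtype_injective).1 h3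
    exact S.ne_bot_of_dvd_card hd h4
  have hdvd : p ∣ Nat.card G := by
    by_contra hnd
    obtain ⟨P⟩ : Nonempty (Sylow p G) := inferInstance
    apply hsyl P
    obtain ⟨k, hk⟩ := P.isPGroup'.exists_card_eq
    rw [← card_eq_one, hk]
    rcases Nat.eq_zero_or_pos k with h | h
    · rw [h, pow_zero]
    · exfalso
      apply hnd
      exact (dvd_pow_self p h.ne').trans (hk ▸ card_subgroup_dvd_card _)
  haveI hGn : Nontrivial G := by
    by_contra h
    rw [not_nontrivial_iff_subsingleton] at h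
    rw [Nat.card_of_subsingleton (1 : G)] at hdvd
    exact hp.one_lt.ne' (Nat.dvd_one.1 hdvd)
  obtain ⟨N, hNn, hN1, hNt⟩ : ∃ N : Subgroup G, N.Normal ∧ N ≠ ⊥ ∧ N ≠ ⊤ := by
    by_contra hcon
    push Not at hcon
    apply hns
    exact ⟨fun N hN => by
      by_cases h : N = ⊥
      · exact Or.inl h
      · exact Or.inr (hcon N hN h)⟩
  have hprop : ∀ N : Subgroup G, N.Normal → N ≠ ⊤ → ¬ p ∣ Nat.card N := fun N h1 h2 => hnp N h1 (hsub N h2)
  have hNp : (Nat.card N).Coprime p := by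
    rw [Nat.coprime_comm, hp.coprime_iff_not_dvd]
    exact hprop N hNn hNt
  obtain ⟨x, hx⟩ := exists_prime_orderOf_dvd_card' p hdvd
  apply Cfsg.Agent.H2.MinPC.struct hp hN1 hNp hx
  · intro B hB hB1 hBN hxB
    have h1 : p ∣ Nat.card (centralizer (B : Set G)) := by
      have h2 : orderOf (⟨x, hxB⟩ : centralizer (B : Set G)) ∣ _ := _root_.orderOf_dvd_natCard _
      rwa [Subgroup.orderOf_mk, hx] at h2
    have h2 : centralizer (B : Set G) = ⊤ := by
      by_contra hne
      exact hprop _ inferInstance hne h1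
    obtain ⟨P⟩ : Nonempty (Sylow p G) := inferInstance
    have h3 := hquo B hB1 (P.mapSurjective (QuotientGroup.mk'_surjective B))
    have h4 : (B ⊔ P : Subgroup G).Normal := by
      have h5 : (B ⊔ P : Subgroup G) = (((P : Subgroup G).map (QuotientGroup.mk' B))).comap (QuotientGroup.mk' B) := by
        rw [comap_map_eq, QuotientGroup.ker_mk', sup_comm]
      rw [h5]
      exact Normal.comap h3 _
    have h5 : (B ⊔ P : Subgroup G) ≤ normalizer ((P : Subgroup G) : Set G) := by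
      apply sup_le _ le_normalizer
      intro b hb
      rw [mem_normalizer_iff]
      intro y
      have h6 : b * y = y * b := by
        have h7 : y ∈ centralizer (B : Set G) := by rw [h2]; exact mem_top y
        exact mem_centralizer_iff.1 h7 b hb
      rw [h6, mul_inv_cancel_right]
    haveI := h4
    have h6 : ((P : Subgroup G).subgroupOf (B ⊔ P)).Normal := normal_subgroupOf_of_le_normalizer h5
    have h7 : (P : Subgroup G).subgroupOf (B ⊔ P) ≤ Cfsg.pCore p ↥(B ⊔ P : Subgroup G) :=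
      Cfsg.Agent.Lib.Cores.le_pCore h6 (P.isPGroup'.comap_of_injective _ (B ⊔ P : Subgroup G).subtype_injective)
    have h8 := map_mono (f := (B ⊔ P : Subgroup G).subtype) h7
    rw [map_subgroupOf_eq_of_le le_sup_right] at h8
    have h9 := h8.trans (Cfsg.Agent.Lib.Cores.map_pCore_le (p := p) (B ⊔ P : Subgroup G))
    rw [hcore] at h9
    exact hsyl P (eq_bot_iff.2 h9)
  · intro Q hQN hxQ hne
    exact centralizes (Nat.Coprime.coprime_dvd_left (card_dvd_of_le hQN) hNp) hx hxQ (hsub _ hne)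

end Cfsg.Agent.S3868
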