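import Cfsg.Statements.S3869
import Mathlib
import Cfsg.Agent.H2.MinPC
import Cfsg.Agent.H2.PUtil

set_option autoImplicit false
open Cfsg

namespace Cfsg.Agent.S3869

universe u

open Subgroup Cfsg.Agent.Lib.Basic
open scoped Pointwise commutatorElement

theorem closed_of_isPGroup {G : Type u} [Group G] [Finite G] {p : ℕ} [Fact p.Prime] (h : IsPGroup p G) :
    Cfsg.IsPClosed p G := by
  intro P
  have h1 : (P : Subgroup G) = ⊤ := (P.3 (h.to_subgroup ⊤) le_top).symm
  rw [h1]
  infer_instance

theorem isPGroup_of_dvd {G : Type u} [Group G] [Finite G] {p : ℕ} [Fact p.Prime] (h : Nat.card G ∣ p) :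
    IsPGroup p G := by
  rcases (Nat.dvd_prime Fact.out).1 h with h1 | h1
  · exact IsPGroup.of_card (n := 0) (by rw [h1, pow_zero])
  · exact IsPGroup.of_card (n := 1) (by rw [h1, pow_one])

/-- Let p and q be distinct primes and G a finite non-abelian group with a normal elementary abelian q-subgroup A that is a minimal normal subgroup of G and has index p. Then A has order q^e with e the multiplicative order of q modulo p, and G is minimal non-p-closed: its Sylow p-subgroups are not normal, while in every proper subgroup and in every proper quotient of G the Sylow p-subgroups are normal. -/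
theorem result {G : Type*} [Group G] [Finite G] {p q : ℕ} [Fact p.Prime] (hq : q.Prime) (hpq : q ≠ p)
    (hna : ¬ IsMulCommutative G) (A : Subgroup G) [A.Normal] (hA : Cfsg.IsElementaryAbelian q A) (hidx : A.index = p)
    (hmin : ∀ B : Subgroup G, B.Normal → B ≤ A → B = ⊥ ∨ B = A) :
    Nat.card ↥A = q ^ orderOf (q : ZMod p) ∧ ¬ Cfsg.IsPClosed p G ∧ (∀ H : Subgroup G, H ≠ ⊤ → Cfsg.IsPClosed p ↥H) ∧
      ∀ (N : Subgroup G) [N.Normal], N ≠ ⊥ → Cfsg.IsPClosed p (G ⧸ N) := by
  open Subgroup in
  have hp : p.Prime := Fact.out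
  haveI : Fact q.Prime := ⟨hq⟩
  have hcG := A.card_mul_index
  rw [hidx] at hcG
  obtain ⟨m, hm⟩ : ∃ m, Nat.card A = q ^ m :=
    (Cfsg.Agent.Lib.Nilp.isPGroup_of_pow_eq_one hA.2 : IsPGroup q A).exists_card_eq
  have hcop : (Nat.card A).Coprime p := by
    rw [hm]
    exact Nat.Coprime.pow_left m ((Nat.coprime_primes hq hp).2 hpq)
  have hcomm : ∀ a ∈ A, ∀ b ∈ A, a * b = b * a := fun a ha b hb => congrArg Subtype.val (hA.1.is_comm.comm ⟨a, ha⟩ ⟨b, hb⟩)
  have hAN : ∀ X : Subgroup G, X ≤ normalizer (A : Set G) := fun X => by rw [normalizer_eq_top]; exact le_top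
  have htop : ∀ y : G, orderOf y = p → A ⊔ zpowers y = ⊤ := by
    intro y hy
    have h1 := card_sup_of_inf_eq_bot (hAN (zpowers y)) (by
      apply (disjoint_of_coprime_natCard _).eq_bot
      rw [Nat.card_zpowers, hy]
      exact hcop)
    rw [Nat.card_zpowers, hy, hcG] at h1
    exact eq_top_of_card_eq _ h1
  have hnc : ∀ y : G, orderOf y = p → y ∉ centralizer (A : Set G) := by
    intro y hy hyA
    apply hna
    have h1 : (⊤ : Subgroup G) ≤ centralizer (A : Set G) := by
      rw [← htop y hy]
      apply sup_le _ (zpowers_le.2 hyA)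
      intro a ha
      rw [mem_centralizer_iff]
      intro b hb
      exact hcomm b hb a ha
    have h2 : (⊤ : Subgroup G) ≤ centralizer ({y} : Set G) := by
      rw [← htop y hy]
      apply sup_le
      · intro a ha
        rw [mem_centralizer_singleton_iff]
        exact mem_centralizer_iff.1 hyA a ha
      · rw [zpowers_le, mem_centralizer_singleton_iff]
    refine ⟨⟨fun g h => ?_⟩⟩
    have h3 : (⊤ : Subgroup G) ≤ centralizer ({g} : Set G) := by
      rw [← htop y hy]
      apply sup_le
      · intro a ha
        rw [mem_centralizer_singleton_iff]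
        exact mem_centralizer_iff.1 (h1 (mem_top g)) a ha
      · rw [zpowers_le, mem_centralizer_singleton_iff]
        exact (mem_centralizer_singleton_iff.1 (h2 (mem_top g))).symm
    exact (mem_centralizer_singleton_iff.1 (h3 (mem_top h))).symm
  have hdvd : p ∣ Nat.card G := by rw [← hcG]; exact dvd_mul_left _ _
  obtain ⟨x, hx⟩ := exists_prime_orderOf_dvd_card' p hdvd
  refine ⟨Cfsg.Agent.H2.IrrCard.card_of_min hp hq hpq A hA hmin (by rw [← hx]; exact pow_orderOf_eq_one x) (htop x hx) (hnc x hx),
    ?_, ?_, ?_⟩
  · -- not `p`-closed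
    intro hcl
    have h1 : IsPGroup p (zpowers x) := IsPGroup.of_card (n := 1) (by rw [Nat.card_zpowers, hx, pow_one])
    obtain ⟨P, hP⟩ := h1.exists_le_sylow
    haveI := hcl P
    apply hnc x hx
    rw [mem_centralizer_iff]
    intro a ha
    have h2 : x ∈ P := hP (mem_zpowers x)
    have h3 : a * x * a⁻¹ * x⁻¹ ∈ A ⊓ P := by
      refine ⟨?_, (P : Subgroup G).mul_mem ((hcl P).conj_mem x h2 a) ((P : Subgroup G).inv_mem h2)⟩
      have h4 : a * x * a⁻¹ * x⁻¹ = a * (x * a⁻¹ * x⁻¹) := by group
      rw [h4]
      exact A.mul_mem ha (Normal.conj_mem inferInstance _ (A.inv_mem ha) x)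
    obtain ⟨k, hk⟩ := P.isPGroup'.exists_card_eq
    have h4 : A ⊓ (P : Subgroup G) = ⊥ := by
      apply (disjoint_of_coprime_natCard _).eq_bot
      rw [hk]
      exact hcop.pow_right k
    rw [h4, mem_bot, mul_inv_eq_one, mul_inv_eq_iff_eq_mul] at h3
    exact h3
  · -- proper subgroups
    intro H hH
    by_cases hd : p ∣ Nat.card H
    · obtain ⟨y, hy⟩ := exists_prime_orderOf_dvd_card' (G := H) p hd
      have hy' : orderOf (y : G) = p := by rw [← hy]; exact Subgroup.orderOf_coe y
      have h1 : (H ⊓ A).Normal := by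
        rw [← normalizer_eq_top_iff, eq_top_iff, ← htop y hy']
        apply sup_le
        · intro a ha
          rw [mem_normalizer_iff]
          intro b
          constructor
          · intro hb
            rw [hcomm a ha b hb.2, mul_inv_cancel_right]
            exact hb
          · intro hb
            have h1 := hcomm a⁻¹ (A.inv_mem ha) _ hb.2
            have h2 : b = a⁻¹ * (a * b * a⁻¹) * a := by group
            rw [h2, h1]
            rwa [inv_mul_cancel_right]
        · exact Cfsg.Agent.Lib.SchurZas.le_normalizer_inf ((zpowers_le.2 y.2).trans le_normalizer) (hAN _)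
      rcases hmin _ h1 inf_le_right with h2 | h2
      · apply closed_of_isPGroup
        apply isPGroup_of_dvd
        have h3 : Function.Injective ((QuotientGroup.mk' A).comp H.subtype) := by
          rw [injective_iff_map_eq_one]
          intro z hz
          have h4 : (z : G) ∈ H ⊓ A := ⟨z.2, (QuotientGroup.eq_one_iff _).1 hz⟩
          rw [h2, mem_bot] at h4
          exact Subtype.ext h4
        have h4 := card_dvd_of_injective _ h3
        rwa [← index_eq_card, hidx] at h4
      · exfalso
        apply hH
        rw [eq_top_iff, ← htop y hy']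
        exact sup_le (by rw [← h2]; exact inf_le_left) (zpowers_le.2 y.2)
    · intro P
      have h1 : (P : Subgroup H) = ⊥ := by
        obtain ⟨k, hk⟩ := P.isPGroup'.exists_card_eq
        rw [← card_eq_one, hk]
        rcases Nat.eq_zero_or_pos k with h | h
        · rw [h, pow_zero]
        · exfalso
          apply hd
          exact (dvd_pow_self p h.ne').trans (hk ▸ card_subgroup_dvd_card _)
      rw [h1]
      infer_instance
  · -- quotients
    intro N hN hN1
    rcases hmin (N ⊓ A) inferInstance inf_le_right with h2 | h2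
    · exfalso
      have h3 : Function.Injective ((QuotientGroup.mk' A).comp N.subtype) := by
        rw [injective_iff_map_eq_one]
        intro z hz
        have h4 : (z : G) ∈ N ⊓ A := ⟨z.2, (QuotientGroup.eq_one_iff _).1 hz⟩
        rw [h2, mem_bot] at h4
        exact Subtype.ext h4
      have h4 := card_dvd_of_injective _ h3
      rw [← index_eq_card, hidx] at h4
      obtain ⟨y, hy, hyo⟩ := Cfsg.Agent.H2.PUtil.exists_orderOf_prime hp hN1 (isPGroup_of_dvd h4)
      apply hnc y hyo
      rw [mem_centralizer_iff]
      intro a ha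
      have h3 : a * y * a⁻¹ * y⁻¹ ∈ N ⊓ A := by
        refine ⟨N.mul_mem (hN.conj_mem y hy a) (N.inv_mem hy), ?_⟩
        have h4 : a * y * a⁻¹ * y⁻¹ = a * (y * a⁻¹ * y⁻¹) := by group
        rw [h4]
        exact A.mul_mem ha (Normal.conj_mem inferInstance _ (A.inv_mem ha) y)
      rw [h2, mem_bot, mul_inv_eq_one, mul_inv_eq_iff_eq_mul] at h3
      exact h3
    · have h3 : A ≤ N := by rw [← h2]; exact inf_le_left
      apply closed_of_isPGroup
      apply isPGroup_of_dvd
      rw [← index_eq_card, ← hidx]
      exact index_dvd_of_le h3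

end Cfsg.Agent.S3869
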