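import Cfsg.Statements.S3870
import Mathlib
import Cfsg.Agent.H2.PUtil
import Cfsg.Agent.H3.Sylow

set_option autoImplicit false
open Cfsg

namespace Cfsg.Agent.S3870

open Subgroup

/-- Let G be a finite simple group whose Sylow p-subgroups are not normal but such that every proper subgroup of G has a normal Sylow p-subgroup. Then any two distinct Sylow p-subgroups of G intersect trivially, and for every Sylow p-subgroup P the normalizer of every non-identity subgroup of P lies in the normalizer of P. -/
theorem result {G : Type*} [Group G] [Finite G] [IsSimpleGroup G] {p : ℕ} [Fact p.Prime]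
    (hnc : ¬ Cfsg.IsPClosed p G) (hsub : ∀ H : Subgroup G, H ≠ ⊤ → Cfsg.IsPClosed p ↥H) :
    (∀ P Q : Sylow p G, P ≠ Q → (P : Subgroup G) ⊓ (Q : Subgroup G) = ⊥) ∧
      ∀ (P : Sylow p G) (R : Subgroup G), R ≤ P → R ≠ ⊥ →
        Subgroup.normalizer (R : Set G) ≤ Subgroup.normalizer ((P : Subgroup G) : Set G) := by
  classical
  -- no Sylow subgroup is normal
  have hnn : ∀ P : Sylow p G, ¬ (P : Subgroup G).Normal := by
    intro P hP
    apply hnc
    intro Q
    have := Sylow.unique_of_normal P hP
    rw [Subsingleton.elim Q P]; exact hP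
  have hNt : ∀ D : Subgroup G, D ≠ ⊥ → (∃ P : Sylow p G, D ≤ P) → normalizer (D : Set G) ≠ ⊤ := by
    intro D hD hP h
    obtain ⟨P, hP⟩ := hP
    rw [normalizer_eq_top_iff] at h
    rcases h.eq_bot_or_eq_top with h1 | h1
    · exact hD h1
    · rw [h1, top_le_iff] at hP
      exact hnn P (hP ▸ inferInstance)
  have hTI : ∀ P Q : Sylow p G, P ≠ Q → (P : Subgroup G) ⊓ (Q : Subgroup G) = ⊥ := by
    by_contra hcon
    push Not at hcon
    obtain ⟨⟨P, Q⟩, hPQ⟩ := (Set.toFinite {x : Sylow p G × Sylow p G | x.1 ≠ x.2 ∧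
      (x.1 : Subgroup G) ⊓ x.2 ≠ ⊥}).exists_maximalFor (fun x => Nat.card ((x.1 : Subgroup G) ⊓ x.2 : Subgroup G)) _
        (by obtain ⟨P, Q, h1, h2⟩ := hcon; exact ⟨(P, Q), h1, h2⟩)
    obtain ⟨⟨hne, hbot⟩, hmax⟩ := hPQ
    simp only at hne hbot hmax
    set D := (P : Subgroup G) ⊓ Q with hD
    have hN := hNt D hbot ⟨P, inf_le_left⟩
    have hcl := hsub _ hN
    obtain ⟨S, hS⟩ := (inferInstance : Nonempty (Sylow p (normalizer (D : Set G))))
    let S : Sylow p (normalizer (D : Set G)) := default
    have hSn : (S : Subgroup (normalizer (D : Set G))).Normal := hcl S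
    have hss := Sylow.unique_of_normal S hSn
    -- all p-subgroups of N lie in S
    have hle : ∀ R : Subgroup G, IsPGroup p R → R ≤ normalizer (D : Set G) →
        R ≤ (S : Subgroup (normalizer (D : Set G))).map (normalizer (D : Set G)).subtype := by
      intro R hR hRN
      obtain ⟨S', hS'⟩ := (hR.comap_of_injective (normalizer (D : Set G)).subtype (subtype_injective _) :
        IsPGroup p (R.comap (normalizer (D : Set G)).subtype)).exists_le_sylow
      rw [Subsingleton.elim S' S] at hS'
      intro x hx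
      exact ⟨⟨x, hRN hx⟩, hS' hx, rfl⟩
    obtain ⟨T, hT⟩ := (S.isPGroup'.map (normalizer (D : Set G)).subtype).exists_le_sylow
    have hgrow : ∀ P' : Sylow p G, D ≤ (P' : Subgroup G) → (P' : Subgroup G) ≠ D → P' = T := by
      intro P' hDP' hne'
      by_contra hne2
      have hlt := H3.Sylow.lt_inf_normalizer P'.isPGroup' (lt_of_le_of_ne hDP' (Ne.symm hne'))
      have h1 : (P' : Subgroup G) ⊓ normalizer (D : Set G) ≤ (P' : Subgroup G) ⊓ T :=
        le_inf inf_le_left ((hle _ (P'.isPGroup'.to_le inf_le_left) inf_le_right).trans hT)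
      have h2 : D < (P' : Subgroup G) ⊓ T := hlt.trans_le h1
      have h3 := Lib.Basic.card_lt_card_of_lt h2
      have h4 := @hmax (P', T) ⟨hne2, fun h => by
        simp only at h
        rw [h] at h2
        exact not_lt_bot h2⟩ h3.le
      simp only at h4
      omega
    have hPD : (P : Subgroup G) ≠ D := by
      intro h
      have h1 : (P : Subgroup G) ≤ Q := by rw [h]; exact inf_le_right
      exact hne (Sylow.ext (P.is_maximal' Q.isPGroup' h1).symm)
    have hQD : (Q : Subgroup G) ≠ D := by
      intro h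
      have h1 : (Q : Subgroup G) ≤ P := by rw [h]; exact inf_le_left
      exact hne (Sylow.ext (Q.is_maximal' P.isPGroup' h1))
    exact hne ((hgrow P inf_le_left hPD).trans (hgrow Q inf_le_right hQD).symm)
  refine ⟨hTI, ?_⟩
  intro P R hRP hR g hg
  have h1 : g • P = P := by
    by_contra hne
    have h2 := hTI _ _ hne
    apply hR
    rw [eq_bot_iff, ← h2]
    refine le_inf ?_ hRP
    intro x hx
    refine ⟨g⁻¹ * x * g, hRP ?_, ?_⟩
    · have := (mem_normalizer_iff''.1 hg x).1 hx
      exact this
    · show g * (g⁻¹ * x * g) * g⁻¹ = x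
      group
  exact Sylow.smul_eq_iff_mem_normalizer.1 h1

end Cfsg.Agent.S3870
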