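import Cfsg.Statements.S3872
import Cfsg.Agent.S4209
import Cfsg.Agent.Lib.H3Reg
import Cfsg.Agent.Lib.PGrpF
import Cfsg.Agent.Lib.NilpB

set_option autoImplicit false
open Cfsg

namespace Cfsg.Agent.S3872

open Subgroup

theorem quat_comm (n : ℕ) (h : ∀ x y : QuaternionGroup (2 ^ n), x * y = y * x) : IsCyclic (QuaternionGroup (2 ^ n)) := by
  have h1 := h (QuaternionGroup.a 1) (QuaternionGroup.xa 0)
  rw [QuaternionGroup.a_mul_xa, QuaternionGroup.xa_mul_a] at h1
  have h2 : (0 - 1 : ZMod (2 * 2 ^ n)) = 0 + 1 := QuaternionGroup.xa.inj h1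
  have h3 : ((2 : ℕ) : ZMod (2 * 2 ^ n)) = 0 := by
    have : (2 : ZMod (2 * 2 ^ n)) = (0 + 1) - (0 - 1) := by ring
    rw [← h2, sub_self] at this
    exact_mod_cast this
  rw [ZMod.natCast_eq_zero_iff] at h3
  have h4 : 2 ^ n ≤ 1 := by
    have := Nat.le_of_dvd (by norm_num) h3
    omega
  have h5 : n = 0 := by
    by_contra hn
    have : 2 ^ 1 ≤ 2 ^ n := Nat.pow_le_pow_right (by norm_num) (by omega)
    omega
  subst h5
  exact QuaternionGroup.quaternionGroup_one_isCyclic

/-- Say that a finite group is p-exponent closed when its elements of order dividing p form a subgroup. Let G be a finite p-group that is not p-exponent closed, but all of whose proper subgroups and proper quotients are. Then G is generated by two elements, has nilpotency class at least p, has exponent p², has cyclic center, and has order at least p^(p+1). -/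
theorem result {G : Type*} [Group G] [Finite G] {p : ℕ} [Fact p.Prime] (hG : IsPGroup p G)
    (hnc : ¬ (∃ H : Subgroup G, (H : Set G) = {g : G | g ^ p = 1})) (hsub : ∀ K : Subgroup G, K ≠ ⊤ → (∃ H : Subgroup ↥K, (H : Set ↥K) = {g : ↥K | g ^ p = 1}))
    (hquo : ∀ (N : Subgroup G) [N.Normal], N ≠ ⊥ → (∃ H : Subgroup (G ⧸ N), (H : Set (G ⧸ N)) = {g : (G ⧸ N) | g ^ p = 1})) :
    (∃ x y : G, Subgroup.closure ({x, y} : Set G) = ⊤) ∧ (⊤ : Subgroup G).lowerCentralSeries (p - 1) ≠ ⊥ ∧
      Monoid.exponent G = p ^ 2 ∧ IsCyclic ↥(Subgroup.center G) ∧ p ^ (p + 1) ≤ Nat.card G := by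
  classical
  have hp := (Fact.out : p.Prime)
  obtain ⟨x, y, hx, hy, hxy⟩ : ∃ x y : G, x ^ p = 1 ∧ y ^ p = 1 ∧ (x * y) ^ p ≠ 1 := by
    by_contra hno
    push Not at hno
    exact hnc ⟨Cfsg.Agent.Lib.H3Reg.Om p (fun x y hx hy => hno x y hx hy), rfl⟩
  have hgen : closure ({x, y} : Set G) = ⊤ := by
    by_contra hK
    obtain ⟨H, hH⟩ := hsub _ hK
    have hxK : x ∈ closure ({x, y} : Set G) := subset_closure (by simp)
    have hyK : y ∈ closure ({x, y} : Set G) := subset_closure (by simp)
    have h1 : (⟨x, hxK⟩ : ↥(closure ({x, y} : Set G))) ∈ H := by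
      rw [← SetLike.mem_coe, hH]; exact Subtype.ext hx
    have h2 : (⟨y, hyK⟩ : ↥(closure ({x, y} : Set G))) ∈ H := by
      rw [← SetLike.mem_coe, hH]; exact Subtype.ext hy
    have h3 := mul_mem h1 h2
    rw [← SetLike.mem_coe, hH] at h3
    exact hxy (congrArg Subtype.val h3)
  have hpN : ∀ (N : Subgroup G) [N.Normal], N ≠ ⊥ → ∀ g : G, g ^ p ∈ N := by
    intro N _ hN g
    obtain ⟨H, hH⟩ := hquo N hN
    have h1 : H.comap (QuotientGroup.mk' N) = ⊤ := by
      rw [eq_top_iff, ← hgen, closure_le]
      rintro z hz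
      have hzp : z ^ p = 1 := by
        rcases hz with rfl | hz
        · exact hx
        · rw [Set.mem_singleton_iff] at hz; rw [hz]; exact hy
      change (QuotientGroup.mk' N) z ∈ (H : Set (G ⧸ N))
      rw [hH]
      change (QuotientGroup.mk' N) z ^ p = 1
      rw [← map_pow, hzp, map_one]
    have h2 : g ∈ H.comap (QuotientGroup.mk' N) := by rw [h1]; exact mem_top g
    have h3 : (QuotientGroup.mk' N) g ∈ (H : Set (G ⧸ N)) := h2
    rw [hH] at h3
    have h4 : (QuotientGroup.mk' N) g ^ p = 1 := h3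
    rw [← map_pow] at h4
    exact (QuotientGroup.eq_one_iff _).mp h4
  have hcl : (⊤ : Subgroup G).lowerCentralSeries (p - 1) ≠ ⊥ := by
    intro h0
    have hR := Cfsg.Agent.S4209.result hG h0
    have := Cfsg.Agent.Lib.H3Reg.omega_mul hR 1 x y (by rw [pow_one]; exact hx) (by rw [pow_one]; exact hy)
    rw [pow_one] at this
    exact hxy this
  set w := (x * y) ^ p with hw
  have hnt : Nontrivial G := ⟨w, 1, hxy⟩
  have hcen : ∀ v ∈ center G, (zpowers v).Normal := by
    intro v hv
    refine ⟨fun n hn g => ?_⟩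
    have : zpowers v ≤ center G := by rw [zpowers_le]; exact hv
    have h1 := mem_center_iff.mp (this hn) g
    rw [h1, mul_inv_cancel_right]; exact hn
  have hwv : ∀ v ∈ center G, orderOf v = p → ∀ g : G, g ^ p ∈ zpowers v := by
    intro v hv hvp g
    have := hcen v hv
    refine hpN (zpowers v) ?_ g
    rw [Ne, zpowers_eq_bot]
    rintro rfl
    rw [orderOf_one] at hvp
    exact hp.one_lt.ne hvp
  have hexp : Monoid.exponent G = p ^ 2 := by
    obtain ⟨z, hz⟩ : ∃ z : ↥(center G), orderOf z = p := by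
      have hcn := hG.center_nontrivial
      have hcp := hG.to_subgroup (center G)
      apply exists_prime_orderOf_dvd_card' p
      obtain ⟨k, hk⟩ := hcp.exists_card_eq
      rw [hk]
      rcases Nat.eq_zero_or_pos k with rfl | hk0
      · rw [pow_zero] at hk
        have := (Nat.card_eq_one_iff_unique.mp hk).1
        exact absurd hcn (not_nontrivial_iff_subsingleton.mpr this)
      · exact dvd_pow_self p hk0.ne'
    have hz' : orderOf (z : G) = p := by rw [Subgroup.orderOf_coe]; exact hz
    have h1 : Monoid.exponent G ∣ p ^ 2 := by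
      rw [Monoid.exponent_dvd_iff_forall_pow_eq_one]
      intro g
      have h2 := hwv z z.2 hz' g
      obtain ⟨k, hk⟩ := mem_zpowers_iff.mp h2
      rw [pow_two, pow_mul, ← hk, ← zpow_natCast, ← zpow_mul, mul_comm, zpow_mul, zpow_natCast, ← hz',
        pow_orderOf_eq_one, one_zpow]
    obtain ⟨k, hk2, hk⟩ := (Nat.dvd_prime_pow hp).mp h1
    have h3 : ¬ k ≤ 1 := by
      intro hk1
      have h4 : Monoid.exponent G ∣ p := by
        rw [hk]
        exact (pow_dvd_pow p hk1).trans (by rw [pow_one])
      exact hxy (Monoid.exponent_dvd_iff_forall_pow_eq_one.mp h4 (x * y))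
    rw [hk, show k = 2 by omega]
  have hcyc : IsCyclic ↥(center G) := by
    have hcp := hG.to_subgroup (center G)
    have hu : ∀ u v : ↥(center G), orderOf u = p → orderOf v = p → u ∈ zpowers v := by
      intro u v hu hv
      have hu' : orderOf (u : G) = p := by rw [Subgroup.orderOf_coe]; exact hu
      have hv' : orderOf (v : G) = p := by rw [Subgroup.orderOf_coe]; exact hv
      have key : ∀ t : G, t ∈ center G → orderOf t = p → zpowers w = zpowers t := by
        intro t ht htp
        have h1 : zpowers w ≤ zpowers t := by rw [zpowers_le]; exact hwv t ht htp _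
        have h2 : Nat.card ↥(zpowers t) = p := by rw [Nat.card_zpowers]; exact htp
        have h3 : Nat.card ↥(zpowers w) ∣ Nat.card ↥(zpowers t) := card_dvd_of_le h1
        rw [h2, Nat.dvd_prime hp] at h3
        rcases h3 with h3 | h3
        · exfalso
          rw [Nat.card_zpowers, orderOf_eq_one_iff] at h3
          exact hxy h3
        · exact eq_of_le_of_card_ge h1 (by rw [h2, h3])
      have h4 : (u : G) ∈ zpowers (v : G) := by
        rw [← key v v.2 hv', key u u.2 hu']
        exact mem_zpowers _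
      obtain ⟨k, hk⟩ := mem_zpowers_iff.mp h4
      exact mem_zpowers_iff.mpr ⟨k, Subtype.ext hk⟩
    rcases Cfsg.Agent.Lib.PGrpF.unique_imp hcp hu with h1 | ⟨_, n, ⟨e⟩⟩
    · exact h1
    · have h2 : IsCyclic (QuaternionGroup (2 ^ n)) := by
        apply quat_comm
        intro s t
        apply e.symm.injective
        rw [map_mul, map_mul]
        exact Subtype.ext (mem_center_iff.mp (e.symm t).2 (e.symm s).1)
      exact isCyclic_of_surjective e.symm e.symm.surjective
  refine ⟨⟨x, y, hgen⟩, hcl, hexp, hcyc, ?_⟩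
  obtain ⟨r, hr⟩ := hG.exists_card_eq
  have hr2 : 2 ≤ r := by
    have h1 : Monoid.exponent G ∣ Nat.card G := Group.exponent_dvd_nat_card
    rw [hexp, hr] at h1
    exact (Nat.pow_dvd_pow_iff_le_right hp.one_lt).mp h1
  have hnil := hG.isNilpotent
  have h1 := Cfsg.Agent.Lib.NilpB.nilpotencyClass_le_of_card r G hr (by omega)
  rw [← Subgroup.lowerCentralSeries_eq_bot_iff_nilpotencyClass_le] at h1
  rw [hr]
  apply Nat.pow_le_pow_right hp.pos
  by_contra hlt
  apply hcl
  rw [eq_bot_iff, ← h1]
  exact Subgroup.lowerCentralSeries_antitone _ (by omega)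

end Cfsg.Agent.S3872
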