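import Cfsg.Statements.S3873
import Mathlib
import Cfsg.Agent.H2.MinPC

set_option autoImplicit false
open Cfsg

namespace Cfsg.Agent.S3873

universe u

open Subgroup Cfsg.Agent.Lib.Basic
open scoped Pointwise commutatorElement

theorem centralizes {G : Type u} [Group G] [Finite G] {p : ℕ} [Fact p.Prime] {Q : Subgroup G} {x : G} (hQ : (Nat.card Q).Coprime p)
    (hx : orderOf x = p) (hxQ : x ∈ normalizer (Q : Set G))
    (hcl : ∃ H : Subgroup ↥(Q ⊔ zpowers x), (H : Set ↥(Q ⊔ zpowers x)) = {g : ↥(Q ⊔ zpowers x) | g ^ p = 1}) :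
    x ∈ centralizer (Q : Set G) := by
  obtain ⟨S, hS⟩ := hcl
  have hS' : ∀ g, g ∈ S ↔ g ^ p = 1 := fun g => by rw [← SetLike.mem_coe, hS]; rfl
  have hxH : x ∈ Q ⊔ zpowers x := mem_sup_right (mem_zpowers x)
  have hxp : x ^ p = 1 := by rw [← hx]; exact pow_orderOf_eq_one x
  rw [mem_centralizer_iff]
  intro y hy
  have hyH : y ∈ Q ⊔ zpowers x := mem_sup_left hy
  have hxS : (⟨x, hxH⟩ : ↥(Q ⊔ zpowers x)) ∈ S := (hS' _).2 (Subtype.ext hxp)
  have h0 : (⟨y, hyH⟩ * ⟨x, hxH⟩⁻¹ * ⟨y, hyH⟩⁻¹ : ↥(Q ⊔ zpowers x)) ∈ S := by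
    rw [hS', conj_pow, inv_pow]
    have : (⟨x, hxH⟩ : ↥(Q ⊔ zpowers x)) ^ p = 1 := Subtype.ext hxp
    rw [this]; simp
  have h1 := (hS' _).1 (mul_mem hxS h0)
  have h1' : (x * (y * x⁻¹ * y⁻¹)) ^ p = 1 := congrArg Subtype.val h1
  have h2 : x * (y * x⁻¹ * y⁻¹) ∈ Q := by
    have h3 := (mem_normalizer_iff.1 hxQ y).1 hy
    have h4 : x * (y * x⁻¹ * y⁻¹) = (x * y * x⁻¹) * y⁻¹ := by group
    rw [h4]
    exact Q.mul_mem h3 (Q.inv_mem hy)
  have h3 : x * (y * x⁻¹ * y⁻¹) = 1 := by
    have h5 : orderOf (x * (y * x⁻¹ * y⁻¹)) ∣ p := orderOf_dvd_of_pow_eq_one h1'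
    have h6 : orderOf (⟨_, h2⟩ : Q) ∣ Nat.card Q := _root_.orderOf_dvd_natCard _
    rw [Subgroup.orderOf_mk] at h6
    exact orderOf_eq_one_iff.1 (Nat.eq_one_of_dvd_coprimes hQ h6 h5)
  have h4 : x * y * x⁻¹ * y⁻¹ = 1 := by rw [← h3]; group
  have h5 : x * y = y * x := by
    rw [mul_inv_eq_one, mul_inv_eq_iff_eq_mul] at h4
    exact h4
  exact h5.symm

/-- Say that a finite group is p-exponent closed when its elements of order dividing p form a subgroup. Let G be a finite group that is not p-exponent closed, but all of whose proper subgroups and proper quotients are, and suppose G is neither simple nor a p-group. Then there is a prime q ≠ p such that G has order p · q^e, where e is the multiplicative order of q modulo p, and G has a normal elementary abelian subgroup of order q^e that is a minimal normal subgroup of G. -/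
theorem result {G : Type*} [Group G] [Finite G] {p : ℕ} [Fact p.Prime]
    (hnc : ¬ (∃ H : Subgroup G, (H : Set G) = {g : G | g ^ p = 1})) (hsub : ∀ K : Subgroup G, K ≠ ⊤ → (∃ H : Subgroup ↥K, (H : Set ↥K) = {g : ↥K | g ^ p = 1}))
    (hquo : ∀ (N : Subgroup G) [N.Normal], N ≠ ⊥ → (∃ H : Subgroup (G ⧸ N), (H : Set (G ⧸ N)) = {g : (G ⧸ N) | g ^ p = 1}))
    (hns : ¬ IsSimpleGroup G) (hnp : ¬ IsPGroup p G) :
    ∃ q : ℕ, q.Prime ∧ q ≠ p ∧ Nat.card G = p * q ^ orderOf (q : ZMod p) ∧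
      ∃ A : Subgroup G, A.Normal ∧ Nat.card ↥A = q ^ orderOf (q : ZMod p) ∧ Cfsg.IsElementaryAbelian q A ∧
        ∀ B : Subgroup G, B.Normal → B ≤ A → B = ⊥ ∨ B = A := by
  open Subgroup in
  have hp : p.Prime := Fact.out
  -- two generators
  obtain ⟨a, b, ha, hb, hab⟩ : ∃ a b : G, a ^ p = 1 ∧ b ^ p = 1 ∧ (a * b) ^ p ≠ 1 := by
    by_contra hcon
    push Not at hcon
    apply hnc
    exact ⟨{ carrier := {g : G | g ^ p = 1}
             one_mem' := one_pow p
             mul_mem' := fun {a b} ha hb => hcon a b ha hb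
             inv_mem' := fun {a} ha => by
              show a⁻¹ ^ p = 1
              rw [inv_pow, show a ^ p = 1 from ha, inv_one] }, rfl⟩
  have hgen : closure {a, b} = (⊤ : Subgroup G) := by
    by_contra hne
    obtain ⟨S, hS⟩ := hsub _ hne
    have hS' : ∀ g, g ∈ S ↔ g ^ p = 1 := fun g => by rw [← SetLike.mem_coe, hS]; rfl
    have h1 : (⟨a, subset_closure (by simp)⟩ : ↥(closure {a, b})) ∈ S := (hS' _).2 (Subtype.ext ha)
    have h2 : (⟨b, subset_closure (by simp)⟩ : ↥(closure {a, b})) ∈ S := (hS' _).2 (Subtype.ext hb)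
    exact hab (congrArg Subtype.val ((hS' _).1 (mul_mem h1 h2)))
  have hquop : ∀ N : Subgroup G, N.Normal → N ≠ ⊥ → ∀ g : G, g ^ p ∈ N := by
    intro N hN hN1 g
    obtain ⟨S, hS⟩ := hquo N hN1
    have hS' : ∀ g, g ∈ S ↔ g ^ p = 1 := fun g => by rw [← SetLike.mem_coe, hS]; rfl
    have h1 : (⊤ : Subgroup G) ≤ S.comap (QuotientGroup.mk' N) := by
      rw [← hgen, closure_le]
      intro z hz
      rcases hz with rfl | hz
      · show (QuotientGroup.mk' N) z ∈ S
        rw [hS', ← map_pow, ha, map_one]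
      · have hz' : z = b := hz
        rw [hz']
        show (QuotientGroup.mk' N) b ∈ S
        rw [hS', ← map_pow, hb, map_one]
    have h2 : (QuotientGroup.mk' N) g ∈ S := h1 (mem_top g)
    rw [hS', ← map_pow] at h2
    exact (QuotientGroup.eq_one_iff _).1 h2
  -- `O_p(G) = 1`
  have hcore : Cfsg.pCore p G = ⊥ := by
    by_contra hne
    apply hnp
    intro g
    have h1 := hquop _ (Cfsg.Agent.Lib.Cores.pCore_normal p) hne g
    obtain ⟨k, hk⟩ := Cfsg.Agent.Lib.Cores.pCore_isPGroup (G := G) p ⟨_, h1⟩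
    refine ⟨k + 1, ?_⟩
    have h2 : (g ^ p) ^ p ^ k = 1 := congrArg Subtype.val hk
    rw [← pow_mul, ← pow_succ'] at h2
    exact h2
  have ha1 : a ≠ 1 := by
    rintro rfl
    exact hab (by rw [one_mul]; exact hb)
  have hx : orderOf a = p := orderOf_eq_prime ha ha1
  have hprop : ∀ N : Subgroup G, N.Normal → N ≠ ⊤ → ¬ p ∣ Nat.card N := by
    intro N hN hNt hd
    obtain ⟨S, hS⟩ := hsub N hNt
    have hS' : ∀ g, g ∈ S ↔ g ^ p = 1 := fun g => by rw [← SetLike.mem_coe, hS]; rfl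
    have h1 : (S.map N.subtype).Normal := by
      refine ⟨?_⟩
      rintro _ ⟨s, hs, rfl⟩ g
      refine ⟨⟨g * s * g⁻¹, hN.conj_mem s s.2 g⟩, ?_, rfl⟩
      have h3 : s ^ p = 1 := (hS' s).1 hs
      have h4 : (s : G) ^ p = 1 := congrArg Subtype.val h3
      apply (hS' _).2
      apply Subtype.ext
      show (g * s * g⁻¹) ^ p = 1
      rw [conj_pow, h4, mul_one, mul_inv_cancel]
    have h2 : IsPGroup p (S.map N.subtype) := by
      rintro ⟨_, s, hs, rfl⟩
      refine ⟨1, ?_⟩
      apply Subtype.ext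
      have h3 : s ^ p = 1 := (hS' s).1 hs
      have h4 : (s : G) ^ p = 1 := congrArg Subtype.val h3
      rw [pow_one]
      exact h4
    have h3 := Cfsg.Agent.Lib.Cores.le_pCore h1 h2
    rw [hcore, le_bot_iff] at h3
    obtain ⟨y, hy⟩ := exists_prime_orderOf_dvd_card' (G := N) p hd
    have h4 : y ∈ S := (hS' y).2 (by rw [← hy]; exact pow_orderOf_eq_one y)
    have h5 : (y : G) ∈ S.map N.subtype := ⟨y, h4, rfl⟩
    rw [h3, mem_bot] at h5
    have h6 : y = 1 := Subtype.ext h5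
    rw [h6, orderOf_one] at hy
    exact hp.one_lt.ne hy
  haveI hGn : Nontrivial G := ⟨⟨a, 1, ha1⟩⟩
  obtain ⟨N, hNn, hN1, hNt⟩ : ∃ N : Subgroup G, N.Normal ∧ N ≠ ⊥ ∧ N ≠ ⊤ := by
    by_contra hcon
    push Not at hcon
    apply hns
    exact ⟨fun N hN => by
      by_cases h : N = ⊥
      · exact Or.inl h
      · exact Or.inr (hcon N hN h)⟩
  have hNp : (Nat.card N).Coprime p := by
    rw [Nat.coprime_comm, hp.coprime_iff_not_dvd]
    exact hprop N hNn hNt
  apply Cfsg.Agent.H2.MinPC.struct hp hN1 hNp hx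
  · intro B hB hB1 hBN hxB
    have h1 : p ∣ Nat.card (centralizer (B : Set G)) := by
      have h2 : orderOf (⟨a, hxB⟩ : centralizer (B : Set G)) ∣ _ := _root_.orderOf_dvd_natCard _
      rwa [Subgroup.orderOf_mk, hx] at h2
    have h2 : centralizer (B : Set G) = ⊤ := by
      by_contra hne
      exact hprop _ inferInstance hne h1
    obtain ⟨P⟩ : Nonempty (Sylow p G) := inferInstance
    -- `G = B P`
    have hq : IsPGroup p (G ⧸ B) := by
      intro g
      obtain ⟨g, rfl⟩ := QuotientGroup.mk_surjective g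
      refine ⟨1, ?_⟩
      rw [pow_one, ← QuotientGroup.mk_pow]
      exact (QuotientGroup.eq_one_iff _).2 (hquop B hB hB1 g)
    have h4 : B ⊔ (P : Subgroup G) = ⊤ := by
      rw [← index_eq_one]
      obtain ⟨k, hk⟩ := hq.exists_card_eq
      have h5 : (B ⊔ (P : Subgroup G)).index ∣ p ^ k := by
        rw [← hk]
        exact index_dvd_of_le le_sup_left
      have h6 : (B ⊔ (P : Subgroup G)).index ∣ (P : Subgroup G).index := index_dvd_of_le le_sup_right
      exact Nat.eq_one_of_dvd_coprimes (((hp.coprime_iff_not_dvd).2 P.not_dvd_index).pow_left k) h5 h6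
    have h5 : (P : Subgroup G).Normal := by
      rw [← normalizer_eq_top_iff, eq_top_iff, ← h4]
      apply sup_le _ le_normalizer
      intro b hb
      rw [mem_normalizer_iff]
      intro y
      have h6 : b * y = y * b := by
        have h7 : y ∈ centralizer (B : Set G) := by rw [h2]; exact mem_top y
        exact mem_centralizer_iff.1 h7 b hb
      rw [h6, mul_inv_cancel_right]
    have h6 := Cfsg.Agent.Lib.Cores.le_pCore h5 P.isPGroup'
    rw [hcore, le_bot_iff] at h6
    have h7 : p ∣ Nat.card G := by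
      have : orderOf a ∣ Nat.card G := _root_.orderOf_dvd_natCard a
      rwa [hx] at this
    exact P.ne_bot_of_dvd_card h7 h6
  · intro Q hQN hxQ hne
    exact centralizes (Nat.Coprime.coprime_dvd_left (card_dvd_of_le hQN) hNp) hx hxQ (hsub _ hne)

end Cfsg.Agent.S3873
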