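import Cfsg.Statements.S3889
import Mathlib

set_option autoImplicit false
open Cfsg

namespace Cfsg.Agent.S3889

open Subgroup

/-- A finite abelian group that is the union of a family of proper subgroups any two of which intersect trivially is elementary abelian: its exponent is a prime. -/
theorem result {G : Type*} [CommGroup G] [Finite G] (𝓑 : Set (Subgroup G)) (hprop : ∀ B ∈ 𝓑, B ≠ ⊤)
    (hcov : ∀ g : G, ∃ B ∈ 𝓑, g ∈ B) (hdisj : ∀ B ∈ 𝓑, ∀ C ∈ 𝓑, B ≠ C → B ⊓ C = ⊥) :
    (Monoid.exponent G).Prime := by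
  classical
  have hne : Nontrivial G := by
    obtain ⟨B, hB, _⟩ := hcov 1
    by_contra h
    rw [not_nontrivial_iff_subsingleton] at h
    exact hprop B hB (Subsingleton.elim _ _)
  have hone : (Nat.card G) ≠ 1 := by
    intro h
    have := (Nat.card_eq_one_iff_unique.1 h).1
    exact not_subsingleton G this
  obtain ⟨p, hp, hpd⟩ := Nat.exists_prime_and_dvd hone
  have : Fact p.Prime := ⟨hp⟩
  obtain ⟨x, hx⟩ := exists_prime_orderOf_dvd_card' p hpd
  have hxp : x ^ p = 1 := by rw [← hx]; exact pow_orderOf_eq_one x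
  have hx1 : x ≠ 1 := by
    rintro rfl
    rw [orderOf_one] at hx
    exact hp.one_lt.ne hx
  -- key: if x^p=1, x ≠ 1, x ∈ B, y ∉ B then y^p=1
  have key : ∀ x : G, x ≠ 1 → x ^ p = 1 → ∀ B ∈ 𝓑, x ∈ B → ∀ y, y ∉ B → y ^ p = 1 := by
    intro x hx1 hxp B hB hxB y hy
    by_contra hyp
    obtain ⟨C, hC, hyC⟩ := hcov y
    obtain ⟨D, hD, hD'⟩ := hcov (x * y)
    have h1 : y ^ p ∈ C := C.pow_mem hyC p
    have h2 : y ^ p ∈ D := by
      have := D.pow_mem hD' p
      rwa [mul_pow, hxp, one_mul] at this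
    have h3 : C = D := by
      by_contra hne
      have : y ^ p ∈ C ⊓ D := ⟨h1, h2⟩
      rw [hdisj C hC D hD hne] at this
      exact hyp this
    subst h3
    have h4 : x ∈ C := by
      have := C.mul_mem hD' (C.inv_mem hyC)
      rwa [mul_inv_cancel_right] at this
    have h5 : B = C := by
      by_contra hne
      have : x ∈ B ⊓ C := ⟨hxB, h4⟩
      rw [hdisj B hB C hC hne] at this
      exact hx1 this
    rw [h5] at hy
    exact hy hyC
  obtain ⟨B, hB, hxB⟩ := hcov x
  have h1 := key x hx1 hxp B hB hxB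
  obtain ⟨y, hy⟩ : ∃ y, y ∉ B := by
    by_contra h
    push Not at h
    exact hprop B hB (eq_top_iff.2 fun z _ => h z)
  obtain ⟨C, hC, hyC⟩ := hcov y
  have hy1 : y ≠ 1 := by rintro rfl; exact hy B.one_mem
  have h2 := key y hy1 (h1 y hy) C hC hyC
  have hall : ∀ z : G, z ^ p = 1 := by
    intro z
    by_cases hz : z ∈ B
    · by_cases hz1 : z = 1
      · rw [hz1, one_pow]
      · apply h2
        intro hzC
        have hne : B ≠ C := by rintro rfl; exact hy hyC
        have : z ∈ B ⊓ C := ⟨hz, hzC⟩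
        rw [hdisj B hB C hC hne] at this
        exact hz1 this
    · exact h1 z hz
  have h3 : Monoid.exponent G ∣ p := Monoid.exponent_dvd_of_forall_pow_eq_one hall
  rcases (Nat.dvd_prime hp).1 h3 with h4 | h4
  · exfalso
    exact not_subsingleton G (Monoid.exp_eq_one_iff.1 h4)
  · rw [h4]; exact hp

end Cfsg.Agent.S3889
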