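import Cfsg.Statements.S3893
import Mathlib
import Cfsg.Agent.H8.SuzLabel
import Cfsg.Agent.H8.SuzLie

set_option autoImplicit false
open Cfsg

namespace Cfsg.Agent.S3893

open Cfsg.Agent.H8.Suz in
/-- The key: an injection from points, tori and one more into a nilpotent cover. -/
theorem key {F : Type*} [Field F] [Fintype F] {m : ℕ} (D : Dat F m) {G : Type*} [Group G] (e : G ≃* Cfsg.Sz F m)
    (𝓐 : Finset (Subgroup G)) (hcov : ∀ g : G, ∃ A ∈ 𝓐, g ∈ A) (hnil : ∀ A ∈ 𝓐, Group.IsNilpotent ↥A) :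
    Nat.card (Dat.Om F m ⊕ {C : Subgroup (Cfsg.Sz F m) // ∃ t, Good t ∧ C = Cen t}) + 1 ≤ 𝓐.card := by
  classical
  have hfin : Finite (Cfsg.Sz F m) := inferInstance
  -- representatives
  choose rp hrp1 hrp2 using D.exists_Fx_singleton
  obtain ⟨rh, hrh1, hrh2⟩ := D.exists_Fx_pair
  let r : Option (Dat.Om F m ⊕ {C : Subgroup (Cfsg.Sz F m) // ∃ t, Good t ∧ C = Cen t}) → Cfsg.Sz F m := fun o =>
    match o with
    | none => rh
    | some (Sum.inl p) => rp p
    | some (Sum.inr C) => C.2.choose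
  have hgood : ∀ C : {C : Subgroup (Cfsg.Sz F m) // ∃ t, Good t ∧ C = Cen t}, Good C.2.choose ∧ C.1 = Cen C.2.choose :=
    fun C => C.2.choose_spec
  have hr1 : ∀ o, r o ≠ 1 := by
    rintro (_ | p | C)
    · exact hrh1
    · exact hrp1 p
    · intro h
      have h1 := (hgood C).1.1
      have h2 : orderOf (C.2.choose) = 1 := by
        rw [orderOf_eq_one_iff]; exact h
      rw [h2] at h1
      exact Nat.not_prime_one h1
  have hFxgood : ∀ C : {C : Subgroup (Cfsg.Sz F m) // ∃ t, Good t ∧ C = Cen t}, Fx (r (some (Sum.inr C))) = ∅ := by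
    intro C
    exact Set.eq_empty_of_forall_notMem (fun p hp => D.good_no_fixed (hgood C).1 p hp)
  have hlabel : ∀ o o', Fx (r o) = Fx (r o') → (Fx (r o) = ∅ → Cen (r o) = Cen (r o')) → o = o' := by
    rintro (_ | p | C) (_ | p' | C') h1 h2
    · rfl
    · exfalso
      have h1' : Fx rh = Fx (rp p') := h1
      rw [hrh2, hrp2] at h1'
      have a1 : D.inf = p' := by
        have : D.inf ∈ ({D.inf, D.pt 0 0} : Set (Dat.Om F m)) := Or.inl rfl
        rw [h1'] at this; exact this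
      have a2 : D.pt 0 0 = p' := by
        have : D.pt 0 0 ∈ ({D.inf, D.pt 0 0} : Set (Dat.Om F m)) := Or.inr rfl
        rw [h1'] at this; exact this
      exact D.pt_ne_inf 0 0 (a2.trans a1.symm)
    · exfalso
      have h1' : Fx rh = _ := h1.trans (hFxgood C')
      rw [hrh2] at h1'
      have : D.inf ∈ ({D.inf, D.pt 0 0} : Set (Dat.Om F m)) := Or.inl rfl
      rw [h1'] at this; exact this
    · exfalso
      have h1' : Fx rh = Fx (rp p) := h1.symm
      rw [hrh2, hrp2] at h1'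
      have a1 : D.inf = p := by
        have : D.inf ∈ ({D.inf, D.pt 0 0} : Set (Dat.Om F m)) := Or.inl rfl
        rw [h1'] at this; exact this
      have a2 : D.pt 0 0 = p := by
        have : D.pt 0 0 ∈ ({D.inf, D.pt 0 0} : Set (Dat.Om F m)) := Or.inr rfl
        rw [h1'] at this; exact this
      exact D.pt_ne_inf 0 0 (a2.trans a1.symm)
    · have h1' : Fx (rp p) = Fx (rp p') := h1
      rw [hrp2, hrp2] at h1'
      rw [Set.singleton_injective h1']
    · exfalso
      have h1' : Fx (rp p) = _ := h1.trans (hFxgood C')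
      rw [hrp2] at h1'
      exact Set.singleton_ne_empty _ h1'
    · exfalso
      have h1' : Fx rh = _ := h1.symm.trans (hFxgood C)
      rw [hrh2] at h1'
      have : D.inf ∈ ({D.inf, D.pt 0 0} : Set (Dat.Om F m)) := Or.inl rfl
      rw [h1'] at this; exact this
    · exfalso
      have h1' : Fx (rp p') = _ := h1.symm.trans (hFxgood C)
      rw [hrp2] at h1'
      exact Set.singleton_ne_empty _ h1'
    · have h3 := h2 (hFxgood C)
      congr 2
      apply Subtype.ext
      rw [(hgood C).2, (hgood C').2]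
      exact h3
  choose A hA hgA using fun o => hcov (e.symm (r o))
  have hinj : Function.Injective (fun o => (⟨A o, hA o⟩ : 𝓐)) := by
    intro o o' hoo
    have hAA : A o = A o' := congrArg Subtype.val hoo
    have hmem : e.symm (r o') ∈ A o := by rw [hAA]; exact hgA o'
    have hn := hnil _ (hA o)
    have hnt : Nontrivial (A o) := by
      refine ⟨⟨⟨_, hgA o⟩, 1, ?_⟩⟩
      intro h
      have h1 : e.symm (r o) = 1 := congrArg Subtype.val h
      exact hr1 o (by rw [← e.apply_symm_apply (r o), h1, map_one])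
    have hcnt : Nontrivial (Subgroup.center (A o)) :=
      (Subgroup.nontrivial_iff_ne_bot _).2 (Group.IsNilpotent.center_ne_bot _)
    obtain ⟨z, hz⟩ := exists_ne (1 : Subgroup.center (A o))
    have hz1 : e ((z : A o) : G) ≠ 1 := by
      intro h
      apply hz
      apply Subtype.ext
      apply Subtype.ext
      apply e.injective
      rw [h]; exact (map_one e).symm
    have hzc : ∀ x : G, x ∈ A o → x * ((z : A o) : G) = ((z : A o) : G) * x := by
      intro x hx
      exact congrArg Subtype.val (Subgroup.mem_center_iff.1 z.2 ⟨x, hx⟩)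
    have c1 : r o * e ((z : A o) : G) = e ((z : A o) : G) * r o := by
      have := congrArg e (hzc _ (hgA o))
      rw [map_mul, map_mul, e.apply_symm_apply] at this; exact this
    have c2 : r o' * e ((z : A o) : G) = e ((z : A o) : G) * r o' := by
      have := congrArg e (hzc _ hmem)
      rw [map_mul, map_mul, e.apply_symm_apply] at this; exact this
    obtain ⟨a1, a2⟩ := D.comm_same (hr1 o) hz1 c1
    obtain ⟨b1, b2⟩ := D.comm_same (hr1 o') hz1 c2
    have hF : Fx (r o) = Fx (r o') := a1.trans b1.symm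
    exact hlabel o o' hF (fun h => (a2 h).trans (b2 (by rw [← hF]; exact h)).symm)
  have h1 := Nat.card_le_card_of_injective _ hinj
  rw [Finite.card_option] at h1
  simpa using h1

open Cfsg.Agent.H8.Suz in
theorem key2 {F : Type*} [Field F] [Fintype F] {m : ℕ} (D : Dat F m) {G : Type*} [Group G] (e : G ≃* Cfsg.Sz F m) :
    ∃ 𝓑 : Finset (Subgroup G), (∀ A ∈ 𝓑, A ≠ ⊤) ∧ (∀ g : G, ∃ A ∈ 𝓑, g ∈ A) ∧
      𝓑.card ≤ Nat.card (Dat.Om F m ⊕ {C : Subgroup (Cfsg.Sz F m) // ∃ t, Good t ∧ C = Cen t}) := by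
  classical
  have hfin : Finite (Cfsg.Sz F m) := inferInstance
  have := Fintype.ofFinite (Dat.Om F m ⊕ {C : Subgroup (Cfsg.Sz F m) // ∃ t, Good t ∧ C = Cen t})
  let f : (Dat.Om F m ⊕ {C : Subgroup (Cfsg.Sz F m) // ∃ t, Good t ∧ C = Cen t}) → Subgroup G := fun o =>
    match o with
    | Sum.inl p => (MulAction.stabilizer (Cfsg.Sz F m) p).comap e.toMonoidHom
    | Sum.inr C => C.1.comap e.toMonoidHom
  have hsurj : ∀ K : Subgroup (Cfsg.Sz F m), K.comap e.toMonoidHom = ⊤ → K = ⊤ := by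
    intro K hK
    rw [eq_top_iff]
    intro x _
    have : e.symm x ∈ K.comap e.toMonoidHom := by rw [hK]; trivial
    have h2 : e (e.symm x) ∈ K := this
    rwa [e.apply_symm_apply] at h2
  refine ⟨Finset.univ.image f, ?_, ?_, ?_⟩
  · intro A hA
    obtain ⟨o, -, rfl⟩ := Finset.mem_image.1 hA
    rcases o with p | ⟨C, t, ht, rfl⟩
    · intro h
      have h1 := hsurj _ h
      obtain ⟨g, hg⟩ : ∃ g : Cfsg.Sz F m, g • p ≠ p := by
        by_contra hcon
        push Not at hcon
        obtain ⟨k, hk⟩ := D.trans_inf p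
        obtain ⟨k', hk'⟩ := D.trans_inf (D.pt 0 0)
        have e1 : p = D.inf := (hcon k⁻¹).symm.trans (by rw [hk, inv_smul_smul])
        have e2 : p = D.pt 0 0 := (hcon k').symm.trans (by rw [e1]; exact hk'.symm)
        exact D.pt_ne_inf 0 0 (e2.symm.trans e1)
      have : g ∈ MulAction.stabilizer (Cfsg.Sz F m) p := by rw [h1]; trivial
      exact hg this
    · intro h
      have h1 := hsurj _ h
      obtain ⟨x, hx1, hx⟩ := D.exists_Fx_singleton D.inf
      have h1' : Cen t = ⊤ := h1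
      have hxt : x ∈ Cen t := by rw [h1']; trivial
      have h2 := D.good_no_fixed_of_comm ht (mem_cen.1 hxt) hx1 D.inf
      have : D.inf ∈ Fx x := by rw [hx]; rfl
      exact h2 this
  · intro g
    by_cases hfix : ∃ p : Dat.Om F m, e g • p = p
    · obtain ⟨p, hp⟩ := hfix
      exact ⟨f (Sum.inl p), Finset.mem_image_of_mem _ (Finset.mem_univ _), hp⟩
    · push Not at hfix
      obtain ⟨t, ht, hgt⟩ := D.mem_good hfix
      exact ⟨f (Sum.inr ⟨Cen t, t, ht, rfl⟩), Finset.mem_image_of_mem _ (Finset.mem_univ _), hgt⟩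
  · refine Finset.card_image_le.trans ?_
    rw [Finset.card_univ, Nat.card_eq_fintype_card]

/-- A cover of a group is a finite set of proper subgroups whose union is the whole group; it is minimal when no cover has fewer members, and nilpotent when all its members are nilpotent. The Suzuki groups Sz(q), q = 2^(2m+1) with m ≥ 1, have no nilpotent minimal cover. -/
theorem result {F : Type*} [Field F] [Fintype F] (m : ℕ) (hm : 1 ≤ m) (hF : Fintype.card F = 2 ^ (2 * m + 1)) :
    ¬ ∃ 𝓐 : Finset (Subgroup ↥(Cfsg.Lie.Sz F (2 ^ (m + 1)))), ((∀ A ∈ 𝓐, A ≠ ⊤) ∧ (∀ g : ↥(Cfsg.Lie.Sz F (2 ^ (m + 1))), ∃ A ∈ 𝓐, g ∈ A)) ∧ (∀ 𝓑 : Finset (Subgroup ↥(Cfsg.Lie.Sz F (2 ^ (m + 1)))), (∀ A ∈ 𝓑, A ≠ ⊤) ∧ (∀ g : ↥(Cfsg.Lie.Sz F (2 ^ (m + 1))), ∃ A ∈ 𝓑, g ∈ A) → 𝓐.card ≤ 𝓑.card) ∧ (∀ A ∈ 𝓐, Group.IsNilpotent ↥A) := by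
  obtain ⟨D⟩ := Cfsg.Agent.H8.Suz.exists_dat hm hF
  obtain ⟨e⟩ := D.LieSz_equiv
  rintro ⟨𝓐, ⟨h1, h2⟩, h3, h4⟩
  obtain ⟨𝓑, hB1, hB2, hB3⟩ := key2 D e
  have h5 := h3 𝓑 ⟨hB1, hB2⟩
  have h6 := key D e 𝓐 h2 h4
  omega

end Cfsg.Agent.S3893
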