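import Cfsg.Statements.S4113
import Mathlib
import Cfsg.Agent.Lib.ClassSizes

set_option autoImplicit false
open Cfsg

namespace Cfsg.Agent.S4113

/-- Let G be a finite group, M ≤ N non-trivial proper normal subgroups, and H a subgroup with HM = G and H ∩ M = 1. Then every element of G outside N acts fixed-point-freely on M (C_G(x) ≤ N for every x ∈ M, x ≠ 1) if and only if H ∩ gHg⁻¹ ≤ H ∩ N for every g outside H, with H proper and non-trivial and H ∩ N proper in H. -/
theorem result {G : Type*} [Group G] [Finite G] (N M : Subgroup G) [N.Normal] [M.Normal] (hMN : M ≤ N) (hM1 : M ≠ ⊥) (hN2 : N ≠ ⊤)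
    (H : Subgroup G) (hHM : H ⊔ M = ⊤) (hHM' : H ⊓ M = ⊥) :
    (∀ x ∈ M, x ≠ 1 → Subgroup.centralizer ({x} : Set G) ≤ N) ↔
      (H ≠ ⊥ ∧ H ≠ ⊤ ∧ H ⊓ N < H ∧ ∀ g : G, g ∉ H → H ⊓ H.map (MulAut.conj g).toMonoidHom ≤ N) := by
  have hmem : ∀ (g x : G), x ∈ H.map (MulAut.conj g).toMonoidHom ↔ g⁻¹ * x * g ∈ H := by
    intro g x
    constructor
    · rintro ⟨y, hy, rfl⟩
      have : g⁻¹ * ((MulAut.conj g).toMonoidHom y) * g = y := by
        change g⁻¹ * (g * y * g⁻¹) * g = y
        group
      rw [this]; exact hy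
    · intro h
      refine ⟨_, h, ?_⟩
      change g * (g⁻¹ * x * g) * g⁻¹ = x
      group
  have hdec : ∀ g : G, ∃ h ∈ H, ∃ m ∈ M, g = h * m := by
    intro g
    have : g ∈ H ⊔ M := by rw [hHM]; trivial
    rw [← SetLike.mem_coe, Subgroup.mul_normal H M] at this
    obtain ⟨h, hh, m, hm, rfl⟩ := this
    exact ⟨h, hh, m, hm, rfl⟩
  have hbot : ∀ x, x ∈ H → x ∈ M → x = 1 := by
    intro x h1 h2
    have : x ∈ H ⊓ M := ⟨h1, h2⟩
    rwa [hHM', Subgroup.mem_bot] at this
  constructor
  · intro hF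
    have hHN : ¬ H ≤ N := by
      intro hle
      apply hN2
      rw [eq_top_iff, ← hHM]
      exact sup_le hle hMN
    refine ⟨?_, ?_, ?_, ?_⟩
    · rintro rfl; exact hHN bot_le
    · rintro rfl
      apply hM1
      rwa [top_inf_eq] at hHM'
    · refine lt_of_le_of_ne inf_le_left ?_
      intro h
      exact hHN (inf_eq_left.1 h)
    · intro g hg x hx
      obtain ⟨hx1, hx2⟩ := hx
      change x ∈ H.map (MulAut.conj g).toMonoidHom at hx2
      rw [hmem] at hx2
      obtain ⟨h, hh, m, hm, rfl⟩ := hdec g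
      have hm1 : m ≠ 1 := by
        rintro rfl
        apply hg; simpa using hh
      set y := h⁻¹ * x * h with hy
      have hyH : y ∈ H := H.mul_mem (H.mul_mem (H.inv_mem hh) hx1) hh
      have h2 : m⁻¹ * y * m ∈ H := by
        have e : (h * m)⁻¹ * x * (h * m) = m⁻¹ * y * m := by rw [hy]; group
        rw [← e]; exact hx2
      have h3 : y⁻¹ * (m⁻¹ * y * m) = 1 := by
        apply hbot
        · exact H.mul_mem (H.inv_mem hyH) h2
        · have : y⁻¹ * (m⁻¹ * y * m) = (y⁻¹ * m⁻¹ * y) * m := by group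
          rw [this]
          refine M.mul_mem ?_ hm
          have := (inferInstance : M.Normal).conj_mem m⁻¹ (M.inv_mem hm) y⁻¹
          rwa [inv_inv] at this
      have h4 : y ∈ Subgroup.centralizer ({m} : Set G) := by
        rw [Subgroup.mem_centralizer_iff]
        intro z hz
        rw [Set.mem_singleton_iff] at hz
        subst hz
        rw [inv_mul_eq_one] at h3
        calc z * y = z * (z⁻¹ * y * z) := by rw [← h3]
          _ = y * z := by group
      have h5 : y ∈ N := hF m hm hm1 h4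
      have h6 := (inferInstance : N.Normal).conj_mem y h5 h
      have h7 : h * y * h⁻¹ = x := by rw [hy]; group
      rwa [h7] at h6
  · rintro ⟨hH1, hH2, hlt, hfw⟩ x hx hx1 c hc
    have hcx : x * c = c * x := by
      rw [Subgroup.mem_centralizer_iff] at hc
      exact hc x rfl
    by_contra hcN
    obtain ⟨h, hh, m, hm, rfl⟩ := hdec c
    have hhN : h ∉ N := fun h0 => hcN (N.mul_mem h0 (hMN hm))
    have key : ∀ u ∈ M, u * h = h * u → u = 1 := by
      intro u hu huh
      by_contra hu1
      have huH : u ∉ H := fun h0 => hu1 (hbot u h0 hu)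
      apply hhN
      apply hfw u huH
      refine ⟨hh, ?_⟩
      change h ∈ H.map (MulAut.conj u).toMonoidHom
      rw [hmem]
      have : u⁻¹ * h * u = h := by rw [mul_assoc, ← huh]; group
      rw [this]; exact hh
    obtain ⟨u, hu, huc⟩ := Cfsg.Agent.Lib.ClassSizes.exists_conj_of_coset M h key hm
    rw [← huc] at hcx
    have h8 : (u⁻¹ * x * u) * h = h * (u⁻¹ * x * u) := by
      calc (u⁻¹ * x * u) * h = u⁻¹ * (x * (u * h * u⁻¹)) * u := by group
        _ = _ := by rw [hcx]; group
    have h9 : u⁻¹ * x * u ∈ M := by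
      have := (inferInstance : M.Normal).conj_mem x hx u⁻¹
      rwa [inv_inv] at this
    have h10 := key _ h9 h8
    apply hx1
    have : u * (u⁻¹ * x * u) * u⁻¹ = x := by group
    rw [← this, h10]; group

end Cfsg.Agent.S4113
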