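import Cfsg.Statements.S4347
import Mathlib
import Cfsg.Agent.H3.Sylow

set_option autoImplicit false
open Cfsg

namespace Cfsg.Agent.S4347

open Cfsg.Agent.H3.Sylow

/-- Let G be a finite group and p a prime. Say a Sylow p-subgroup Q is redundant when every element of p-power order lies in some Sylow p-subgroup other than Q. Then G has no redundant Sylow p-subgroup if and only if some element of p-power order lies in exactly one Sylow p-subgroup. -/
theorem result {G : Type*} [Group G] [Finite G]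
    (p : ℕ) [Fact p.Prime] :
    (¬ ∃ Q : Sylow p G, ∀ x : G, (∃ k : ℕ, orderOf x = p ^ k) → ∃ P : Sylow p G, P ≠ Q ∧ x ∈ P) ↔
      ∃ x : G, (∃ k : ℕ, orderOf x = p ^ k) ∧ ∃! P : Sylow p G, x ∈ P := by
  constructor
  · intro h
    obtain ⟨Q⟩ := (inferInstance : Nonempty (Sylow p G))
    by_contra hcon
    apply h
    refine ⟨Q, fun x hx => ?_⟩
    by_contra hx2
    apply hcon
    refine ⟨x, hx, ?_⟩
    obtain ⟨P, hP⟩ := exists_sylow_mem hx
    have hPQ : ∀ R : Sylow p G, x ∈ R → R = Q := by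
      intro R hR
      by_contra hne
      exact hx2 ⟨R, hne, hR⟩
    refine ⟨P, hP, fun R hR => ?_⟩
    rw [hPQ R hR, hPQ P hP]
  · rintro ⟨x, ⟨k, hk⟩, P, hP, hu⟩ ⟨Q, hQ⟩
    obtain ⟨g, hg⟩ := MulAction.exists_smul_eq G P Q
    obtain ⟨R, hR, hxR⟩ := hQ (g * x * g⁻¹) ⟨k, by
      have := orderOf_injective (MulAut.conj g).toMonoidHom (MulAut.conj g).injective x
      simp only [MulEquiv.toMonoidHom_eq_coe, MonoidHom.coe_coe, MulAut.conj_apply] at this
      rw [this, hk]⟩
    apply hR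
    have h1 : x ∈ (g⁻¹ • R : Sylow p G) := by
      rw [← SetLike.mem_coe, Sylow.coe_smul, Set.mem_smul_set_iff_inv_smul_mem]
      have e : (MulAut.conj g⁻¹)⁻¹ • x = g * x * g⁻¹ := by
        rw [← map_inv, inv_inv]; rfl
      change (MulAut.conj g⁻¹)⁻¹ • x ∈ _
      rw [e]; exact hxR
    have h2 := hu _ h1
    rw [← hg, ← h2, smul_inv_smul]

end Cfsg.Agent.S4347
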