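import Cfsg.Statements.S4348
import Mathlib
import Cfsg.Agent.H3.Sylow
import Cfsg.Agent.Lib.Cores

set_option autoImplicit false
open Cfsg

namespace Cfsg.Agent.S4348

open Cfsg.Agent.H3.Sylow Cfsg.Agent.Lib.Cores

/-- Let G be a finite group, p a prime and P a Sylow p-subgroup of G, and let O_p(G) be the largest normal p-subgroup of G. If P/O_p(G) is cyclic, then some element of p-power order of G lies in exactly one Sylow p-subgroup. -/
theorem result {G : Type*} [Group G] [Finite G]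
    (p : ℕ) [Fact p.Prime] (P : Sylow p G)
    [hn : ((Cfsg.pCore p G).subgroupOf (P : Subgroup G)).Normal]
    (hc : IsCyclic ((P : Subgroup G) ⧸ (Cfsg.pCore p G).subgroupOf (P : Subgroup G))) :
    ∃ x : G, (∃ k : ℕ, orderOf x = p ^ k) ∧ ∃! Q : Sylow p G, x ∈ Q := by
  obtain ⟨y, hy⟩ := hc.exists_generator
  obtain ⟨x, rfl⟩ := QuotientGroup.mk_surjective y
  refine ⟨x, exists_orderOf_of_mem P x.2, P, x.2, fun Q hQ => ?_⟩
  have h1 : (P : Subgroup G) ≤ Q := by
    intro z hz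
    obtain ⟨n, hn⟩ := hy (QuotientGroup.mk (⟨z, hz⟩ : (P : Subgroup G)))
    have h2 : (x ^ n)⁻¹ * (⟨z, hz⟩ : (P : Subgroup G)) ∈ (Cfsg.pCore p G).subgroupOf (P : Subgroup G) := by
      rw [← QuotientGroup.eq, ← hn, QuotientGroup.mk_zpow]
    have h3 : ((x : G) ^ n)⁻¹ * z ∈ Cfsg.pCore p G := h2
    have h4 := pCore_le_sylow Q h3
    have h5 : z = (x : G) ^ n * (((x : G) ^ n)⁻¹ * z) := by group
    rw [h5]
    exact (Q : Subgroup G).mul_mem ((Q : Subgroup G).zpow_mem hQ n) h4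
  exact Sylow.ext (P.is_maximal' Q.2 h1)

end Cfsg.Agent.S4348
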