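import Cfsg.Statements.S5191
import Cfsg.Agent.Lib.FusGroup

set_option autoImplicit false
open Cfsg
open Cfsg.Agent.Lib.FusBase Cfsg.Agent.Lib.FusGroup Cfsg.Agent.Lib.SylRel Cfsg.FusionSystem

namespace Cfsg.Agent.S5191

/-- Fusion in a finite group G and in its quotient by O_{p'}(G) agree. Let S be a Sylow p-subgroup of G, N = O_{p'}(G) and P ≤ S. If an element of G/N conjugates the image of P into the image of S, then some element g of G conjugates P into S and induces the same map on P modulo N. (Together with the injectivity of S → G/N this says that g ↦ gN induces an isomorphism of the fusion system of G on S with that of G/N on SN/N.) -/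
theorem result {G : Type*} [Group G] [Finite G] {p : ℕ} [Fact p.Prime]
    [hN : (Cfsg.pPrimeCore p G).Normal] (S : Sylow p G) (P : Subgroup G) (hP : P ≤ (S : Subgroup G))
    (γ : G ⧸ Cfsg.pPrimeCore p G)
    (hγ : ∀ x ∈ P, γ * QuotientGroup.mk x * γ⁻¹ ∈ ((S : Subgroup G).map (QuotientGroup.mk' (Cfsg.pPrimeCore p G)))) :
    ∃ g : G, ∀ x ∈ P, g * x * g⁻¹ ∈ S ∧
      (QuotientGroup.mk (g * x * g⁻¹) : G ⧸ Cfsg.pPrimeCore p G) = γ * QuotientGroup.mk x * γ⁻¹ := by
  obtain ⟨g, rfl⟩ := QuotientGroup.mk_surjective γ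
  have hΔ : (⊤ : Subgroup G) ≤ Subgroup.normalizer ((pPrimeCore p G : Subgroup G) : Set G) := by
    rw [Subgroup.normalizer_eq_top_iff.2 hN]
  have hX : P.map (MulAut.conj g).toMonoidHom ≤ (S : Subgroup G) ⊔ pPrimeCore p G := by
    rw [map_conj_le]
    intro x hx
    obtain ⟨s, hs, hsx⟩ := hγ x hx
    have h1 : (QuotientGroup.mk s : G ⧸ pPrimeCore p G) = QuotientGroup.mk (g * x * g⁻¹) := hsx
    have h2 : s⁻¹ * (g * x * g⁻¹) ∈ pPrimeCore p G := QuotientGroup.eq.1 h1
    have h3 := Subgroup.mul_mem_sup hs h2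
    simpa using h3
  obtain ⟨d, hd, h1⟩ := (sylIn_of_sylow S).conj_into le_top hΔ hX ((S.2.to_le hP).map _)
  refine ⟨d * g, fun x hx => ?_⟩
  have h2 := h1 (g * x * g⁻¹) ⟨x, hx, rfl⟩
  have e : d * (g * x * g⁻¹) * d⁻¹ = (d * g) * x * (d * g)⁻¹ := by group
  rw [e] at h2
  refine ⟨h2, ?_⟩
  have hd1 : (QuotientGroup.mk d : G ⧸ pPrimeCore p G) = 1 := (QuotientGroup.eq_one_iff d).2 hd
  simp only [QuotientGroup.mk_mul, QuotientGroup.mk_inv, hd1, one_mul]

end Cfsg.Agent.S5191
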