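import Cfsg.Statements.S5192
import Cfsg.Agent.Lib.YoshD

set_option autoImplicit false
open Cfsg
open Cfsg.FusionSystem Cfsg.Agent.Lib.FusBase Cfsg.Agent.Lib.FusSat Cfsg.Agent.Lib.FusHyp Cfsg.Agent.Lib.YoshD

namespace Cfsg.Agent.S5192

/-- A Thompson-type transfer for saturated fusion systems. Let F be a saturated fusion system on a finite 2-group S, T a subgroup of S of index 2, and i an involution of S such that every fully normalized F-conjugate of i lies in S but outside T. Then i does not lie in the hyperfocal subgroup of F (the Sylow group of the 2-residual subsystem). -/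
theorem result {Ω : Type*} [Group Ω] [Finite Ω] {S : Subgroup Ω}
    (hS : IsPGroup 2 ↥S) (F : Cfsg.FusionSystem S) (hF : F.IsSaturated 2)
    (T : Subgroup Ω) (hTS : T ≤ S) (hT : T.relIndex S = 2)
    (i : Ω) (hi : i ∈ S) (hi2 : orderOf i = 2)
    (h : ∀ j : Ω, F.IsConjElt i j → F.IsFullyNormalized (Subgroup.zpowers j) → j ∉ T) :
    i ∉ F.hyperfocalSubgroup 2 := by
  intro hhyp
  have hle : F.hyperfocalSubgroup 2 ≤ F.focalSubgroup := by
    rw [foc_eq hS hF]; exact le_sup_left
  haveI : Finite S := inferInstance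
  refine thompson hS hF hTS hT ⟨i, hi⟩ ?_ ?_ (hle hhyp)
  · rw [← hi2, ← Subgroup.orderOf_coe]
  · rintro j ⟨f, hf, hfi⟩ hfn
    refine h j ?_ hfn
    obtain ⟨φ, hφ, hφf⟩ := hf
    exact ⟨φ, hφ, (hφf _).trans hfi⟩

end Cfsg.Agent.S5192
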