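import Cfsg.Statements.S5299
import Cfsg.Agent.Lib.Involve

set_option autoImplicit false
universe u
open Cfsg
open Cfsg.Agent.Lib.Involve

namespace Cfsg.Agent.S5299

/-- Let F be a saturated fusion system over a finite p-group S, H a finite group and Q a p-subgroup of H. If Q is not involved in S (no section of S is isomorphic to Q), then F is H-free: H is involved in no model of the normalizer system of a fully normalized centric subgroup. -/
theorem result {Ω : Type u} [Group Ω] {S : Subgroup Ω} [Finite S] (p : ℕ) [Fact p.Prime] (hS : IsPGroup p S)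
    (F : Cfsg.FusionSystem S) (hF : F.IsSaturated p) (H : Type*) [Group H] [Finite H] (Q : Subgroup H) (hQ : IsPGroup p Q)
    (hfree : ¬ Cfsg.Involves (↥Q) (↥S)) : F.IsSectionFree p H := by
  intro R hR hRc N hN L _ ι hM hinv
  apply hfree
  obtain ⟨hfinL, hr, ⟨T, hT⟩, -⟩ := hM
  have h1 : Involves (↥Q) L := involves_trans (involves_subgroup Q) hinv
  have h2 := involves_sylow hQ h1 T
  have h3 : Involves (T : Subgroup L) (FusionSystem.normalizerIn S R) := by
    have e : ι.range ≃* (FusionSystem.normalizerIn S R) := (MonoidHom.ofInjective hr.1).symm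
    exact involves_trans (involves_equiv (MulEquiv.subgroupCongr hT)) (involves_equiv e)
  have h4 : Involves (FusionSystem.normalizerIn S R) S := involves_of_inj (Subgroup.inclusion (inf_le_left : S ⊓ _ ≤ S)) (Subgroup.inclusion_injective _)
  exact involves_trans (involves_trans h2 h3) h4

end Cfsg.Agent.S5299
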