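import Cfsg.Statements.S5522
import Cfsg.Agent.Lib.Golay.FixCount
import Cfsg.Agent.Lib.Golay.SimpleD

set_option autoImplicit false
open Cfsg

namespace Cfsg.Agent.S5522

open Cfsg Cfsg.Agent.Lib.Golay

/-- The Mathieu group M₁₁, realised as the stabiliser of one point of the dodecad of squares inside the stabiliser M₁₂ of that dodecad in M₂₄, acts on the twelve coordinate positions outside the dodecad of squares (its 3-transitive action of degree 12); in this action every element of prime order fixes a point, i.e. the action is elusive. -/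
theorem result (g : Equiv.Perm Cfsg.GolayPt) (hg : g ∈ Cfsg.Spor.M11) (hord : (orderOf g).Prime) :
    ∃ x : Cfsg.GolayPt, x ∉ Cfsg.Spor.squareDodecad ∧ g x = x := by
  open scoped Pointwise in
  have hsq : Cfsg.Spor.squareDodecad = st dodU := by decide +kernel
  have hd : Cfsg.Spor.squareDodecad ∈ Cfsg.dodecads := by rw [hsq]; exact dodU_mem
  have hgM : g ∈ Cfsg.M24 := hg.1.1
  have hg1 : g • Cfsg.Spor.squareDodecad = Cfsg.Spor.squareDodecad := hg.1.2
  have hg0 : g (some 0) = some 0 := hg.2
  have h1 : g ≠ 1 := by rintro rfl; rw [orderOf_one] at hord; exact absurd hord (by norm_num)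
  -- the complement and the permutation induced on it
  have hcard : Nat.card ↥Cfsg.Spor.M11 = 7920 := by
    have : Cfsg.Spor.M11 = m11 := by
      unfold Cfsg.Spor.M11 Cfsg.Spor.M12 m11
      rw [hsq]; rfl
    rw [this, card_m11]
  have hdvd : orderOf g ∣ 7920 := by
    rw [← hcard, ← Subgroup.orderOf_mk g hg]
    exact orderOf_dvd_natCard _
  by_contra hno
  push Not at hno
  have hin : ∀ x, g x = x → x ∈ Cfsg.Spor.squareDodecad := by
    intro x hx; by_contra h; exact hno x h hx
  have hfixle : nfix g ≤ 4 := by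
    by_contra h
    push Not at h
    obtain ⟨x, hx1, hx2⟩ := exists_seq5 (s := Finset.univ.filter fun p => g p = p) (n := 5) h
    apply h1
    refine eq_one_of_dodecad hd hx2 (fun i hi => hin _ (Finset.mem_filter.1 (hx1 i hi)).2) hgM hg1
      (fun i hi => (Finset.mem_filter.1 (hx1 i hi)).2)
  have hfixpos : 0 < nfix g := Finset.card_pos.2 ⟨some 0, Finset.mem_filter.2 ⟨Finset.mem_univ _, hg0⟩⟩
  have hp : orderOf g = 2 ∨ orderOf g = 3 ∨ orderOf g = 5 ∨ orderOf g = 11 := by
    have h2 : (7920 : ℕ) = 2 ^ 4 * 3 ^ 2 * 5 * 11 := by norm_num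
    rw [h2] at hdvd
    rcases (Nat.Prime.dvd_mul hord).1 hdvd with h | h
    · rcases (Nat.Prime.dvd_mul hord).1 h with h | h
      · rcases (Nat.Prime.dvd_mul hord).1 h with h | h
        · left; exact (Nat.prime_dvd_prime_iff_eq hord (by norm_num)).1 (hord.dvd_of_dvd_pow h)
        · right; left; exact (Nat.prime_dvd_prime_iff_eq hord (by norm_num)).1 (hord.dvd_of_dvd_pow h)
      · right; right; left; exact (Nat.prime_dvd_prime_iff_eq hord (by norm_num)).1 h
    · right; right; right; exact (Nat.prime_dvd_prime_iff_eq hord (by norm_num)).1 h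
  have hprime : ∀ q : ℕ, q.Prime → orderOf g = q → ¬ q ∣ 12 → False := by
    intro q hq he hdq
    have : Fact q.Prime := ⟨hq⟩
    -- the group generated by g acts on the complement
    let Δ : Finset Cfsg.GolayPt := Finset.univ \ Cfsg.Spor.squareDodecad
    have hΔ : ∀ x, x ∈ Δ ↔ g x ∈ Δ := by
      intro x
      simp only [Δ, Finset.mem_sdiff, Finset.mem_univ, true_and]
      have h2 := smul_mem_smul_iff' g Cfsg.Spor.squareDodecad x
      rw [hg1] at h2
      rw [h2]
    have hcΔ : Δ.card = 12 := by
      rw [Finset.card_sdiff_of_subset (Finset.subset_univ _), (mem_dodecads.1 hd).2]; decide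
    let τ : Equiv.Perm Δ := g.subtypePerm (fun x => (hΔ x).symm)
    have hτ : τ ^ q = 1 := by
      rw [Equiv.Perm.subtypePerm_pow]
      ext x
      have : g ^ q = 1 := by rw [← he]; exact pow_orderOf_eq_one g
      simp [Equiv.Perm.subtypePerm_apply, this]
    obtain ⟨x, hx⟩ := Equiv.Perm.exists_fixed_point_of_prime (p := q) (n := 1) (σ := τ)
      (by rw [Fintype.card_coe, hcΔ]; exact hdq) (by rw [pow_one]; exact hτ)
    have : g x = x := congrArg Subtype.val hx
    exact (Finset.mem_sdiff.1 x.2).2 (hin _ this)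
  rcases hp with h | h | h | h
  · have h2 := orderOf_eq_prime_iff.1 h
    obtain ⟨k, hk, e | e⟩ := inv_class hgM (by rw [← sq]; exact h2.1) h2.2
    · have := nfix_conj k g
      rw [e, nfix_reps.1] at this
      omega
    · have := nfix_conj k g
      rw [e, nfix_reps.2.1] at this
      omega
  · have h2 := orderOf_eq_prime_iff.1 h
    obtain ⟨k, hk, e | e⟩ := three_class hgM (by rw [← h2.1, pow_succ, sq]) h2.2
    · have := nfix_conj k g
      rw [e, nfix_reps.2.2.1] at this
      omega
    · have := nfix_conj k g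
      rw [e, nfix_reps.2.2.2] at this
      omega
  · exact hprime 5 (by norm_num) h (by norm_num)
  · exact hprime 11 (by norm_num) h (by norm_num)

end Cfsg.Agent.S5522
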